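import Cfsg.Agent.CIT.Basic
import Cfsg.Agent.Invol.BaerSuzuki
import Mathlib.GroupTheory.GroupAction.Quotient
import Mathlib.Algebra.Group.Conj
import Mathlib.Algebra.Module.End
import Mathlib.Algebra.Ring.GeomSum

/-!
CIT-groups acting on an elementary abelian 2-group without fixed points for elements of odd order.
-/

set_option autoImplicit false

namespace Cfsg.Agent.CIT

open Subgroup

variable {X V : Type*} [Group X] [Group V]

/-- A CIT-group acting faithfully on an elementary abelian 2-group, odd elements without fixed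
points. -/
structure Act (φ : X →* MulAut V) : Prop where
  exp : ∀ v : V, v * v = 1
  inj : Function.Injective φ
  fpf : ∀ w : X, Odd (orderOf w) → w ≠ 1 → ∀ v : V, φ w v = v → v = 1
  cit : IsCIT X

/-- The points fixed by `a`. -/
def fix (φ : X →* MulAut V) (a : X) : Subgroup V where
  carrier := {v | φ a v = v}
  one_mem' := map_one _
  mul_mem' := fun {u v} hu hv => show φ a (u * v) = u * v by rw [map_mul, hu, hv]
  inv_mem' := fun {u} hu => show φ a u⁻¹ = u⁻¹ by rw [map_inv, hu]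

theorem mem_fix {φ : X →* MulAut V} {a : X} {v : V} : v ∈ fix φ a ↔ φ a v = v := Iff.rfl

/-- The points fixed by all elements of `A`. -/
def fixS (φ : X →* MulAut V) (A : Subgroup X) : Subgroup V where
  carrier := {v | ∀ a ∈ A, φ a v = v}
  one_mem' := fun _ _ => map_one _
  mul_mem' := fun {u v} hu hv a ha => by rw [map_mul, hu a ha, hv a ha]
  inv_mem' := fun {u} hu a ha => by rw [map_inv, hu a ha]

theorem mem_fixS {φ : X →* MulAut V} {A : Subgroup X} {v : V} :
    v ∈ fixS φ A ↔ ∀ a ∈ A, φ a v = v := Iff.rfl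

theorem fixS_le_fix {φ : X →* MulAut V} {A : Subgroup X} {a : X} (ha : a ∈ A) :
    fixS φ A ≤ fix φ a := fun _ hv => hv a ha

variable {φ : X →* MulAut V} (h : Act φ)
include h

theorem Act.comm (u v : V) : u * v = v * u :=
  calc u * v = (u * v)⁻¹ := (inv_eq_of_mul_eq_one_right (h.exp _)).symm
    _ = v * u := by
      rw [mul_inv_rev, inv_eq_of_mul_eq_one_right (h.exp u), inv_eq_of_mul_eq_one_right (h.exp v)]

theorem Act.self_inv (u : V) : u⁻¹ = u := inv_eq_of_mul_eq_one_right (h.exp u)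

theorem Act.isPGroup : IsPGroup 2 V := fun v => ⟨1, by rw [pow_one, pow_two, h.exp]⟩

theorem Act.card_eq_two_pow [Finite V] : ∃ k : ℕ, Nat.card V = 2 ^ k := by
  haveI : Fact (Nat.Prime 2) := ⟨Nat.prime_two⟩
  exact IsPGroup.iff_card.mp h.isPGroup

theorem Act.one_lt_card [Finite V] [Nontrivial X] : 1 < Nat.card V := by
  by_contra hle
  haveI : Subsingleton V := Finite.card_le_one_iff_subsingleton.mp (by omega)
  obtain ⟨x, hx⟩ := exists_ne (1 : X)
  exact hx (h.inj (MulEquiv.ext fun v => Subsingleton.elim _ _))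

/-- Half lemma: an involution inverting a fixed point free element fixes exactly the square root. -/
theorem Act.half [Finite V] {a w : X} (ha : a * a = 1) (ho : Odd (orderOf w)) (hw : w ≠ 1)
    (hinv : a * w * a⁻¹ = w⁻¹) :
    Nat.card V = Nat.card (fix φ a) ^ 2 ∧
      ∀ u ∈ fix φ a, ∃ v : V, v * φ a v = u := by
  let ψ : V →* V := MonoidHom.mk' (fun v => v * φ a v) fun u v => by
    rw [map_mul, mul_assoc, ← mul_assoc v, h.comm v (φ a u)]
    group
  have hker : ψ.ker = fix φ a := by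
    ext v
    rw [MonoidHom.mem_ker, mem_fix]
    show v * φ a v = 1 ↔ _
    constructor
    · intro e; rw [eq_inv_of_mul_eq_one_right e, h.self_inv]
    · intro e; rw [e, h.exp]
  have hran : ψ.range ≤ fix φ a := by
    rintro _ ⟨v, rfl⟩
    show φ a (v * φ a v) = v * φ a v
    rw [map_mul, ← MulAut.mul_apply, ← map_mul, ha, map_one, MulAut.one_apply, h.comm]
  have h1 : Nat.card V ≤ Nat.card (fix φ a) * Nat.card (fix φ a) := by
    rw [← ψ.ker.card_mul_index, Subgroup.index_ker, hker]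
    exact Nat.mul_le_mul_left _ (Subgroup.card_le_of_le hran)
  have hw2 : w * w ≠ 1 := fun e => hw (by
    have h2 := orderOf_dvd_of_pow_eq_one (show w ^ 2 = 1 by rw [pow_two, e])
    have h3 : orderOf w = 1 := by
      rcases (Nat.dvd_prime Nat.prime_two).mp h2 with h3 | h3
      · exact h3
      · exact absurd (h3 ▸ ho) (by decide)
    exact orderOf_eq_one_iff.mp h3)
  have hmeet : ∀ u, u ∈ fix φ a → φ w u ∈ fix φ a → u = 1 := by
    intro u hu hwu
    rw [mem_fix] at hu hwu
    rw [← MulAut.mul_apply, ← map_mul, show a * w = w⁻¹ * a by rw [← hinv]; group, map_mul,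
      MulAut.mul_apply, hu] at hwu
    refine h.fpf (w * w) ?_ hw2 u ?_
    · rw [← pow_two]; exact Odd.of_dvd_nat ho (orderOf_pow_dvd 2)
    · calc φ (w * w) u = φ w (φ w u) := by rw [map_mul, MulAut.mul_apply]
        _ = φ w (φ w⁻¹ u) := by rw [hwu]
        _ = u := by rw [← MulAut.mul_apply, ← map_mul, mul_inv_cancel, map_one, MulAut.one_apply]
  have h2 : Nat.card (fix φ a) * Nat.card (fix φ a) ≤ Nat.card V := by
    rw [← Nat.card_prod]
    refine Nat.card_le_card_of_injective (fun p => (p.1 : V) * φ w p.2) ?_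
    rintro ⟨x, y⟩ ⟨x', y'⟩ e
    simp only at e
    have e' : ((x' : V))⁻¹ * x = φ w ((y' : V) * (y : V)⁻¹) := by
      rw [map_mul, map_inv, eq_mul_inv_iff_mul_eq, mul_assoc, e, inv_mul_cancel_left]
    have hy : (y' : V) * (y : V)⁻¹ = 1 := hmeet _ (mul_mem y'.2 (inv_mem y.2))
      (e' ▸ mul_mem (inv_mem x'.2) x.2)
    have hy' : y' = y := Subtype.ext (mul_inv_eq_one.mp hy)
    subst hy'
    exact Prod.ext (Subtype.ext (mul_right_cancel e)) rfl
  refine ⟨by rw [pow_two]; omega, fun u hu => ?_⟩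
  have hc : Nat.card (fix φ a) ≤ Nat.card ψ.range := by
    have h3 := ψ.ker.card_mul_index
    rw [Subgroup.index_ker, hker] at h3
    have hp : 0 < Nat.card (fix φ a) := Nat.card_pos
    by_contra hlt
    push Not at hlt
    have : Nat.card V < Nat.card (fix φ a) * Nat.card (fix φ a) := by
      rw [← h3]; exact Nat.mul_lt_mul_of_pos_left hlt hp
    omega
  obtain ⟨v, hv⟩ := (Subgroup.eq_of_le_of_card_ge hran hc).ge hu
  exact ⟨v, hv⟩

theorem Act.isPGroup_of_fix [Finite X] {P : Subgroup X} {v : V} (hv : v ≠ 1)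
    (hP : ∀ x ∈ P, φ x v = v) : IsPGroup 2 P :=
  isPGroup_of_no_odd fun x hx ho => by
    by_contra hx1
    exact hv (h.fpf x ho hx1 v (hP x hx))

/-- A subgroup of odd order acts semiregularly on the non-identity elements. -/
theorem Act.dvd_card_sub_one [Finite V] [Finite X] (K : Subgroup X) (hK : Odd (Nat.card K)) :
    Nat.card K ∣ Nat.card V - 1 := by
  classical
  letI : MulAction K {v : V // v ≠ 1} :=
    { smul := fun k v => ⟨φ (k : X) v.1, fun e => v.2 ((φ (k : X)).map_eq_one_iff.mp e)⟩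
      one_smul := fun v => Subtype.ext (show φ ((1 : K) : X) v.1 = v.1 by simp)
      mul_smul := fun k l v => Subtype.ext (show φ ((k * l : K) : X) v.1 = _ by
        rw [Subgroup.coe_mul, map_mul]; rfl) }
  haveI : Fintype V := Fintype.ofFinite V
  have hfree : ∀ v : {v : V // v ≠ 1}, MulAction.stabilizer K v = ⊥ := by
    intro v
    rw [Subgroup.eq_bot_iff_forall]
    intro k hk
    have e : φ (k : X) v.1 = v.1 := congrArg Subtype.val (MulAction.mem_stabilizer_iff.mp hk)
    by_contra hk1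
    refine v.2 (h.fpf k ?_ (fun e' => hk1 (Subtype.ext e')) v.1 e)
    rw [Subgroup.orderOf_coe]
    exact Odd.of_dvd_nat hK (orderOf_dvd_natCard k)
  haveI : Fintype (MulAction.orbitRel.Quotient K {v : V // v ≠ 1}) := Fintype.ofFinite _
  have hcard : Nat.card {v : V // v ≠ 1} = Nat.card V - 1 := by
    rw [Nat.card_eq_fintype_card, Fintype.card_subtype_compl, Fintype.card_subtype_eq,
      Nat.card_eq_fintype_card]
  have h2 := Nat.card_congr (MulAction.selfEquivSigmaOrbitsQuotientStabilizer K {v : V // v ≠ 1})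
  rw [← hcard, h2, Nat.card_sigma]
  refine Finset.dvd_sum fun i _ => ?_
  show Nat.card K ∣ (MulAction.stabilizer K (Quotient.out i)).index
  rw [hfree, Subgroup.index_bot]

theorem Act.dvd_of_odd [Finite V] [Finite X] {d : ℕ} (hd : Odd d) (hdX : d ∣ Nat.card X) :
    d ∣ Nat.card V - 1 := by
  refine (Nat.dvd_iff_prime_pow_dvd_dvd _ _).mpr fun p k hp hpk => ?_
  haveI : Fact p.Prime := ⟨hp⟩
  obtain ⟨K, hK⟩ := Sylow.exists_subgroup_card_pow_prime p (hpk.trans hdX)
  exact hK ▸ h.dvd_card_sub_one K (hK ▸ Odd.of_dvd_nat hd hpk)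

/-- Norms: a certain configuration of fixed point free elements of order `r` is impossible. -/
theorem Act.no_family [Finite X] [Finite V] [Nontrivial V] {p r : ℕ} (hp : Odd p) (hr : Odd r)
    (hr1 : 1 < r) (g : ℕ → X) (hg : ∀ i, g i ^ r = 1) (hg1 : ∀ i, g i ≠ 1)
    (hu : ∀ j, 1 ≤ j → j < r → ∃ u b : X, u ^ p = 1 ∧ u ≠ 1 ∧ ∀ i, g i ^ j = u ^ i * b) :
    False := by
  letI : CommGroup V := { (inferInstance : Group V) with mul_comm := h.comm }
  let E : X → AddMonoid.End (Additive V) := fun x => MonoidHom.toAdditive (φ x).toMonoidHom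
  have hE : ∀ x y, E (x * y) = E x * E y := fun x y => by
    refine AddMonoidHom.ext fun v => ?_
    show Additive.ofMul (φ (x * y) v.toMul) = Additive.ofMul (φ x (φ y v.toMul))
    rw [map_mul, MulAut.mul_apply]
  have hE1 : E 1 = 1 := by
    refine AddMonoidHom.ext fun v => ?_
    show Additive.ofMul (φ 1 v.toMul) = v
    rw [map_one, MulAut.one_apply]; rfl
  have hEp : ∀ (x : X) (n : ℕ), E (x ^ n) = E x ^ n := by
    intro x n
    induction n with
    | zero => rw [pow_zero, pow_zero, hE1]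
    | succ n ih => rw [pow_succ, hE, ih, pow_succ]
  have hnorm : ∀ (x : X) (n : ℕ), x ^ n = 1 → Odd n → x ≠ 1 →
      ∑ j ∈ Finset.range n, E x ^ j = 0 := by
    intro x n hxn hn hx
    refine AddMonoidHom.ext fun v => ?_
    have h2 : (E x - 1) * ∑ j ∈ Finset.range n, E x ^ j = 0 := by
      rw [mul_geom_sum, ← hEp, hxn, hE1, sub_self]
    have h3 := DFunLike.congr_fun h2 v
    set y := (∑ j ∈ Finset.range n, E x ^ j) v
    have h4 : E x y - y = 0 := h3
    have h5 : φ x y.toMul = y.toMul := congrArg Additive.toMul (sub_eq_zero.mp h4)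
    have h6 := h.fpf x (Odd.of_dvd_nat hn (orderOf_dvd_of_pow_eq_one hxn)) hx _ h5
    show y = 0
    exact congrArg Additive.ofMul h6
  have hsum : ∑ i ∈ Finset.range p, ∑ j ∈ Finset.range r, E (g i) ^ j = 0 :=
    Finset.sum_eq_zero fun i _ => hnorm _ _ (hg i) hr (hg1 i)
  rw [Finset.sum_comm, ← Finset.insert_erase (Finset.mem_range.mpr (show 0 < r by omega)),
    Finset.sum_insert (Finset.notMem_erase _ _)] at hsum
  have h0 : ∑ j ∈ (Finset.range r).erase 0, ∑ i ∈ Finset.range p, E (g i) ^ j = 0 := by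
    refine Finset.sum_eq_zero fun j hj => ?_
    obtain ⟨hj0, hjr⟩ := Finset.mem_erase.mp hj
    obtain ⟨u, b, hup, hu1, hub⟩ := hu j (Nat.one_le_iff_ne_zero.mpr hj0) (Finset.mem_range.mp hjr)
    rw [Finset.sum_congr rfl (fun i _ => by rw [← hEp, hub i, hE, hEp]), ← Finset.sum_mul,
      hnorm u p hup hp hu1, zero_mul]
  rw [h0, add_zero] at hsum
  simp only [pow_zero, Finset.sum_const, Finset.card_range] at hsum
  obtain ⟨v, hv⟩ := exists_ne (1 : V)
  have h7 := DFunLike.congr_fun hsum (Additive.ofMul v)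
  have h8 : v ^ p = 1 := by
    have h9 : p • Additive.ofMul v = 0 := by
      simpa using h7
    exact congrArg Additive.toMul h9
  obtain ⟨k, rfl⟩ := hp
  rw [pow_succ, pow_mul, pow_two, h.exp, one_pow, one_mul] at h8
  exact hv h8

theorem Act.no_pp [Finite X] [Finite V] [Nontrivial V] {p : ℕ} (hp : p.Prime) (hp2 : p ≠ 2)
    {x y : X} (hc : x * y = y * x) (hx : orderOf x = p) (hy : orderOf y = p)
    (hne : y ∉ Subgroup.zpowers x) : False := by
  have hodd : Odd p := hp.odd_of_ne_two hp2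
  refine h.no_family (p := p) (r := p) hodd hodd hp.one_lt (fun i => x ^ i * y) (fun i => ?_)
    (fun i e => hne ?_) (fun j hj1 hjp => ⟨x ^ j, y ^ j, ?_, ?_, fun i => ?_⟩)
  · rw [((show Commute x y from hc).pow_left i).mul_pow, ← pow_mul, mul_comm i p, pow_mul,
      ← hx, pow_orderOf_eq_one, one_pow, one_mul, hx, ← hy, pow_orderOf_eq_one]
  · rw [eq_inv_of_mul_eq_one_right e]
    exact inv_mem (Subgroup.pow_mem _ (Subgroup.mem_zpowers x) i)
  · rw [← pow_mul, mul_comm, pow_mul, ← hx, pow_orderOf_eq_one, one_pow]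
  · intro e
    have h1 := orderOf_dvd_of_pow_eq_one e
    rw [hx] at h1
    have := Nat.le_of_dvd (by omega) h1
    omega
  · rw [((show Commute x y from hc).pow_left i).mul_pow, ← pow_mul, mul_comm i j, pow_mul]

theorem Act.no_frobenius [Finite X] [Finite V] [Nontrivial V] {p r : ℕ} (hp : p.Prime) (hp2 : p ≠ 2)
    (hr : r.Prime) (hr2 : r ≠ 2) {x y : X} (hx : orderOf x = p) (hy : orderOf y = r)
    (hn : y * x * y⁻¹ ∈ Subgroup.zpowers x) (hne : x * y ≠ y * x) : False := by
  have hpow : ∀ j : ℕ, y ^ j * x * (y ^ j)⁻¹ ∈ Subgroup.zpowers x := by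
    intro j
    induction j with
    | zero => simpa using Subgroup.mem_zpowers x
    | succ j ih =>
      obtain ⟨i, hi⟩ := Subgroup.mem_zpowers_iff.mp hn
      rw [show y ^ (j + 1) * x * (y ^ (j + 1))⁻¹ = y ^ j * (y * x * y⁻¹) * (y ^ j)⁻¹ by
        rw [pow_succ]; group, ← hi,
        show y ^ j * x ^ i * (y ^ j)⁻¹ = (y ^ j * x * (y ^ j)⁻¹) ^ i from
          (map_zpow (MulAut.conj (y ^ j)).toMonoidHom x i)]
      exact Subgroup.zpow_mem _ ih i
  refine h.no_family (p := p) (r := r) (hp.odd_of_ne_two hp2) (hr.odd_of_ne_two hr2) hr.one_lt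
    (fun i => x ^ i * y * (x ^ i)⁻¹) (fun i => ?_) (fun i e => ?_)
    (fun j hj1 hjr => ⟨x * (y ^ j * x⁻¹ * (y ^ j)⁻¹), y ^ j, ?_, ?_, fun i => ?_⟩)
  · rw [conj_pow, ← hy, pow_orderOf_eq_one, mul_one, mul_inv_cancel]
  · rw [mul_inv_eq_one] at e
    have : y = 1 := mul_left_cancel (e.trans (mul_one _).symm)
    rw [this, orderOf_one] at hy
    exact hr.one_lt.ne hy
  · obtain ⟨k, hk⟩ := Subgroup.mem_zpowers_iff.mp (hpow j)
    rw [show y ^ j * x⁻¹ * (y ^ j)⁻¹ = (y ^ j * x * (y ^ j)⁻¹)⁻¹ by group, ← hk,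
      ((Commute.refl x).zpow_right k).inv_right.mul_pow, ← hx, pow_orderOf_eq_one, one_mul,
      inv_pow, ← zpow_natCast, ← zpow_mul, mul_comm, zpow_mul, zpow_natCast, pow_orderOf_eq_one,
      one_zpow, inv_one]
  · intro e
    have h1 : Commute x (y ^ j) := by
      show x * y ^ j = y ^ j * x
      calc x * y ^ j = (x * (y ^ j * x⁻¹ * (y ^ j)⁻¹)) * (y ^ j * x) := by group
        _ = y ^ j * x := by rw [e, one_mul]
    obtain ⟨k, hk⟩ := exists_pow_eq_self_of_coprime (x := y) (n := j) (by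
      rw [hy]; exact (hr.coprime_iff_not_dvd.mpr fun hd => by
        have := Nat.le_of_dvd (by omega) hd; omega).symm)
    exact hne (hk ▸ h1.pow_right k).eq
  · obtain ⟨k, hk⟩ := Subgroup.mem_zpowers_iff.mp (hpow j)
    have hcomm : Commute x (y ^ j * x⁻¹ * (y ^ j)⁻¹) := by
      rw [show y ^ j * x⁻¹ * (y ^ j)⁻¹ = (y ^ j * x * (y ^ j)⁻¹)⁻¹ by group, ← hk]
      exact ((Commute.refl x).zpow_right k).inv_right
    rw [conj_pow, hcomm.mul_pow, conj_pow, inv_pow]
    group

/-- An involution outside every normal 2-subgroup has half fixed space. -/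
theorem Act.half_of_no_normal [Finite X] [Finite V]
    (hN : ∀ N : Subgroup X, N.Normal → IsPGroup 2 N → N = ⊥) {a : X} (ha : orderOf a = 2) :
    Nat.card V = Nat.card (fix φ a) ^ 2 ∧ ∀ u ∈ fix φ a, ∃ v : V, v * φ a v = u := by
  classical
  obtain ⟨w, hw, hwo, hinv⟩ := Invol.exists_inverted_odd a ha fun N hn hp hm => by
    rw [hN N hn hp, Subgroup.mem_bot] at hm
    exact ne_one_of_orderOf ha hm
  exact h.half (sq_of_orderOf ha) hwo hw hinv

end Cfsg.Agent.CIT
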