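import Cfsg.Agent.CIT.NatFacts
import Mathlib.Algebra.Group.Subgroup.Pointwise

/-!
The amalgam of a pair: some edge is critical, so that both vertices are natural and `b = 1`.
-/

set_option autoImplicit false

universe u

namespace Cfsg.Agent.CIT

open Subgroup
open scoped Pointwise

variable {G : Type u} [Group G]

/-- An edge of the graph of the pair. -/
def IsEdge (L1 L2 R L L' S : Subgroup G) : Prop :=
  ∃ g ∈ L1 ⊔ L2, (L = cj g L1 ∧ L' = cj g L2 ∧ S = cj g R) ∨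
    (L = cj g L2 ∧ L' = cj g L1 ∧ S = cj g R)

/-- Walks of a given length. -/
def Reach (L1 L2 R : Subgroup G) : ℕ → Subgroup G → Subgroup G → Prop
  | 0, L, L' => L = L'
  | n + 1, L, L' => ∃ M S, IsEdge L1 L2 R L M S ∧ Reach L1 L2 R n M L'

variable {L1 L2 R : Subgroup G}

theorem IsEdge.symm {L L' S : Subgroup G} (h : IsEdge L1 L2 R L L' S) : IsEdge L1 L2 R L' L S := by
  obtain ⟨g, hg, ⟨h1, h2, h3⟩ | ⟨h1, h2, h3⟩⟩ := h
  · exact ⟨g, hg, Or.inr ⟨h2, h1, h3⟩⟩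
  · exact ⟨g, hg, Or.inl ⟨h2, h1, h3⟩⟩

theorem IsEdge.conj {L L' S : Subgroup G} (h : IsEdge L1 L2 R L L' S) {a : G} (ha : a ∈ L1 ⊔ L2) :
    IsEdge L1 L2 R (cj a L) (cj a L') (cj a S) := by
  obtain ⟨g, hg, ⟨rfl, rfl, rfl⟩ | ⟨rfl, rfl, rfl⟩⟩ := h
  · exact ⟨a * g, mul_mem ha hg, Or.inl ⟨cj_cj _ _ _, cj_cj _ _ _, cj_cj _ _ _⟩⟩
  · exact ⟨a * g, mul_mem ha hg, Or.inr ⟨cj_cj _ _ _, cj_cj _ _ _, cj_cj _ _ _⟩⟩

theorem IsEdge.pair [Finite G] (hP : Pair L1 L2 R) {L L' S : Subgroup G} (h : IsEdge L1 L2 R L L' S) :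
    Pair L L' S := by
  obtain ⟨g, -, ⟨rfl, rfl, rfl⟩ | ⟨rfl, rfl, rfl⟩⟩ := h
  · exact hP.cj g
  · exact (hP.cj g).symm

theorem IsEdge.le {L L' S : Subgroup G} (h : IsEdge L1 L2 R L L' S) : L ≤ L1 ⊔ L2 := by
  obtain ⟨g, hg, ⟨rfl, -, -⟩ | ⟨rfl, -, -⟩⟩ := h
  · conv_rhs => rw [← cj_eq_of_mem hg]
    exact cj_mono g le_sup_left
  · conv_rhs => rw [← cj_eq_of_mem hg]
    exact cj_mono g le_sup_right

theorem Reach.snoc : ∀ {n : ℕ} {L M L' S : Subgroup G}, Reach L1 L2 R n L M →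
    IsEdge L1 L2 R M L' S → Reach L1 L2 R (n + 1) L L'
  | 0, _, _, L', S, h, he => ⟨L', S, h ▸ he, rfl⟩
  | _ + 1, _, _, _, _, ⟨N, T, hT, hN⟩, he => ⟨N, T, hT, hN.snoc he⟩

theorem Reach.last : ∀ {n : ℕ} {L L' : Subgroup G}, Reach L1 L2 R (n + 1) L L' →
    ∃ M S, Reach L1 L2 R n L M ∧ IsEdge L1 L2 R M L' S
  | 0, L, _, ⟨_, S, hS, rfl⟩ => ⟨L, S, rfl, hS⟩
  | _ + 1, _, _, ⟨N, T, hT, hN⟩ => by
    obtain ⟨M, S, hM, hS⟩ := hN.last
    exact ⟨M, S, ⟨N, T, hT, hM⟩, hS⟩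

theorem Reach.symm : ∀ {n : ℕ} {L L' : Subgroup G}, Reach L1 L2 R n L L' → Reach L1 L2 R n L' L
  | 0, _, _, h => Eq.symm h
  | _ + 1, _, _, ⟨_, _, hT, hN⟩ => hN.symm.snoc hT.symm

theorem Reach.trans : ∀ {m n : ℕ} {L M L' : Subgroup G}, Reach L1 L2 R m L M →
    Reach L1 L2 R n M L' → Reach L1 L2 R (m + n) L L'
  | 0, n, _, _, _, h, h' => by rw [Nat.zero_add]; exact h ▸ h'
  | m + 1, n, _, _, _, ⟨N, T, hT, hN⟩, h' => by
    rw [Nat.add_right_comm]; exact ⟨N, T, hT, hN.trans h'⟩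

theorem Reach.conj : ∀ {n : ℕ} {L L' : Subgroup G}, Reach L1 L2 R n L L' →
    ∀ {a : G}, a ∈ L1 ⊔ L2 → Reach L1 L2 R n (cj a L) (cj a L')
  | 0, _, _, h, _, _ => congrArg _ h
  | _ + 1, _, _, ⟨_, _, hT, hN⟩, _, ha => ⟨_, _, hT.conj ha, hN.conj ha⟩

theorem reach_conj {g : G} (hg : g ∈ L1 ⊔ L2) : ∃ n, Reach L1 L2 R n L1 (cj g L1) := by
  have he : IsEdge L1 L2 R L1 L2 R :=
    ⟨1, one_mem _, Or.inl ⟨(cj_one _).symm, (cj_one _).symm, (cj_one _).symm⟩⟩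
  rw [sup_eq_closure] at hg
  induction hg using Subgroup.closure_induction with
  | mem x hx =>
    rcases hx with hx | hx
    · exact ⟨0, show L1 = cj x L1 by rw [cj_eq_of_mem hx]⟩
    · refine ⟨2, L2, R, he, ?_⟩
      have := he.symm.conj (a := x) (Subgroup.mem_sup_right hx)
      rw [cj_eq_of_mem hx] at this
      exact ⟨_, _, this, rfl⟩
  | one => exact ⟨0, show L1 = cj 1 L1 by rw [cj_one]⟩
  | mul x y hx hy hx' hy' =>
    obtain ⟨m, hm⟩ := hx'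
    obtain ⟨n, hn⟩ := hy'
    refine ⟨m + n, hm.trans ?_⟩
    rw [← cj_cj]
    exact hn.conj (by rw [sup_eq_closure]; exact hx)
  | inv x hx hx' =>
    obtain ⟨n, hn⟩ := hx'
    have := (hn.conj (a := x⁻¹) (inv_mem (by rw [sup_eq_closure]; exact hx))).symm
    rw [cj_inv_cj] at this
    exact ⟨n, this⟩

variable [Finite G]

/-- The central involutions of an edge, seen from either end. -/
theorem zz_eq {L L' S : Subgroup G} (hC : IsCIT G) (hV : Vertex L) (hV' : Vertex L') (hS : SylIn L S)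
    (hS' : SylIn L' S) : zz L S = zz L' S := by
  ext v
  constructor
  · rintro ⟨hv, hc⟩
    exact ⟨hV'.mem_vv hC hS' (pc_le_sylIn hS (vv_le L hv)) (vv_sq hv)
      (Subgroup.mem_centralizer_iff.mp hc), hc⟩
  · rintro ⟨hv, hc⟩
    exact ⟨hV.mem_vv hC hS (pc_le_sylIn hS' (vv_le L' hv)) (vv_sq hv)
      (Subgroup.mem_centralizer_iff.mp hc), hc⟩

theorem relIndex_mul_card_inf {H K : Subgroup G} :
    Nat.card K = Nat.card (H ⊓ K : Subgroup G) * H.relIndex K := by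
  rw [← Subgroup.inf_relIndex_right H K]
  exact card_eq_mul_relIndex inf_le_right

/-- What a critical pair of vertices gives. -/
structure Crit (A B S T : Subgroup G) (q : ℕ) : Prop where
  natA : NatV A q
  natB : NatV B q
  eqS : vv B ⊔ pc A = S
  eqT : vv A ⊔ pc B = T
  dA : vv A ⊓ vv B = zz A S
  dB : vv A ⊓ vv B = zz B T

theorem crit_half [IsSimpleGroup G] (hC : IsCIT G) (hns : ¬ Group.IsSolvable G)
    (hB : SimpleBelow.{u} (Nat.card G)) {A B T : Subgroup G} (hVB : Vertex B) (hT : SylIn B T)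
    (hAT : vv A ≤ T) (hAB : ¬ vv A ≤ pc B) (hBA : vv B ≤ A)
    (hle : (pc A).relIndex (vv B) ≤ (pc B).relIndex (vv A)) :
    NatV B ((pc B).relIndex (vv A)) ∧ vv A ⊔ pc B = T ∧
      (pc A).relIndex (vv B) = (pc B).relIndex (vv A) ∧ vv A ⊓ vv B = zz B T := by
  have hAB' : vv A ≤ B := hAT.trans hT.1
  have hsub : pc A ⊓ vv B ≤ vv B ⊓ centralizer ((vv A : Subgroup G) : Set G) := fun v hv =>
    ⟨hv.2, Subgroup.mem_centralizer_iff.mpr fun a ha => (vv_comm ha hv.1).symm⟩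
  have hsq : ∀ x ∈ vv A, x * x ∈ pc B := fun x hx => by rw [vv_sq hx]; exact one_mem _
  have hoff : Nat.card (vv B) ≤
      (pc B).relIndex (vv A) * Nat.card (vv B ⊓ centralizer ((vv A : Subgroup G) : Set G) : Subgroup G) := by
    rw [relIndex_mul_card_inf (H := pc A) (K := vv B), mul_comm]
    exact Nat.mul_le_mul hle (Subgroup.card_le_of_le hsub)
  obtain ⟨hnat, hsyl⟩ := natV_of_offender hC hns hB hVB hAB' hsq hAB hoff
  have hT' : vv A ⊔ pc B = T :=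
    (hsyl.2.2 T (sup_le hAT (pc_le_sylIn hT)) hT.1 hT.2.1).symm
  have hq := hnat.cardfix T hT
  have hcent : vv B ⊓ centralizer ((vv A : Subgroup G) : Set G) ≤ vv B ⊓ centralizer (T : Set G) := by
    rintro v ⟨hv, hc⟩
    have hle : T ≤ centralizer ({v} : Set G) := hT' ▸ sup_le
      (fun b hb => Subgroup.mem_centralizer_singleton_iff.mpr (Subgroup.mem_centralizer_iff.mp hc b hb))
      (fun y hy => Subgroup.mem_centralizer_singleton_iff.mpr (vv_comm hv hy))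
    exact ⟨hv, Subgroup.mem_centralizer_iff.mpr fun y hy =>
      Subgroup.mem_centralizer_singleton_iff.mp (hle hy)⟩
  refine ⟨hnat, hT', le_antisymm hle ?_, ?_⟩
  · refine Nat.le_of_mul_le_mul_right ?_ (show 0 < (pc B).relIndex (vv A) by have := hnat.q2; omega)
    calc (pc B).relIndex (vv A) * (pc B).relIndex (vv A) = Nat.card (vv B) := hnat.cardV.symm
      _ = Nat.card (pc A ⊓ vv B : Subgroup G) * (pc A).relIndex (vv B) := relIndex_mul_card_inf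
      _ ≤ (pc B).relIndex (vv A) * (pc A).relIndex (vv B) := Nat.mul_le_mul_right _ (by
          rw [← hq]; exact Subgroup.card_le_of_le (hsub.trans hcent))
      _ = (pc A).relIndex (vv B) * (pc B).relIndex (vv A) := mul_comm _ _
  · refine le_antisymm ?_ ?_
    · rintro v ⟨hvA, hvB⟩
      exact hcent ⟨hvB, Subgroup.mem_centralizer_iff.mpr fun a ha => vv_comm hvA (vv_le A ha)⟩
    · intro u hu
      obtain ⟨x, hx, hxB⟩ := SetLike.not_le_iff_exists.mp hAB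
      obtain ⟨v, hv, e⟩ := hnat.surj T hT x (hAT hx) hxB u hu.1 hu.2
      refine ⟨?_, hu.1⟩
      have h1 : v * x * v⁻¹ ∈ vv A := (Subgroup.mem_normalizer_iff.mp (le_normalizer_vv A (hBA hv)) x).mp hx
      rw [inv_of_sq (vv_sq hv)] at h1
      rw [← e, show v * (x * v * x⁻¹) = v * x * v * x⁻¹ by group]
      exact mul_mem h1 ((vv A).inv_mem hx)

theorem crit [IsSimpleGroup G] (hC : IsCIT G) (hns : ¬ Group.IsSolvable G)
    (hB : SimpleBelow.{u} (Nat.card G)) (hP : Pair L1 L2 R) {b : ℕ}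
    (hmin : ∀ n < b, ∀ U U', Reach L1 L2 R n U U' → vv U ≤ pc U')
    {A A' S B B' T : Subgroup G} (hA : IsEdge L1 L2 R A A' S) (hA' : ∃ n < b, Reach L1 L2 R n A' B)
    (hBe : IsEdge L1 L2 R B' B T) (hB' : ∃ n < b, Reach L1 L2 R n A B') (hnot : ¬ vv A ≤ pc B) :
    ∃ q, Crit A B S T q := by
  have hPA := hA.pair hP
  have hPB := hBe.pair hP
  obtain ⟨n, hn, hn'⟩ := hA'
  obtain ⟨m, hm, hm'⟩ := hB'
  have hBS : vv B ≤ S := (hmin n hn B A' hn'.symm).trans (pc_le_sylIn hPA.s2)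
  have hAT : vv A ≤ T := (hmin m hm A B' hm').trans (pc_le_sylIn hPB.s1)
  have hnot' : ¬ vv B ≤ pc A := fun hle => hnot fun v hv =>
    hPB.v2.cent_vv hC (hPB.s2.1 (hAT hv)) fun w hw => (vv_comm hv (hle hw)).symm
  rcases le_total ((pc A).relIndex (vv B)) ((pc B).relIndex (vv A)) with hle | hle
  · obtain ⟨h1, h2, h3, h4⟩ := crit_half hC hns hB hPB.v2 hPB.s2 hAT hnot
      (hBS.trans hPA.s1.1) hle
    obtain ⟨h1', h2', -, h4'⟩ := crit_half hC hns hB hPA.v1 hPA.s1 hBS hnot'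
      (hAT.trans hPB.s2.1) h3.ge
    exact ⟨_, ⟨h3 ▸ h1', h1, h2', h2, (inf_comm _ _).trans h4', h4⟩⟩
  · obtain ⟨h1', h2', h3', h4'⟩ := crit_half hC hns hB hPA.v1 hPA.s1 hBS hnot'
      (hAT.trans hPB.s2.1) hle
    obtain ⟨h1, h2, -, h4⟩ := crit_half hC hns hB hPB.v2 hPB.s2 hAT hnot
      (hBS.trans hPA.s1.1) h3'.ge
    exact ⟨_, ⟨h1', h3' ▸ h1, h2', h2, (inf_comm _ _).trans h4', h4⟩⟩

theorem exists_critical [IsSimpleGroup G] (hC : IsCIT G) (hP : Pair L1 L2 R) :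
    ∃ n U U', Reach L1 L2 R n U U' ∧ ¬ vv U ≤ pc U' := by
  by_contra hc
  push Not at hc
  -- otherwise all the modules generate a common normal subgroup
  let W : Subgroup G := Subgroup.closure {x | ∃ g ∈ L1 ⊔ L2, x ∈ cj g (vv L1)}
  have hW : ∀ g ∈ L1 ⊔ L2, L1 ⊔ L2 ≤ normalizer (W : Set G) := by
    intro _ _ h hh
    refine mem_normalizer_of_cj_eq (Subgroup.eq_of_le_of_card_ge ?_ (card_cj h W).ge)
    show W.map _ ≤ W
    rw [MonoidHom.map_closure, Subgroup.closure_le]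
    rintro _ ⟨x, ⟨g, hg, hx⟩, rfl⟩
    exact Subgroup.subset_closure ⟨h * g, mul_mem hh hg, by rw [← cj_cj]; exact conj_mem_cj hx⟩
  have hWle : W ≤ pc L1 := by
    rw [Subgroup.closure_le]
    rintro x ⟨g, hg, hx⟩
    obtain ⟨n, hn⟩ := reach_conj (R := R) hg
    rw [← vv_cj] at hx
    exact hc n _ _ hn.symm hx
  have hWne : W ≠ ⊥ := by
    intro e
    refine hP.v1.vv_ne (eq_bot_iff.mpr fun x hx => ?_)
    rw [← e]
    exact Subgroup.subset_closure ⟨1, one_mem _, by rw [cj_one]; exact hx⟩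
  have := hW 1 (one_mem _)
  exact hP.nocommon W hWne (hWle.trans (pc_le_sylIn hP.s1))
    ⟨le_sup_left.trans this, le_sup_right.trans this⟩

/-- Some edge is critical: the two vertices are natural and their modules do not commute. -/
theorem exists_crit_edge [IsSimpleGroup G] (hC : IsCIT G) (hns : ¬ Group.IsSolvable G)
    (hB : SimpleBelow.{u} (Nat.card G)) (hP : Pair L1 L2 R) :
    ∃ A B S : Subgroup G, ∃ q, Pair A B S ∧ Crit A B S S q := by
  classical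
  have hex := exists_critical hC hP
  set b := Nat.find hex with hb
  obtain ⟨A, B, hAB, hnot⟩ := Nat.find_spec hex
  rw [← hb] at hAB
  have hmin : ∀ n < b, ∀ U U', Reach L1 L2 R n U U' → vv U ≤ pc U' := fun n hn U U' hr => by
    by_contra hc
    exact Nat.find_min hex hn ⟨U, U', hr, hc⟩
  rcases hb' : b with _ | _ | k
  · rw [hb'] at hAB
    exact absurd ((show A = B from hAB) ▸ vv_le A) hnot
  · rw [hb'] at hAB
    obtain ⟨A', S, hA, hA'⟩ := hAB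
    obtain rfl : A' = B := hA'
    obtain ⟨q, hq⟩ := crit hC hns hB hP hmin hA ⟨0, by omega, rfl⟩ hA ⟨0, by omega, rfl⟩ hnot
    exact ⟨A, A', S, q, hA.pair hP, hq⟩
  exfalso
  rw [hb'] at hAB
  obtain ⟨A', S, hA, hA'⟩ := id hAB
  obtain ⟨M, T, hAM, hMB⟩ := hAB.last
  obtain ⟨P, U, hAP, hPM⟩ := hAM.last
  obtain ⟨q, hq⟩ := crit hC hns hB hP hmin hA ⟨k + 1, by omega, hA'⟩ hMB ⟨k + 1, by omega, hAM⟩ hnot
  have hPA := hA.pair hP
  have hPB := hMB.pair hP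
  have hAH : A ≤ L1 ⊔ L2 := hA.le
  have hmove : ∀ g ∈ A, IsEdge L1 L2 R A (cj g A') (cj g S) := fun g hg => by
    have := hA.conj (hAH hg)
    rwa [cj_eq_of_mem hg] at this
  -- at most one neighbour is bad
  have hbad : ∀ g ∈ A, ¬ vv (cj g A') ≤ pc M → zz A (cj g S) = zz M U := by
    intro g hg hgM
    have he := (hmove g hg).symm
    obtain ⟨q', hq'⟩ := crit hC hns hB hP hmin he ⟨k + 1, by omega, hAM⟩ hPM
      ⟨k + 1, by omega, ⟨A, _, he, hAP⟩⟩ hgM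
    have hp := (hmove g hg).pair hP
    rw [zz_eq hC hp.v1 hp.v2 hp.s1 hp.s2, ← hq'.dA, hq'.dB]
  -- a good neighbour
  obtain ⟨g, hg, hgS, hgood⟩ : ∃ g ∈ A, cj g S ≠ S ∧ vv (cj g A') ≤ pc M := by
    by_contra hcc
    push Not at hcc
    have huniq : ∀ X Y : {X : Subgroup G // SylIn A X}, X.1 ≠ S → Y.1 ≠ S → X = Y := by
      intro X Y hX hY
      obtain ⟨g, hg, hgX⟩ := hPA.s1.conj X.2
      obtain ⟨g', hg', hgY⟩ := hPA.s1.conj Y.2
      have h1 := hbad g hg (hcc g hg (hgX ▸ hX))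
      have h2 := hbad g' hg' (hcc g' hg' (hgY ▸ hY))
      rw [hgX] at h1
      rw [hgY] at h2
      obtain ⟨v, hv, hv1⟩ := hq.natA.exists_zz X.2
      have hv' : v ∈ zz A Y.1 := by rw [h2, ← h1]; exact hv
      exact Subtype.ext (sylIn_eq_of_fix hC X.2 Y.2 hv.1 hv1 hv.2 hv'.2)
    haveI : Subsingleton {X : {X : Subgroup G // SylIn A X} // X ≠ ⟨S, hPA.s1⟩} :=
      ⟨fun X Y => Subtype.ext (huniq _ _ (fun e => X.2 (Subtype.ext e)) (fun e => Y.2 (Subtype.ext e)))⟩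
    haveI : Fintype {X : Subgroup G // SylIn A X} := Fintype.ofFinite _
    have h3 := Finite.card_le_one_iff_subsingleton.mpr
      (inferInstance : Subsingleton {X : {X : Subgroup G // SylIn A X} // X ≠ ⟨S, hPA.s1⟩})
    rw [Nat.card_eq_fintype_card, Fintype.card_subtype_compl, Fintype.card_subtype_eq,
      ← Nat.card_eq_fintype_card, hq.natA.card_sylIn hC] at h3
    have := hq.natA.q2
    omega
  have hp := (hmove g hg).pair hP
  have hS' : SylIn A (cj g S) := hp.s1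
  set C := cj g A' with hCdef
  set S' := cj g S with hS'def
  have hCS : vv C ≤ S' := (vv_le C).trans (pc_le_sylIn hp.s2)
  have hAS : vv A ≤ S' := (vv_le A).trans (pc_le_sylIn hS')
  have hCT : vv C ≤ T := hgood.trans (pc_le_sylIn hPB.s1)
  have hTA : ∀ x ∈ T, ∀ y ∈ vv B, x * y * x⁻¹ * y⁻¹ ∈ vv A := by
    intro x hx y hy
    have hx' : x ∈ ((vv A : Subgroup G) : Set G) * ((pc B : Subgroup G) : Set G) := by
      rw [← Subgroup.coe_mul_of_left_le_normalizer_right _ _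
        (((hq.eqT ▸ le_sup_left : vv A ≤ T).trans hPB.s2.1).trans (le_normalizer_pc B)), hq.eqT]
      exact hx
    obtain ⟨v, hv, u, hu, rfl⟩ := Set.mem_mul.mp hx'
    have hyA : y ∈ A := hPA.s1.1 (hq.eqS ▸ Subgroup.mem_sup_left hy)
    have huy : u * y * u⁻¹ = y := by rw [vv_comm hy hu, mul_inv_cancel_right]
    rw [show v * u * y * (v * u)⁻¹ * y⁻¹ = v * (u * y * u⁻¹) * v⁻¹ * y⁻¹ by group, huy,
      show v * y * v⁻¹ * y⁻¹ = v * (y * v⁻¹ * y⁻¹) by group]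
    exact mul_mem hv ((Subgroup.mem_normalizer_iff.mp (le_normalizer_vv A hyA) _).mp (inv_mem hv))
  -- the elements centralising `W/vv A`
  set W := vv A ⊔ vv C with hW
  have hWS : W ≤ S' := sup_le hAS hCS
  let C0 : Subgroup G :=
    { carrier := {y | y ∈ A ∧ ∀ x ∈ W, y * x * y⁻¹ * x⁻¹ ∈ vv A}
      one_mem' := ⟨one_mem _, fun x _ => by simp⟩
      mul_mem' := fun {y z} hy hz => ⟨mul_mem hy.1 hz.1, fun x hx => by
        rw [show y * z * x * (y * z)⁻¹ * x⁻¹ =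
          y * (z * x * z⁻¹ * x⁻¹) * y⁻¹ * (y * x * y⁻¹ * x⁻¹) by group]
        exact mul_mem ((Subgroup.mem_normalizer_iff.mp (le_normalizer_vv A hy.1) _).mp (hz.2 x hx))
          (hy.2 x hx)⟩
      inv_mem' := fun {y} hy => ⟨inv_mem hy.1, fun x hx => by
        rw [show y⁻¹ * x * y⁻¹⁻¹ * x⁻¹ = y⁻¹ * (y * x * y⁻¹ * x⁻¹)⁻¹ * y⁻¹⁻¹ by group]
        exact (Subgroup.mem_normalizer_iff.mp (le_normalizer_vv A (inv_mem hy.1)) _).mp
          (inv_mem (hy.2 x hx))⟩ }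
  have hBC0 : vv B ≤ C0 := by
    intro y hy
    have hyA : y ∈ A := hPA.s1.1 (hq.eqS ▸ Subgroup.mem_sup_left hy)
    refine ⟨hyA, fun x hx => ?_⟩
    have hn := fun {a : G} (ha : a ∈ vv A) =>
      mul_mem ((Subgroup.mem_normalizer_iff.mp (le_normalizer_vv A hyA) a).mp ha) (inv_mem ha)
    rw [hW, sup_comm] at hx
    have hx' : x ∈ ((vv C : Subgroup G) : Set G) * ((vv A : Subgroup G) : Set G) := by
      rw [← Subgroup.coe_mul_of_left_le_normalizer_right _ _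
        ((hCS.trans hS'.1).trans (le_normalizer_vv A))]
      exact hx
    obtain ⟨c, hc, a, ha, rfl⟩ := Set.mem_mul.mp hx'
    rw [show y * (c * a) * y⁻¹ * (c * a)⁻¹ =
      (y * c * y⁻¹ * c⁻¹) * (c * (y * a * y⁻¹ * a⁻¹) * c⁻¹) by group]
    refine mul_mem ?_ ((Subgroup.mem_normalizer_iff.mp (le_normalizer_vv A (hS'.1 (hCS hc))) _).mp (hn ha))
    rw [show y * c * y⁻¹ * c⁻¹ = (c * y * c⁻¹ * y⁻¹)⁻¹ by group]
    exact inv_mem (hTA c (hCT hc) y hy)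
  have hWn : S' ≤ normalizer (W : Set G) := fun r hr => mem_normalizer_of_cj_eq (by
    rw [hW, cj_sup, cj_eq_of_mem_normalizer (le_normalizer_vv A (hS'.1 hr)),
      cj_eq_of_mem_normalizer (le_normalizer_vv C (hp.s2.1 hr))])
  have hC0r : ∀ r ∈ S', cj r C0 ≤ C0 := by
    intro r hr
    rintro _ ⟨y, hy, rfl⟩
    refine ⟨mul_mem (mul_mem (hS'.1 hr) hy.1) (inv_mem (hS'.1 hr)), fun x hx => ?_⟩
    show r * y * r⁻¹ * x * (r * y * r⁻¹)⁻¹ * x⁻¹ ∈ vv A
    have hx' : r⁻¹ * x * r ∈ W := mem_cj.mp (by rw [cj_eq_of_mem_normalizer (hWn hr)]; exact hx)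
    rw [show r * y * r⁻¹ * x * (r * y * r⁻¹)⁻¹ * x⁻¹ =
      r * (y * (r⁻¹ * x * r) * y⁻¹ * (r⁻¹ * x * r)⁻¹) * r⁻¹ by group]
    exact (Subgroup.mem_normalizer_iff.mp (le_normalizer_vv A (hS'.1 hr)) _).mp (hy.2 _ hx')
  obtain ⟨w, hwC, hwo, hw1⟩ : ∃ w ∈ C0, Odd (orderOf w) ∧ w ≠ 1 := by
    by_contra hcc
    push Not at hcc
    have h2 : IsPGroup 2 C0 := isPGroup_of_no_odd hcc
    have h3 : IsPGroup 2 (C0 ⊔ pc A : Subgroup G) :=
      h2.to_sup_of_normal_right' (pc_isPGroup A) (fun y hy => le_normalizer_pc A hy.1)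
    have h4 : C0 ⊔ pc A = S := hPA.s1.2.2 _ (hq.eqS ▸ sup_le_sup_right hBC0 _)
      (sup_le (fun y hy => hy.1) (pc_le A)) h3
    obtain ⟨r, hr, hrA⟩ := SetLike.not_le_iff_exists.mp (hq.natA.not_le_pc hS')
    refine hrA (hq.natA.normalizes_imp hC hS' hPA.s1 (fun e => hgS e.symm) hr ?_)
    refine Subgroup.eq_of_le_of_card_ge ?_ (card_cj r S).ge
    conv_lhs => rw [← hq.eqS, cj_sup, cj_eq_of_mem_normalizer (le_normalizer_pc A (hS'.1 hr))]
    exact h4 ▸ sup_le_sup_right ((cj_mono r hBC0).trans (hC0r r hr)) _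
  have hWA : W ≤ vv A := hC.le_of_trivial_quotient (hS'.2.1.to_le hWS) le_sup_left hwo hw1
    (fun v hv => (Subgroup.mem_normalizer_iff.mp (le_normalizer_vv A hwC.1) v).mp hv) hwC.2
  have hCA : vv C ≤ vv A := le_sup_right.trans hWA
  have hsq : ∀ x ∈ S', x * x ∈ pc C := fun x hx =>
    hp.v2.cent_vv hC (mul_mem (hp.s2.1 hx) (hp.s2.1 hx))
      fun v hv => vv_comm (hCA hv) (hq.natA.sq S' hS' x hx)
  have hnC : ¬ S' ≤ pc C := fun hle => hp.v2.nclosed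
    (closed_of_sylIn_normal hp.s2 ((le_antisymm hle (pc_le_sylIn hp.s2)) ▸ le_normalizer_pc C))
  have hpp : pc C ≤ pc A := by
    intro x hx
    by_contra hxA
    refine hnC fun y hy => hp.v2.cent_vv hC (hp.s2.1 hy) fun v hv => ?_
    exact Subgroup.mem_centralizer_iff.mp (hq.natA.fix S' hS' x (pc_le_sylIn hp.s2 hx) hxA v (hCA hv)
      (vv_comm hv hx)) y hy
  have hzz := zz_eq hC hp.v1 hp.v2 hS' hp.s2
  have hqle : q ≤ (pc C).relIndex S' := by
    rw [← hq.natA.syl S' hS']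
    exact Subgroup.relIndex_le_of_le_left hpp relIndex_ne_zero'
  obtain ⟨hnat, -⟩ := natV_of_offender hC hns hB hp.v2 hp.s2.1 hsq hnC (by
    show Nat.card (vv C) ≤ (pc C).relIndex S' * Nat.card (zz C S')
    rw [← hzz, hq.natA.cardfix S' hS']
    calc Nat.card (vv C) ≤ q * q := hq.natA.cardV ▸ Subgroup.card_le_of_le hCA
      _ ≤ _ := Nat.mul_le_mul_right _ hqle)
  have heq : vv C = vv A := Subgroup.eq_of_le_of_card_ge hCA (by
    rw [hq.natA.cardV, hnat.cardV]; exact Nat.mul_le_mul hqle hqle)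
  exact hp.nocommon (vv A) hp.v1.vv_ne hAS ⟨le_normalizer_vv A, heq ▸ le_normalizer_vv C⟩

end Cfsg.Agent.CIT
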