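import Mathlib.GroupTheory.PGroup
import Mathlib.GroupTheory.Sylow
import Mathlib.GroupTheory.QuotientGroup.Basic
import Mathlib.Tactic.Group

/-!
CIT-groups: the centraliser of every involution is a 2-group. Elementary consequences.
-/

set_option autoImplicit false

namespace Cfsg.Agent.CIT

open Subgroup

/-- Every involution has a 2-group as centraliser. -/
def IsCIT (G : Type*) [Group G] : Prop :=
  ∀ t : G, orderOf t = 2 → IsPGroup 2 (Subgroup.centralizer ({t} : Set G))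

/-- A 2-element. -/
def Two {G : Type*} [Group G] (x : G) : Prop := ∃ k : ℕ, orderOf x = 2 ^ k

section General

variable {G : Type*} [Group G]

theorem two_one : Two (1 : G) := ⟨0, by simp⟩

theorem two_of_sq {x : G} (h : x * x = 1) : Two x := by
  by_cases h1 : x = 1
  · subst h1; exact two_one
  · exact ⟨1, by rw [pow_one]; exact orderOf_eq_prime (by rw [pow_two, h]) h1⟩

theorem two_of_orderOf {x : G} (h : orderOf x = 2) : Two x := ⟨1, by rw [h, pow_one]⟩

theorem sq_of_orderOf {x : G} (h : orderOf x = 2) : x * x = 1 := by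
  rw [← pow_two, ← h, pow_orderOf_eq_one]

theorem ne_one_of_orderOf {x : G} (h : orderOf x = 2) : x ≠ 1 := fun e => by simp [e] at h

theorem orderOf_of_sq {x : G} (h : x * x = 1) (h1 : x ≠ 1) : orderOf x = 2 :=
  orderOf_eq_prime (by rw [pow_two, h]) h1

theorem inv_of_sq {x : G} (h : x * x = 1) : x⁻¹ = x := inv_eq_of_mul_eq_one_right h

theorem two_of_mem {Q : Subgroup G} (hQ : IsPGroup 2 Q) {x : G} (hx : x ∈ Q) : Two x := by
  haveI : Fact (Nat.Prime 2) := ⟨Nat.prime_two⟩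
  obtain ⟨k, hk⟩ := (IsPGroup.iff_orderOf (p := 2)).mp hQ ⟨x, hx⟩
  exact ⟨k, by rwa [Subgroup.orderOf_mk] at hk⟩

theorem Two.pow {x : G} (hx : Two x) (n : ℕ) : Two (x ^ n) := by
  obtain ⟨k, hk⟩ := hx
  obtain ⟨j, -, hj⟩ := (Nat.dvd_prime_pow Nat.prime_two).mp (hk ▸ orderOf_pow_dvd n)
  exact ⟨j, hj⟩

theorem Two.eq_one_of_odd {x : G} (hx : Two x) (ho : Odd (orderOf x)) : x = 1 := by
  obtain ⟨k, hk⟩ := hx
  rcases k with _ | k
  · simpa using hk
  · rw [hk, pow_succ] at ho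
    exact absurd ho (Nat.not_odd_iff_even.mpr (even_two.mul_left _))

theorem Two.conj {x : G} (hx : Two x) (g : G) : Two (g * x * g⁻¹) := by
  obtain ⟨k, hk⟩ := hx
  exact ⟨k, by rw [← hk]; exact orderOf_injective (MulAut.conj g).toMonoidHom (MulAut.conj g).injective x⟩

theorem isPGroup_of_two {Q : Subgroup G} (h : ∀ x ∈ Q, Two x) : IsPGroup 2 Q := by
  haveI : Fact (Nat.Prime 2) := ⟨Nat.prime_two⟩
  refine (IsPGroup.iff_orderOf (p := 2)).mpr fun x => ?_
  obtain ⟨k, hk⟩ := h x x.2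
  exact ⟨k, by rw [← Subgroup.orderOf_coe, hk]⟩

theorem odd_orderOf_conj {w : G} (hw : Odd (orderOf w)) (g : G) :
    Odd (orderOf (g * w * g⁻¹)) := by
  rwa [show orderOf (g * w * g⁻¹) = orderOf w from
    orderOf_injective (MulAut.conj g).toMonoidHom (MulAut.conj g).injective w]

end General

section Finite

variable {G : Type*} [Group G] [Finite G]

theorem exists_involution_pow {x : G} (hx : Two x) (h1 : x ≠ 1) :
    ∃ n : ℕ, orderOf (x ^ n) = 2 := by
  obtain ⟨k, hk⟩ := hx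
  rcases k with _ | k
  · exact absurd (orderOf_eq_one_iff.mp (by simpa using hk)) h1
  · refine ⟨2 ^ k, ?_⟩
    rw [orderOf_pow' x (by positivity), hk, Nat.gcd_eq_right (pow_dvd_pow 2 k.le_succ),
      pow_succ, Nat.mul_div_cancel_left _ (by positivity)]

/-- An element of even order has an involution among its powers. -/
theorem exists_involution_pow_of_even {x : G} (hx : 2 ∣ orderOf x) :
    ∃ n : ℕ, orderOf (x ^ n) = 2 :=
  ⟨orderOf x / 2, orderOf_pow_orderOf_div (orderOf_pos x).ne' hx⟩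

theorem two_or_exists_odd (x : G) :
    Two x ∨ ∃ n : ℕ, Odd (orderOf (x ^ n)) ∧ x ^ n ≠ 1 := by
  obtain ⟨k, m, hm, hkm⟩ := Nat.exists_eq_two_pow_mul_odd (orderOf_pos x).ne'
  by_cases hm1 : m = 1
  · exact Or.inl ⟨k, by rw [hkm, hm1, mul_one]⟩
  · refine Or.inr ⟨2 ^ k, ?_⟩
    have ho : orderOf (x ^ 2 ^ k) = m := by
      rw [orderOf_pow' x (by positivity), hkm, Nat.gcd_eq_right (dvd_mul_right _ _),
        Nat.mul_div_cancel_left _ (by positivity)]
    exact ⟨ho ▸ hm, fun e => hm1 (by rw [← ho, e, orderOf_one])⟩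

/-- A subgroup with no nontrivial element of odd order is a 2-group. -/
theorem isPGroup_of_no_odd {Q : Subgroup G} (h : ∀ x ∈ Q, Odd (orderOf x) → x = 1) :
    IsPGroup 2 Q := by
  refine isPGroup_of_two fun x hx => ?_
  rcases two_or_exists_odd x with h2 | ⟨n, ho, h1⟩
  · exact h2
  · exact absurd (h _ (pow_mem hx n) ho) h1

variable (hC : IsCIT G)
include hC

theorem IsCIT.two_of_commute {x c : G} (hx : Two x) (h1 : x ≠ 1) (hc : c * x = x * c) :
    Two c := by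
  obtain ⟨n, hn⟩ := exists_involution_pow hx h1
  refine two_of_mem (hC _ hn) (Subgroup.mem_centralizer_singleton_iff.mpr ?_)
  exact ((show Commute c x from hc).pow_right n).eq

theorem IsCIT.eq_one_of_commute {x c : G} (hx : Two x) (h1 : x ≠ 1) (ho : Odd (orderOf c))
    (hc : c * x = x * c) : c = 1 :=
  (hC.two_of_commute hx h1 hc).eq_one_of_odd ho

theorem IsCIT.fpf {w : G} (ho : Odd (orderOf w)) (hw : w ≠ 1) {x : G} (hx : Two x)
    (hc : w * x * w⁻¹ = x) : x = 1 := by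
  by_contra h1
  exact hw (hC.eq_one_of_commute hx h1 ho (mul_inv_eq_iff_eq_mul.mp hc))

theorem IsCIT.not_odd_of_centralizer {x : G} (hx : Two x) (h1 : x ≠ 1) :
    IsPGroup 2 (Subgroup.centralizer ({x} : Set G)) :=
  isPGroup_of_two fun _ hc =>
    hC.two_of_commute hx h1 (Subgroup.mem_centralizer_singleton_iff.mp hc)

theorem IsCIT.centralizer_isPGroup {V : Subgroup G} (hV : IsPGroup 2 V) (h1 : V ≠ ⊥) :
    IsPGroup 2 (Subgroup.centralizer (V : Set G)) := by
  obtain ⟨v, hv, hv1⟩ : ∃ v ∈ V, v ≠ 1 := by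
    by_contra hh
    push Not at hh
    exact h1 ((Subgroup.eq_bot_iff_forall V).mpr hh)
  exact isPGroup_of_two fun c hc =>
    hC.two_of_commute (two_of_mem hV hv) hv1 (Subgroup.mem_centralizer_iff.mp hc v hv).symm

/-- For `w` of odd order normalising a 2-group `Q`, every element of `Qw` is `Q`-conjugate to `w`. -/
theorem IsCIT.conj_of_coset {Q : Subgroup G} (hQ : IsPGroup 2 Q) {w : G} (ho : Odd (orderOf w))
    (hw : w ≠ 1) (hn : ∀ x ∈ Q, w * x * w⁻¹ ∈ Q) {x : G} (hx : x ∈ Q) :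
    ∃ y ∈ Q, y * w * y⁻¹ = x * w := by
  let f : Q → Q := fun y => ⟨y * (w * (y : G)⁻¹ * w⁻¹), mul_mem y.2 (hn _ (inv_mem y.2))⟩
  have hf : Function.Injective f := by
    intro a b hab
    have h := congrArg Subtype.val hab
    simp only [f] at h
    have h2 : w * ((b : G)⁻¹ * a)⁻¹ * w⁻¹ = ((b : G)⁻¹ * a)⁻¹ := by
      calc w * ((b : G)⁻¹ * a)⁻¹ * w⁻¹
          = (a : G)⁻¹ * ((a : G) * (w * (a : G)⁻¹ * w⁻¹)) * (w * (b : G) * w⁻¹) := by group
        _ = ((b : G)⁻¹ * a)⁻¹ := by rw [h]; group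
    have h3 := hC.fpf ho hw (two_of_mem hQ (inv_mem (mul_mem (inv_mem b.2) a.2))) h2
    exact Subtype.ext (inv_mul_eq_one.mp (inv_eq_one.mp h3)).symm
  obtain ⟨y, hy⟩ := (Finite.injective_iff_surjective.mp hf) ⟨x, hx⟩
  refine ⟨y, y.2, ?_⟩
  have h := congrArg Subtype.val hy
  simp only [f] at h
  rw [← h]; group

/-- An element of odd order acting trivially on `W/V` shows `W ≤ V`. -/
theorem IsCIT.le_of_trivial_quotient {V W : Subgroup G} (hW : IsPGroup 2 W) (hVW : V ≤ W)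
    {w : G} (ho : Odd (orderOf w)) (hw : w ≠ 1) (hn : ∀ v ∈ V, w * v * w⁻¹ ∈ V)
    (htriv : ∀ x ∈ W, w * x * w⁻¹ * x⁻¹ ∈ V) : W ≤ V := by
  intro x hx
  obtain ⟨y, hy, hy'⟩ := hC.conj_of_coset (hW.to_le hVW) ho hw hn (inv_mem (htriv x hx))
  have h2 : w * (y⁻¹ * x) * w⁻¹ = y⁻¹ * x := by
    calc w * (y⁻¹ * x) * w⁻¹ = y⁻¹ * (y * w * y⁻¹) * (x * w⁻¹) := by group
      _ = y⁻¹ * x := by rw [hy']; group
  have h3 := hC.fpf ho hw (two_of_mem hW (mul_mem (inv_mem (hVW hy)) hx)) h2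
  exact inv_mul_eq_one.mp h3 ▸ hy

end Finite

section Transfer

variable {G H : Type*} [Group G] [Group H]

theorem IsCIT.of_injective (hC : IsCIT G) (f : H →* G) (hf : Function.Injective f) : IsCIT H := by
  intro t ht
  refine IsPGroup.of_injective (hC (f t) (by rw [orderOf_injective f hf, ht]))
    ((f.comp (Subgroup.centralizer ({t} : Set H)).subtype).codRestrict _ fun c => ?_) ?_
  · rw [Subgroup.mem_centralizer_singleton_iff]
    show f c * f t = f t * f c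
    rw [← map_mul, ← map_mul, Subgroup.mem_centralizer_singleton_iff.mp c.2]
  · intro a b h
    exact Subtype.ext (hf (congrArg Subtype.val h))

theorem IsCIT.subgroup (hC : IsCIT G) (K : Subgroup G) : IsCIT K :=
  hC.of_injective K.subtype K.subtype_injective

end Transfer

section Quotient

variable {G : Type*} [Group G] [Finite G] (hC : IsCIT G) {Q : Subgroup G} [Q.Normal]
  (hQ : IsPGroup 2 Q)
include hC hQ

omit hC hQ in
/-- A nontrivial element of odd order of a quotient lifts to one of odd order. -/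
theorem exists_odd_lift {wb : G ⧸ Q} (ho : Odd (orderOf wb)) :
    ∃ w : G, (w : G ⧸ Q) = wb ∧ Odd (orderOf w) := by
  obtain ⟨g, rfl⟩ := QuotientGroup.mk_surjective wb
  obtain ⟨k, m, hm, hkm⟩ := Nat.exists_eq_two_pow_mul_odd (orderOf_pos g).ne'
  have hcop : (2 ^ k).Coprime (orderOf (g : G ⧸ Q)) :=
    Nat.Coprime.pow_left _ (Nat.coprime_two_left.mpr ho)
  obtain ⟨i, hi⟩ := exists_pow_eq_self_of_coprime hcop
  refine ⟨(g ^ 2 ^ k) ^ i, by rw [QuotientGroup.mk_pow, QuotientGroup.mk_pow]; exact hi, ?_⟩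
  have ho' : orderOf (g ^ 2 ^ k) = m := by
    rw [orderOf_pow' g (by positivity), hkm, Nat.gcd_eq_right (dvd_mul_right _ _),
      Nat.mul_div_cancel_left _ (by positivity)]
  exact Odd.of_dvd_nat (ho' ▸ hm) (orderOf_pow_dvd i)

omit hC in
theorem two_of_mk {x : G} (hx : Two (x : G ⧸ Q)) : Two x := by
  obtain ⟨k, hk⟩ := hx
  have h1 : x ^ 2 ^ k ∈ Q := by
    rw [← QuotientGroup.eq_one_iff, QuotientGroup.mk_pow, ← hk, pow_orderOf_eq_one]
  obtain ⟨j, hj⟩ := two_of_mem hQ h1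
  obtain ⟨i, -, hi⟩ := (Nat.dvd_prime_pow Nat.prime_two).mp
    (show orderOf x ∣ 2 ^ (k + j) from orderOf_dvd_of_pow_eq_one (by
      rw [pow_add, pow_mul, ← hj, pow_orderOf_eq_one]))
  exact ⟨i, hi⟩

/-- An element of odd order commuting modulo `Q` with a 2-element outside `Q` lies in `Q`. -/
theorem IsCIT.mk_eq_one {x w : G} (hx : Two (x : G ⧸ Q)) (hxQ : x ∉ Q) (ho : Odd (orderOf w))
    (hc : (w : G ⧸ Q) * x = x * w) : w = 1 := by
  by_contra hw
  have hn : ∀ y ∈ Q, w * y * w⁻¹ ∈ Q := fun y hy => Subgroup.Normal.conj_mem inferInstance y hy w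
  have h1 : x * w * x⁻¹ * w⁻¹ ∈ Q := by
    rw [← QuotientGroup.eq_one_iff, QuotientGroup.mk_mul, QuotientGroup.mk_mul,
      QuotientGroup.mk_mul, QuotientGroup.mk_inv, QuotientGroup.mk_inv, ← hc]
    group
  obtain ⟨y, hy, hy'⟩ := hC.conj_of_coset hQ ho hw hn h1
  rw [inv_mul_cancel_right] at hy'
  have hc' : w * (y⁻¹ * x) = (y⁻¹ * x) * w := by
    calc w * (y⁻¹ * x) = y⁻¹ * (y * w * y⁻¹) * x := by group
      _ = (y⁻¹ * x) * w := by rw [hy']; group
  have hm : ((y⁻¹ * x : G) : G ⧸ Q) = x := by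
    rw [QuotientGroup.mk_mul, (QuotientGroup.eq_one_iff _).mpr (inv_mem hy), one_mul]
  refine hw (hC.eq_one_of_commute (two_of_mk hQ (by rw [hm]; exact hx)) (fun e => hxQ ?_) ho hc')
  rw [inv_mul_eq_one] at e
  exact e ▸ hy

theorem IsCIT.quotient : IsCIT (G ⧸ Q) := by
  intro tb ht
  obtain ⟨t, rfl⟩ := QuotientGroup.mk_surjective tb
  refine isPGroup_of_no_odd fun cb hcb ho => ?_
  obtain ⟨w, rfl, how⟩ := exists_odd_lift ho
  have h1 := hC.mk_eq_one hQ (two_of_orderOf ht)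
    (fun h => ne_one_of_orderOf ht ((QuotientGroup.eq_one_iff t).mpr h)) how
    (Subgroup.mem_centralizer_singleton_iff.mp hcb)
  rw [h1]; rfl

/-- An involution of `G ⧸ Q` inverting a nontrivial element of odd order lifts to an involution. -/
theorem IsCIT.exists_involution_lift {ab wb : G ⧸ Q} (ha : orderOf ab = 2) (hw : wb ≠ 1)
    (ho : Odd (orderOf wb)) (hinv : ab * wb * ab⁻¹ = wb⁻¹) :
    ∃ a : G, (a : G ⧸ Q) = ab ∧ orderOf a = 2 := by
  obtain ⟨x, rfl⟩ := QuotientGroup.mk_surjective ab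
  obtain ⟨w, rfl, how⟩ := exists_odd_lift ho
  have hw1 : w ≠ 1 := fun e => hw (by rw [e]; rfl)
  have hn : ∀ y ∈ Q, w⁻¹ * y * w⁻¹⁻¹ ∈ Q :=
    fun y hy => Subgroup.Normal.conj_mem inferInstance y hy _
  have h1 : x * w * x⁻¹ * w ∈ Q := by
    rw [← QuotientGroup.eq_one_iff, QuotientGroup.mk_mul, QuotientGroup.mk_mul,
      QuotientGroup.mk_mul, QuotientGroup.mk_inv, hinv, inv_mul_cancel]
  obtain ⟨y, hy, hy'⟩ := hC.conj_of_coset hQ (by rwa [orderOf_inv]) (inv_ne_one.mpr hw1) hn h1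
  rw [mul_inv_cancel_right] at hy'
  have hm : ((y⁻¹ * x : G) : G ⧸ Q) = x := by
    rw [QuotientGroup.mk_mul, (QuotientGroup.eq_one_iff _).mpr (inv_mem hy), one_mul]
  have h2 : (y⁻¹ * x) * w * (y⁻¹ * x)⁻¹ = w⁻¹ := by
    calc (y⁻¹ * x) * w * (y⁻¹ * x)⁻¹ = y⁻¹ * (x * w * x⁻¹) * y := by group
      _ = w⁻¹ := by rw [← hy']; group
  have h3 : w * ((y⁻¹ * x) * (y⁻¹ * x)) * w⁻¹ = (y⁻¹ * x) * (y⁻¹ * x) := by
    have h2' : (y⁻¹ * x) * w⁻¹ * (y⁻¹ * x)⁻¹ = w := by
      rw [← inv_inj]; simpa [mul_assoc] using h2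
    set a := y⁻¹ * x with ha'
    calc w * (a * a) * w⁻¹ = (a * w⁻¹ * a⁻¹) * (a * a) * w⁻¹ := by rw [h2']
      _ = a * ((w⁻¹ : G) * (a * w⁻¹ * a⁻¹)) * a := by group
      _ = a * a := by rw [h2']; group
  have htwo : Two ((y⁻¹ * x) * (y⁻¹ * x)) := by
    rw [← pow_two]
    exact (two_of_mk hQ (by rw [hm]; exact two_of_orderOf ha)).pow 2
  have h4 := hC.fpf how hw1 htwo h3
  exact ⟨y⁻¹ * x, hm, orderOf_of_sq h4 fun e => ne_one_of_orderOf ha (by rw [← hm, e]; rfl)⟩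

/-- An element of odd order of `G ⧸ Q` acts fixed point freely. -/
theorem IsCIT.conj_fix_eq_one {w v : G} (how : ¬ w ∈ Q) (ho : Odd (orderOf (w : G ⧸ Q)))
    (hv : Two v) (hQv : ∀ y ∈ Q, y * v = v * y) (hc : w * v * w⁻¹ = v) : v = 1 := by
  by_contra hv1
  obtain ⟨u, hu, huo⟩ := exists_odd_lift ho
  have hq : w⁻¹ * u ∈ Q := QuotientGroup.eq.mp hu.symm
  have hu1 : u ≠ 1 := fun e => how (by
    rw [e, mul_one] at hq; exact inv_mem_iff.mp hq)
  refine hu1 (hC.eq_one_of_commute hv hv1 huo ?_)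
  calc u * v = w * ((w⁻¹ * u) * v) := by group
    _ = (w * v * w⁻¹) * u := by rw [hQv _ hq]; group
    _ = v * u := by rw [hc]

end Quotient

end Cfsg.Agent.CIT
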