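import Cfsg.Agent.CIT.Amalgam

/-!
The configuration at `b = 1`: two elementary abelian groups of order `q²` generating a Sylow
2-subgroup of both their normalisers.
-/

set_option autoImplicit false

universe u

namespace Cfsg.Agent.CIT

open Subgroup
open scoped Pointwise

variable {G : Type u} [Group G]

/-- The configuration. -/
structure Conf (L0 L1 R : Subgroup G) (q : ℕ) : Prop where
  pair : Pair L0 L1 R
  nat0 : NatV L0 q
  nat1 : NatV L1 q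
  pc0 : pc L0 = vv L0
  pc1 : pc L1 = vv L1
  sup : vv L0 ⊔ vv L1 = R
  zz0 : zz L0 R = vv L0 ⊓ vv L1
  zz1 : zz L1 R = vv L0 ⊓ vv L1

variable [Finite G]

theorem pc_eq_vv (hC : IsCIT G) {A B S : Subgroup G} (hS : vv B ⊔ pc A = S) (hBS : pc B ≤ S)
    (hBA : vv B ≤ A) (hAB : vv A ≤ B) (hnot : ¬ vv A ≤ pc B) : pc B = vv B := by
  let K : Subgroup G :=
    { carrier := {x | x ∈ B ∧ ∀ y ∈ pc B, x * y * x⁻¹ * y⁻¹ ∈ vv B}
      one_mem' := ⟨one_mem _, fun y _ => by simp⟩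
      mul_mem' := fun {a b} ha hb => ⟨mul_mem ha.1 hb.1, fun y hy => by
        rw [show a * b * y * (a * b)⁻¹ * y⁻¹ =
          a * (b * y * b⁻¹ * y⁻¹) * a⁻¹ * (a * y * a⁻¹ * y⁻¹) by group]
        exact mul_mem ((Subgroup.mem_normalizer_iff.mp (le_normalizer_vv B ha.1) _).mp (hb.2 y hy))
          (ha.2 y hy)⟩
      inv_mem' := fun {a} ha => ⟨inv_mem ha.1, fun y hy => by
        rw [show a⁻¹ * y * a⁻¹⁻¹ * y⁻¹ = a⁻¹ * (a * y * a⁻¹ * y⁻¹)⁻¹ * a⁻¹⁻¹ by group]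
        exact (Subgroup.mem_normalizer_iff.mp (le_normalizer_vv B (inv_mem ha.1)) _).mp
          (inv_mem (ha.2 y hy))⟩ }
  have hAK : vv A ≤ K := by
    intro v hv
    refine ⟨hAB hv, fun y hy => ?_⟩
    have hy' : y ∈ ((vv B : Subgroup G) : Set G) * ((pc A : Subgroup G) : Set G) := by
      rw [← Subgroup.coe_mul_of_left_le_normalizer_right _ _ (hBA.trans (le_normalizer_pc A)), hS]
      exact hBS hy
    obtain ⟨b, hb, a, ha, rfl⟩ := Set.mem_mul.mp hy'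
    have hav : v * a * v⁻¹ = a := by rw [← vv_comm hv ha, mul_inv_cancel_right]
    rw [show v * (b * a) * v⁻¹ * (b * a)⁻¹ = (v * b * v⁻¹) * ((v * a * v⁻¹) * a⁻¹) * b⁻¹ by group,
      hav, mul_inv_cancel, mul_one]
    exact mul_mem ((Subgroup.mem_normalizer_iff.mp (le_normalizer_vv B (hAB hv)) b).mp hb) (inv_mem hb)
  obtain ⟨w, hw, hwo, hw1⟩ : ∃ w ∈ K, Odd (orderOf w) ∧ w ≠ 1 := by
    by_contra hc
    push Not at hc
    refine hnot (hAK.trans (le_pc (isPGroup_of_no_odd hc) (fun x hx => hx.1) fun g hg => ?_))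
    refine mem_normalizer_of_cj_eq (Subgroup.eq_of_le_of_card_ge ?_ (card_cj g K).ge)
    rintro _ ⟨x, hx, rfl⟩
    refine ⟨mul_mem (mul_mem hg hx.1) (inv_mem hg), fun y hy => ?_⟩
    show g * x * g⁻¹ * y * (g * x * g⁻¹)⁻¹ * y⁻¹ ∈ vv B
    have hy' : g⁻¹ * y * g ∈ pc B := mem_cj.mp (by
      rw [cj_eq_of_mem_normalizer (le_normalizer_pc B hg)]; exact hy)
    rw [show g * x * g⁻¹ * y * (g * x * g⁻¹)⁻¹ * y⁻¹ =
      g * (x * (g⁻¹ * y * g) * x⁻¹ * (g⁻¹ * y * g)⁻¹) * g⁻¹ by group]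
    exact (Subgroup.mem_normalizer_iff.mp (le_normalizer_vv B hg) _).mp (hx.2 _ hy')
  exact le_antisymm (hC.le_of_trivial_quotient (pc_isPGroup B) (vv_le B) hwo hw1
    (fun v hv => (Subgroup.mem_normalizer_iff.mp (le_normalizer_vv B hw.1) v).mp hv) hw.2) (vv_le B)

theorem Crit.toConf (hC : IsCIT G) {A B S : Subgroup G} {q : ℕ} (hP : Pair A B S)
    (h : Crit A B S S q) : Conf A B S q := by
  have hBS : vv B ≤ S := h.eqS ▸ le_sup_left
  have hAS : vv A ≤ S := h.eqT ▸ le_sup_left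
  have hnA : ¬ vv B ≤ pc A := fun hle => h.natA.not_le_pc hP.s1 (h.eqS ▸ sup_le hle le_rfl)
  have hnB : ¬ vv A ≤ pc B := fun hle => h.natB.not_le_pc hP.s2 (h.eqT ▸ sup_le hle le_rfl)
  have hB' := pc_eq_vv hC h.eqS (pc_le_sylIn hP.s2) (hBS.trans hP.s1.1) (hAS.trans hP.s2.1) hnB
  have hA' := pc_eq_vv hC h.eqT (pc_le_sylIn hP.s1) (hAS.trans hP.s2.1) (hBS.trans hP.s1.1) hnA
  refine ⟨hP, h.natA, h.natB, hA', hB', ?_, h.dA.symm, h.dB.symm⟩
  conv_rhs => rw [← h.eqT, hB']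

theorem exists_conf [IsSimpleGroup G] (hC : IsCIT G) (hns : ¬ Group.IsSolvable G)
    (hB : SimpleBelow.{u} (Nat.card G)) (hnd : ¬ ∃ (S : Sylow 2 G) (z : G), FGS75.CCKer.Dat S z) :
    ∃ L0 L1 R : Subgroup G, ∃ q, Conf L0 L1 R q := by
  obtain ⟨L1, L2, R, hP⟩ := exists_pair hC hns hnd
  obtain ⟨A, B, S, q, hP', hcr⟩ := exists_crit_edge hC hns hB hP
  exact ⟨A, B, S, q, hcr.toConf hC hP'⟩

variable {L0 L1 R : Subgroup G} {q : ℕ} (h : Conf L0 L1 R q)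
include h

theorem Conf.symm : Conf L1 L0 R q :=
  ⟨h.pair.symm, h.nat1, h.nat0, h.pc1, h.pc0, (sup_comm _ _).trans h.sup,
    h.zz1.trans (inf_comm _ _), h.zz0.trans (inf_comm _ _)⟩

theorem Conf.le0 : vv L0 ≤ R := h.sup ▸ le_sup_left

theorem Conf.le1 : vv L1 ≤ R := h.sup ▸ le_sup_right

theorem Conf.card_R : Nat.card R = q * q * q := by
  rw [card_eq_mul_relIndex (pc_le_sylIn h.pair.s1), h.nat0.syl R h.pair.s1, h.pc0, h.nat0.cardV]

theorem Conf.card_L0 : Nat.card L0 = q * q * q * (q * q - 1) := by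
  rw [card_eq_mul_relIndex (pc_le L0), h.nat0.index, h.pc0, h.nat0.cardV]; ring

theorem Conf.card_Z : Nat.card (vv L0 ⊓ vv L1 : Subgroup G) = q := by
  rw [← h.zz0]; exact h.nat0.cardfix R h.pair.s1

theorem Conf.normalizer_vv : normalizer ((vv L0 : Subgroup G) : Set G) = L0 := by
  rw [← h.pc0]; exact h.pair.v1.eq

theorem Conf.centralizer_vv (hC : IsCIT G) : centralizer ((vv L0 : Subgroup G) : Set G) = vv L0 := by
  refine le_antisymm ?_ fun x hx => Subgroup.mem_centralizer_iff.mpr fun v hv =>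
    vv_comm hx (vv_le L0 hv)
  have := h.pair.v1.centralizer_pc_le hC
  rwa [h.pc0] at this

theorem Conf.mem_center {z : G} (hz : z ∈ vv L0 ⊓ vv L1) {r : G} (hr : r ∈ R) : r * z = z * r := by
  rw [← h.zz0] at hz
  exact Subgroup.mem_centralizer_iff.mp hz.2 r hr

theorem Conf.decomp {x : G} (hx : x ∈ R) : ∃ u ∈ vv L0, ∃ v ∈ vv L1, u * v = x := by
  have hx' : x ∈ ((vv L0 : Subgroup G) : Set G) * ((vv L1 : Subgroup G) : Set G) := by
    rw [← Subgroup.coe_mul_of_left_le_normalizer_right _ _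
      ((h.le0.trans h.pair.s2.1).trans (le_normalizer_vv L1)), h.sup]
    exact hx
  obtain ⟨u, hu, v, hv, e⟩ := Set.mem_mul.mp hx'
  exact ⟨u, hu, v, hv, e⟩

/-- An element of `V₀` commuting with an element of `V₁ ∖ V₀` lies in `V₁`. -/
theorem Conf.mem_of_commute {u v : G} (hu : u ∈ vv L0) (hv : v ∈ vv L1) (hv0 : v ∉ vv L0)
    (hc : v * u = u * v) : u ∈ vv L1 := by
  have h1 := h.nat0.fix R h.pair.s1 v (h.le1 hv) (by rwa [h.pc0]) u hu hc
  have h2 : u ∈ vv L0 ⊓ vv L1 := h.zz0 ▸ (⟨hu, h1⟩ : u ∈ zz L0 R)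
  exact h2.2

theorem Conf.involution_mem {x : G} (hx : x ∈ R) (hx2 : x * x = 1) : x ∈ vv L0 ∨ x ∈ vv L1 := by
  obtain ⟨u, hu, v, hv, rfl⟩ := h.decomp hx
  by_cases hv0 : v ∈ vv L0
  · exact Or.inl (mul_mem hu hv0)
  · refine Or.inr (mul_mem (h.mem_of_commute hu hv hv0 ?_) hv)
    have h1 := eq_inv_of_mul_eq_one_right hx2
    rw [mul_inv_rev, inv_of_sq (vv_sq hu), inv_of_sq (vv_sq hv)] at h1
    exact h1.symm

end Cfsg.Agent.CIT
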