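import Cfsg.Agent.CIT.Plane

/-!
The order of the group, and the impossibility of `q = 8`.
-/

set_option autoImplicit false

universe u

namespace Cfsg.Agent.CIT

open Subgroup

variable {G : Type u} [Group G] [Finite G] {L0 L1 R : Subgroup G} {q : ℕ}

theorem Geo.card_group (g : Geo L0 L1 R q) (hq : q = 4 ∨ q = 8) :
    Nat.card G = (q * q + q + 1) * Nat.card L0 := by
  letI : MulAction G {V : Subgroup G // IsPt L0 V} :=
    { smul := fun x V => ⟨cj x V.1, V.2.cj' x⟩
      one_smul := fun V => Subtype.ext (cj_one _)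
      mul_smul := fun a b V => Subtype.ext (cj_cj a b V.1).symm }
  let x0 : {V : Subgroup G // IsPt L0 V} := ⟨vv L0, isPt_vv L0⟩
  have horb : MulAction.orbit G x0 = Set.univ := by
    refine Set.eq_univ_of_forall fun V => ?_
    obtain ⟨k, hk⟩ := V.2
    exact ⟨k, Subtype.ext hk⟩
  have hst : MulAction.stabilizer G x0 = L0 := by
    ext x
    rw [MulAction.mem_stabilizer_iff]
    exact ⟨fun e => g.mem_L0_of_fix (congrArg Subtype.val e),
      fun e => Subtype.ext (cj_eq_of_mem_normalizer (le_normalizer_vv L0 e))⟩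
  have h1 := MulAction.index_stabilizer G x0
  rw [horb, Set.ncard_univ, hst, Nat.card_congr (Equiv.subtypeEquivRight (q := fun V => V ∈ pts L0)
    fun V => mem_pts.symm), Nat.card_eq_finsetCard, (g.collinear hq).2] at h1
  rw [← h1, mul_comm, Subgroup.card_mul_index]

/-- An element of odd order fixes at most two Sylow subgroups of the vertex. -/
theorem Geo.fix_two (g : Geo L0 L1 R q) {a : G} (ha : Odd (orderOf a)) (ha1 : a ≠ 1) (haL : a ∈ L0)
    {X Y Z : Subgroup G} (hX : SylIn L0 X) (hY : SylIn L0 Y) (hZ : SylIn L0 Z) (hYX : Y ≠ X)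
    (hZX : Z ≠ X) (hYZ : Y ≠ Z) (fX : cj a X = X) (fY : cj a Y = Y) (fZ : cj a Z = Z) : False := by
  obtain ⟨r, hr, e⟩ := g.conf.nat0.syl_transitive g.cit hX hY hZ hYX hZX
  have hr' : a * r * a⁻¹ ∈ X := fX ▸ conj_mem_cj hr
  have hmem : r⁻¹ * (a * r * a⁻¹) ∈ pc L0 := by
    refine g.conf.nat0.normalizes_imp g.cit hX hY hYX (X.mul_mem (X.inv_mem hr) hr') ?_
    have : cj a⁻¹ Y = Y := by
      conv_lhs => rw [← fY]
      rw [cj_inv_cj]
    rw [← cj_cj, ← cj_cj, this, ← cj_cj, e, fZ, ← e, cj_inv_cj]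
  have hn : ∀ v ∈ pc L0, a * v * a⁻¹ ∈ pc L0 := fun v hv =>
    (Subgroup.mem_normalizer_iff.mp (le_normalizer_pc L0 haL) v).mp hv
  have hx : r * a * r⁻¹ * a⁻¹ ∈ pc L0 := by
    have h1 := (pc L0).inv_mem
      ((Subgroup.mem_normalizer_iff.mp (le_normalizer_pc L0 (hX.1 hr)) _).mp hmem)
    rwa [show (r * (r⁻¹ * (a * r * a⁻¹)) * r⁻¹)⁻¹ = r * a * r⁻¹ * a⁻¹ by group] at h1
  obtain ⟨y, hy, hy'⟩ := g.cit.conj_of_coset (pc_isPGroup L0) ha ha1 hn hx
  rw [inv_mul_cancel_right] at hy'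
  have hc : a * (y⁻¹ * r) * a⁻¹ = y⁻¹ * r := by
    calc a * (y⁻¹ * r) * a⁻¹ = y⁻¹ * (y * a * y⁻¹) * r * a⁻¹ := by group
      _ = y⁻¹ * r := by rw [hy']; group
  have h2 : y⁻¹ * r ∈ X := X.mul_mem (X.inv_mem (pc_le_sylIn hX hy)) hr
  have hry : y = r := inv_mul_eq_one.mp (g.cit.fpf ha ha1 (two_of_mem hX.2.1 h2) hc)
  rw [← e, ← hry] at hYZ
  exact hYZ (cj_eq_of_mem (pc_le_sylIn hY hy)).symm

/-- An element of odd order fixes at most two lines through a point. -/
theorem Geo.fix_two_lines (g : Geo L0 L1 R q) {a : G} (ha : Odd (orderOf a)) (ha1 : a ≠ 1)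
    (haL : a ∈ L0) {U W W' : Subgroup G} (hU : IsPt L1 U) (hW : IsPt L1 W) (hW' : IsPt L1 W')
    (iU : Inc (vv L0) U) (iW : Inc (vv L0) W) (iW' : Inc (vv L0) W') (h1 : W ≠ U) (h2 : W' ≠ U)
    (h3 : W ≠ W') (fU : cj a U = U) (fW : cj a W = W) (fW' : cj a W' = W') : False := by
  have h0 := cj_eq_of_mem_normalizer (le_normalizer_vv L0 haL)
  exact g.fix_two ha ha1 haL (g.symm.sup_mem hU iU.symm') (g.symm.sup_mem hW iW.symm')
    (g.symm.sup_mem hW' iW'.symm') (fun e => h1 (g.symm.sup_inj hW iW.symm' hU iU.symm' e))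
    (fun e => h2 (g.symm.sup_inj hW' iW'.symm' hU iU.symm' e))
    (fun e => h3 (g.symm.sup_inj hW iW.symm' hW' iW'.symm' e))
    (by rw [cj_sup, fU, h0]) (by rw [cj_sup, fW, h0]) (by rw [cj_sup, fW', h0])

theorem Geo.false_of_eight (g : Geo L0 L1 R 8) {H : Subgroup G} {w0 w1 : G}
    (h : Torus L0 L1 R 8 H w0 w1) : False := by
  classical
  haveI : Fact (Nat.Prime 7) := ⟨by norm_num⟩
  haveI : Fact (Nat.Prime 3) := ⟨Nat.prime_three⟩
  obtain ⟨a, haH, ha1⟩ := exists_ne_one_of_card (H := H) (by rw [h.t0.card]; norm_num)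
  have ha7 : a ^ 7 = 1 := by
    have := congrArg Subtype.val (pow_card_eq_one' (x := (⟨a, haH⟩ : H)))
    rwa [h.t0.card] at this
  have haodd := h.odd g.conf haH
  have haL := h.t0.le haH
  have haR : cj a R = R := cj_eq_of_mem_normalizer (h.t0.nor haH)
  set V0 := vv L0 with hV0
  have p0 : IsPt L0 V0 := isPt_vv L0
  have l1 : IsPt L1 (vv L1) := isPt_vv L1
  have hfix0 : cj a V0 = V0 := cj_eq_of_mem_normalizer (le_normalizer_vv L0 haL)
  have hfix1 : cj a (vv L1) = vv L1 := cj_eq_of_mem_normalizer (le_normalizer_vv L1 (h.t1.le haH))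
  have hfinv : ∀ {U : Subgroup G}, cj a U = U → cj a⁻¹ U = U := fun {U} e => by
    conv_lhs => rw [← e]
    rw [cj_inv_cj]
  -- moving fixed objects by the inverting involutions
  have hmove : ∀ w, w * w = 1 → w * a * w⁻¹ = a⁻¹ → ∀ {U : Subgroup G}, cj a U = U →
      cj a (cj w U) = cj w U := by
    intro w hw hwa U hU
    rw [cj_cj, show a * w = w * (w⁻¹ * a * w⁻¹⁻¹) by group, inv_of_sq hw, hwa, ← cj_cj, hfinv hU]
  have hw0V : cj w0 V0 = V0 := cj_eq_of_mem_normalizer (le_normalizer_vv L0 h.t0.wL)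
  have hw1V : cj w1 (vv L1) = vv L1 := cj_eq_of_mem_normalizer (le_normalizer_vv L1 h.t1.wL)
  have hw0W : cj w0 (vv L1) ≠ vv L1 := fun e => h.t0.wR (by
    rw [← g.conf.sup, cj_sup, hw0V, e])
  have hw1P : cj w1 V0 ≠ V0 := fun e => h.t1.wR (by rw [← g.conf.sup, cj_sup, e, hw1V])
  set P1 := cj w1 V0 with hP1
  set P2 := cj w0 P1 with hP2
  have p1 : IsPt L0 P1 := p0.cj' w1
  have p2 : IsPt L0 P2 := p1.cj' w0
  have f1 : cj a P1 = P1 := hmove w1 h.t1.wsq (h.t1.inv a haH) hfix0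
  have f2 : cj a P2 = P2 := hmove w0 h.t0.wsq (h.t0.inv a haH) f1
  have i01 : Inc V0 (vv L1) := g.inc_vv
  have i11 : Inc P1 (vv L1) := hw1V ▸ i01.cj' w1
  have i01' : Inc V0 (cj w0 (vv L1)) := hw0V ▸ i01.cj' w0
  -- the points fixed by `a` on the line `V1`
  have online : ∀ V, IsPt L0 V → Inc V (vv L1) → cj a V = V → V = V0 ∨ V = P1 := by
    intro V hV hi hf
    by_contra hne
    push Not at hne
    exact g.symm.fix_two_lines haodd ha1 (h.t1.le haH) p0 p1 hV i01.symm' i11.symm' hi.symm'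
      hw1P hne.1 (fun e => hne.2 e.symm) hfix0 f1 hf
  have fixed : ∀ V, IsPt L0 V → cj a V = V → V = V0 ∨ V = P1 ∨ V = P2 := by
    intro V hV hf
    by_cases hne : V = V0
    · exact Or.inl hne
    obtain ⟨W, hW, i0, iV⟩ := (g.collinear (Or.inr rfl)).1 V hV hne
    have fW : cj a W = W := g.line_unique p0 hV (Ne.symm hne) (hW.cj' a) hW
      (by have := i0.cj' a; rwa [hfix0] at this) i0 (by have := iV.cj' a; rwa [hf] at this) iV
    by_cases hW1 : W = vv L1
    · exact (online V hV (hW1 ▸ iV) hf).elim Or.inl fun e => Or.inr (Or.inl e)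
    by_cases hW2 : W = cj w0 (vv L1)
    · have hww : cj w0 (cj w0 V) = V := by rw [cj_cj, h.t0.wsq, cj_one]
      have hi : Inc (cj w0 V) (vv L1) := by
        have := (hW2 ▸ iV : Inc V (cj w0 (vv L1))).cj' w0
        rwa [cj_cj, h.t0.wsq, cj_one] at this
      rcases online _ (hV.cj' w0) hi (hmove w0 h.t0.wsq (h.t0.inv a haH) hf) with e | e
      · exact absurd (by rw [← hww, e, hw0V]) hne
      · exact Or.inr (Or.inr (by rw [← hww, e]))
    exact (g.fix_two_lines haodd ha1 haL l1 hW (l1.cj' w0) i01 i0 i01' hW1 hw0W hW2 hfix1 fW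
      (hmove w0 h.t0.wsq (h.t0.inv a haH) hfix1)).elim
  have hP20 : P2 ≠ V0 := fun e => hw1P (by
    have := congrArg (cj w0) e
    rwa [hP2, cj_cj, h.t0.wsq, cj_one, hw0V] at this)
  have hP21 : P2 ≠ P1 := by
    intro e
    refine hw0W (g.line_unique p0 p1 (Ne.symm hw1P) (l1.cj' w0) l1 i01' i01 ?_ i11)
    have h5 := i11.cj' w0
    rwa [← hP2, e] at h5
  have hw1P2 : cj w1 P2 = P2 := by
    rcases fixed _ (p2.cj' w1) (hmove w1 h.t1.wsq (h.t1.inv a haH) f2) with e | e | e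
    · exact absurd (by have := congrArg (cj w1) e; rwa [cj_cj, h.t1.wsq, cj_one] at this) hP21
    · exact absurd (by
        have := congrArg (cj w1) e
        rwa [cj_cj, h.t1.wsq, cj_one, hP1, cj_cj, h.t1.wsq, cj_one] at this) hP20
    · exact e
  set x := w0 * w1 with hxdef
  have hx0 : cj x V0 = P2 := by rw [hxdef, ← cj_cj]
  have hx2 : cj x P2 = P1 := by rw [hxdef, ← cj_cj, hw1P2, hP2, cj_cj, h.t0.wsq, cj_one]
  have hx1 : cj x P1 = V0 := by
    rw [hxdef, ← cj_cj, hP1, cj_cj w1 w1, h.t1.wsq, cj_one, hw0V]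
  have hxa : x * a = a * x := by
    calc x * a = w0 * (w1 * a * w1⁻¹) * w1 := by rw [hxdef]; group
      _ = (w0 * a * w0⁻¹)⁻¹ * w0 * w1 := by rw [h.t1.inv a haH]; group
      _ = a * x := by rw [h.t0.inv a haH, inv_inv, mul_assoc]
  -- `C(a) ∩ L0 = H`
  set R1 := cj w0 R with hR1
  have hcent : ∀ u ∈ L0, u * a = a * u → u ∈ H := by
    intro u hu hua
    have hs := g.conf.pair.s1
    have fR1 : cj a R1 = R1 := hmove w0 h.t0.wsq (h.t0.inv a haH) haR
    have moved : ∀ X, SylIn L0 X → cj a X = X → X = R ∨ X = R1 := by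
      intro X hX fX
      by_contra hne
      push Not at hne
      exact g.fix_two haodd ha1 haL hs (hs.cj_mem h.t0.wL) hX h.t0.wR hne.1
        (fun e => hne.2 e.symm) haR fR1 fX
    have hfu : ∀ X, cj a X = X → cj a (cj u X) = cj u X := fun X hX => by
      rw [cj_cj, ← hua, ← cj_cj, hX]
    rcases moved _ (hs.cj_mem hu) (hfu R haR) with e | e
    · obtain ⟨r, hr, b, hb, rfl⟩ := h.decomp g.conf g.cit hu (mem_normalizer_of_cj_eq e)
      have hc : a * r * a⁻¹ = r := by
        rw [mul_inv_eq_iff_eq_mul]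
        refine mul_right_cancel (b := b) ?_
        calc a * r * b = r * b * a := by rw [mul_assoc, hua]
          _ = r * a * b := by rw [mul_assoc, h.t0.comm b hb a haH, mul_assoc]
      rw [g.cit.fpf haodd ha1 (two_of_mem hs.2.1 hr) hc, one_mul]
      exact hb
    · exfalso
      have e2 : cj u R1 = R := by
        refine (moved _ ((hs.cj_mem h.t0.wL).cj_mem hu) (hfu R1 fR1)).resolve_right fun e2 => ?_
        refine h.t0.wR ?_
        rw [← hR1, ← cj_inv_cj u R1, e2, ← e, cj_inv_cj]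
      have hpow : ∀ j, cj (u ^ (2 * j)) R = R := by
        intro j
        induction j with
        | zero => rw [mul_zero, pow_zero, cj_one]
        | succ j ih => rw [mul_add, mul_one, pow_add, pow_two, ← cj_cj, ← cj_cj u u, e, e2, ih]
      obtain ⟨j, hj⟩ : Odd (orderOf u) := by
        rw [← Nat.not_even_iff_odd, even_iff_two_dvd]
        intro h2
        have hord : orderOf (u ^ (orderOf u / 2)) = 2 :=
          orderOf_pow_orderOf_div (orderOf_pos u).ne' h2
        exact ha1 (g.cit.eq_one_of_commute (two_of_orderOf hord) (ne_one_of_orderOf hord) haodd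
          ((show Commute a u from hua.symm).pow_right _).eq)
      have h6 : cj (u ^ (2 * j + 1)) R = R := by rw [← hj, pow_orderOf_eq_one, cj_one]
      rw [pow_succ', ← cj_cj, hpow j, e] at h6
      exact h.t0.wR h6
  have hx3 : x ^ 3 ∈ L0 := g.mem_L0_of_fix (by
    calc cj (x ^ 3) V0 = cj x (cj x (cj x V0)) := by rw [cj_cj, cj_cj, ← pow_three']
      _ = V0 := by rw [hx0, hx2, hx1])
  have hx3H := hcent _ hx3 ((show Commute x a from hxa).pow_left 3).eq
  have hx21 : (x ^ 7) ^ 3 = 1 := by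
    rw [← pow_mul, mul_comm, pow_mul]
    have := congrArg Subtype.val (pow_card_eq_one' (x := (⟨x ^ 3, hx3H⟩ : H)))
    rwa [h.t0.card] at this
  set c := x ^ 7 with hc
  have hc1 : c ≠ 1 := by
    intro e
    have hxH : x ∈ H := by
      have h7 : x = ((x ^ 3) ^ 2)⁻¹ := by
        rw [eq_inv_iff_mul_eq_one, ← pow_mul, ← pow_succ']
        exact e
      rw [h7]
      exact inv_mem (pow_mem hx3H _)
    exact hP20 (by rw [← hx0, cj_eq_of_mem_normalizer (le_normalizer_vv L0 (h.t0.le hxH))])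
  have hc3 : orderOf c = 3 := orderOf_eq_prime hx21 hc1
  have hca : c * a = a * c := ((show Commute x a from hxa).pow_left 7).eq
  -- a conjugate of `c` lies in the vertex
  obtain ⟨P0⟩ := (inferInstance : Nonempty (Sylow 3 L0))
  have hL0 : Nat.card L0 = 32256 := by rw [g.conf.card_L0]
  have hG : Nat.card G = 2354688 := by rw [g.card_group (Or.inr rfl), hL0]
  have hv3 : ∀ (m n : ℕ), m = 3 ^ 2 * n → ¬ 3 ∣ n → m.factorization 3 = 2 := fun m n e hn => by
    have hn0 : n ≠ 0 := fun e0 => hn (e0 ▸ dvd_zero 3)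
    rw [e, Nat.factorization_mul (by norm_num) hn0, Finsupp.add_apply, Nat.prime_three.factorization_pow,
      Finsupp.single_eq_same, Nat.factorization_eq_zero_of_not_dvd hn]
  have hP0 : Nat.card ((P0 : Subgroup L0).map L0.subtype) = 3 ^ (Nat.card G).factorization 3 := by
    rw [Subgroup.card_map_of_injective L0.subtype_injective, P0.card_eq_multiplicity, hL0, hG,
      hv3 32256 3584 (by norm_num) (by norm_num), hv3 2354688 261632 (by norm_num) (by norm_num)]
  let S0 : Sylow 3 G := Sylow.ofCard _ hP0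
  have hcp : IsPGroup 3 (Subgroup.zpowers c) :=
    IsPGroup.of_card (n := 1) (by rw [Nat.card_zpowers, hc3, pow_one])
  obtain ⟨S, hS⟩ := hcp.exists_le_sylow
  obtain ⟨k, hk⟩ := MulAction.exists_smul_eq G S S0
  have hdL : k * c * k⁻¹ ∈ L0 := by
    have hm : k * c * k⁻¹ ∈ (S0 : Subgroup G) := by
      rw [← hk, Sylow.coe_subgroup_smul]
      exact Subgroup.smul_mem_pointwise_smul c (MulAut.conj k) _ (hS (Subgroup.mem_zpowers c))
    obtain ⟨y, -, hy⟩ := Subgroup.mem_map.mp (show k * c * k⁻¹ ∈ (P0 : Subgroup L0).map L0.subtype from hm)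
    exact hy ▸ y.2
  set d := k * c * k⁻¹ with hd
  set a' := k * a * k⁻¹ with ha'
  have hd3 : orderOf d = 3 := by
    rw [hd, ← MulAut.conj_apply, MulEquiv.orderOf_eq, hc3]
  have hnofix : ∀ X, SylIn L0 X → cj d X ≠ X := by
    intro X hX hfX
    obtain ⟨l, hl, rfl⟩ := g.conf.pair.s1.conj hX
    have hmem : d ∈ cj l (L0 ⊓ normalizer (R : Set G)) := by
      rw [cj_inf, cj_eq_of_mem hl, cj_normalizer]
      exact ⟨hdL, mem_normalizer_of_cj_eq hfX⟩
    have := Subgroup.orderOf_dvd_natCard _ hmem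
    rw [hd3, card_cj, g.conf.card_B g.cit] at this
    norm_num at this
  have hfd0 : cj d V0 = V0 := cj_eq_of_mem_normalizer (le_normalizer_vv L0 hdL)
  have hone : ∀ V, IsPt L0 V → cj d V = V → V = V0 := by
    intro V hV hf
    by_contra hne
    obtain ⟨W, hW, i0, iV⟩ := (g.collinear (Or.inr rfl)).1 V hV hne
    have fW : cj d W = W := g.line_unique p0 hV (Ne.symm hne) (hW.cj' d) hW
      (by have := i0.cj' d; rwa [hfd0] at this) i0 (by have := iV.cj' d; rwa [hf] at this) iV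
    exact hnofix _ (g.symm.sup_mem hW i0.symm') (by rw [cj_sup, fW, hfd0])
  have hcomm : d * a' = a' * d := by
    calc d * a' = k * (c * a) * k⁻¹ := by rw [hd, ha']; group
      _ = a' * d := by rw [hca, hd, ha']; group
  have ha'L : a' ∈ L0 := g.mem_L0_of_fix (hone _ (p0.cj' a') (by
    rw [cj_cj, hcomm, ← cj_cj, hfd0]))
  have ha'odd : Odd (orderOf a') := by rw [ha']; exact odd_orderOf_conj haodd k
  have ha'1 : a' ≠ 1 := fun e => ha1 (conj_eq_one_iff.mp e)
  have ha'7 : orderOf a' = 7 := orderOf_eq_prime (by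
    rw [ha', conj_pow, ha7, mul_one, mul_inv_cancel]) ha'1
  -- `a'` fixes a Sylow subgroup
  let Ω := {X : Subgroup G // SylIn L0 X}
  letI : MulAction (Subgroup.zpowers a') Ω :=
    { smul := fun e X => ⟨cj (e : G) X.1, X.2.cj_mem (Subgroup.zpowers_le.mpr ha'L e.2)⟩
      one_smul := fun X => Subtype.ext (cj_one _)
      mul_smul := fun e f X => Subtype.ext (cj_cj (e : G) (f : G) X.1).symm }
  obtain ⟨⟨X, hX⟩, hfX⟩ : (MulAction.fixedPoints (Subgroup.zpowers a') Ω).Nonempty := by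
    refine IsPGroup.nonempty_fixed_point_of_prime_not_dvd_card
      (IsPGroup.of_card (n := 1) (by rw [Nat.card_zpowers, ha'7, pow_one]) :
        IsPGroup 7 (Subgroup.zpowers a')) Ω ?_
    rw [g.conf.nat0.card_sylIn g.cit]; norm_num
  have fX : cj a' X = X := congrArg Subtype.val
    (MulAction.mem_fixedPoints.mp hfX ⟨a', Subgroup.mem_zpowers a'⟩)
  have hfd : ∀ Y, cj a' Y = Y → cj a' (cj d Y) = cj d Y := fun Y hY => by
    rw [cj_cj, ← hcomm, ← cj_cj, hY]
  have hddd : cj d (cj d (cj d X)) = X := by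
    rw [cj_cj, cj_cj, ← pow_three', ← hd3, pow_orderOf_eq_one, cj_one]
  exact g.fix_two ha'odd ha'1 ha'L hX (hX.cj_mem hdL) ((hX.cj_mem hdL).cj_mem hdL) (hnofix X hX)
    (fun e => hnofix X hX (by
      have h5 := congrArg (cj d) e
      rw [hddd] at h5
      exact h5.symm))
    (fun e => hnofix _ (hX.cj_mem hdL) e.symm) fX (hfd _ fX) (hfd _ (hfd _ fX))

end Cfsg.Agent.CIT
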