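import Cfsg.Agent.CIT.Act
import Cfsg.Agent.FGS75.SelfNorm.Reverse
import Mathlib.GroupTheory.Subgroup.Simple

/-!
No elementary offender when a normal subgroup has the order of PSL₂ over a Fermat prime.
-/

set_option autoImplicit false

namespace Cfsg.Agent.CIT

open Subgroup

theorem sylow_count {T : Type*} [Group T] [Finite T] [IsSimpleGroup T]
    (hns : ¬ Group.IsSolvable T) {p : ℕ} [hp : Fact p.Prime] (hp3 : 3 ≤ p)
    (hT : 2 * Nat.card T = p * (p - 1) * (p + 1)) :
    Nat.card (Sylow p T) = p + 1 ∧ ∀ P : Sylow p T, Nat.card (P : Subgroup T) = p := by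
  have hP : ∀ P : Sylow p T, Nat.card (P : Subgroup T) = p := by
    intro P
    obtain ⟨e, he⟩ := IsPGroup.iff_card.mp P.isPGroup'
    have hdT : p ∣ Nat.card T := by
      refine ((Nat.coprime_primes hp.out Nat.prime_two).mpr (by omega)).dvd_of_dvd_mul_left
        (hT ▸ ?_)
      exact dvd_mul_of_dvd_left (dvd_mul_right p _) _
    have h1 : p ∣ Nat.card (P : Subgroup T) := P.dvd_card_of_dvd_card hdT
    rcases e with _ | _ | e
    · rw [he, pow_zero, Nat.dvd_one] at h1; omega
    · rw [he, pow_one]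
    · exfalso
      have h2 : p ^ 2 ∣ p * ((p - 1) * (p + 1)) := by
        rw [← mul_assoc, ← hT]
        exact dvd_mul_of_dvd_right ((pow_dvd_pow p (by omega)).trans
          (he ▸ Subgroup.card_subgroup_dvd_card _)) 2
      rw [pow_two] at h2
      rcases hp.out.dvd_mul.mp (Nat.dvd_of_mul_dvd_mul_left hp.out.pos h2) with h3 | h3
      · have := Nat.le_of_dvd (by omega) h3; omega
      · have h4 := (Nat.dvd_add_right (dvd_refl p)).mp h3
        rw [Nat.dvd_one] at h4; omega
  refine ⟨?_, hP⟩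
  obtain ⟨P⟩ := (inferInstance : Nonempty (Sylow p T))
  have h1 := card_sylow_modEq_one p T
  obtain ⟨c, hc⟩ := P.card_dvd_index
  have hidx : p * (2 * (P : Subgroup T).index) = p * ((p - 1) * (p + 1)) := by
    rw [← mul_assoc p (p - 1), ← hT, ← (P : Subgroup T).card_mul_index, hP P]; ring
  have hidx' := Nat.eq_of_mul_eq_mul_left hp.out.pos hidx
  rw [hc] at hidx'
  have hn1 : Nat.card (Sylow p T) ≠ 1 := by
    intro h1'
    haveI : Subsingleton (Sylow p T) := (Nat.card_eq_one_iff_unique.mp h1').1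
    have hn : (P : Subgroup T).Normal := inferInstance
    rcases hn.eq_bot_or_eq_top with h | h
    · have := hP P; rw [h, Subgroup.card_bot] at this; omega
    · refine hns ?_
      haveI := P.isPGroup'.isNilpotent
      exact Group.isSolvable_of_surjective
        (f := ((MulEquiv.subgroupCongr h).trans Subgroup.topEquiv).toMonoidHom)
        (MulEquiv.surjective _)
  obtain ⟨n, hn⟩ : ∃ n, Nat.card (Sylow p T) = n := ⟨_, rfl⟩
  rw [hn] at hidx' h1 hn1 ⊢
  have hpos : 0 < n := hn ▸ Nat.card_pos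
  obtain ⟨s, hs⟩ : p ∣ n - 1 := (Nat.modEq_iff_dvd' hpos).mp h1.symm
  have hs1 : n = 1 + s * p := by rw [mul_comm s]; omega
  obtain ⟨u, hu⟩ : ∃ u, p = u + 1 := ⟨p - 1, by omega⟩
  have hu' : p - 1 = u := by omega
  rw [hu', hs1] at hidx'
  have hc0 : c ≠ 0 := fun e => by rw [e] at hidx'; simp at hidx'; omega
  have hkey : 2 * c + 1 + 2 * c * (s * p) = p * p := by
    calc 2 * c + 1 + 2 * c * (s * p) = 2 * ((1 + s * p) * c) + 1 := by ring
      _ = u * (p + 1) + 1 := by rw [hidx']
      _ = p * p := by rw [hu]; ring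
  have hd : p ∣ 2 * c + 1 :=
    (Nat.dvd_add_left (dvd_mul_of_dvd_right (dvd_mul_left p s) (2 * c))).mp
      (hkey ▸ dvd_mul_right p p)
  have hc2 : p ≤ 2 * c + 1 := Nat.le_of_dvd (by omega) hd
  have hle : (1 + s * p) * u ≤ u * (p + 1) := by
    rw [← hidx', show 2 * ((1 + s * p) * c) = (1 + s * p) * (2 * c) by ring]
    exact Nat.mul_le_mul_left _ (by omega)
  have hle' : 1 + s * p ≤ p + 1 :=
    Nat.le_of_mul_le_mul_right (by rwa [mul_comm u] at hle) (by omega)
  rcases s with _ | _ | s
  · exfalso; omega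
  · omega
  · exfalso; nlinarith

variable {X V : Type*} [Group X] [Group V] [Finite X] [Finite V] {φ : X →* MulAut V}

theorem Act.false_of_fermat (h : Act φ) [Nontrivial X] (T : Subgroup X) [T.Normal] [IsSimpleGroup T]
    (hns : ¬ Group.IsSolvable T) {p : ℕ} [hp : Fact p.Prime] (hp4 : p % 4 = 1) (hp17 : 17 ≤ p)
    (hT : 2 * Nat.card T = p * (p - 1) * (p + 1)) {A : Subgroup X} (hA : ∀ a ∈ A, a * a = 1)
    (hoff : Nat.card V ≤ Nat.card A * Nat.card A) : False := by
  classical
  obtain ⟨hn, hP⟩ := sylow_count hns (p := p) (by omega) hT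
  let Ω := {P : Subgroup X // P ≤ T ∧ Nat.card P = p}
  let e : Sylow p T → Ω := fun Q => ⟨(Q : Subgroup T).map T.subtype, Subgroup.map_subtype_le _,
    by rw [Subgroup.card_map_of_injective T.subtype_injective, hP Q]⟩
  have hΩ : Nat.card Ω = p + 1 := by
    rw [← hn]
    refine (Nat.card_eq_of_bijective e ⟨fun a b hab => ?_, fun Q => ?_⟩).symm
    · exact Sylow.ext (Subgroup.map_injective T.subtype_injective (congrArg Subtype.val hab :))
    · have hc : Nat.card (Q.1.subgroupOf T) = p := by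
        rw [Nat.card_congr (Subgroup.subgroupOfEquivOfLe Q.2.1).toEquiv, Q.2.2]
      obtain ⟨S, hS⟩ := (IsPGroup.of_card (p := p) (n := 1) (by rw [hc, pow_one])).exists_le_sylow
      refine ⟨S, Subtype.ext ?_⟩
      show (S : Subgroup T).map T.subtype = Q.1
      rw [← Subgroup.eq_of_le_of_card_ge hS (by rw [hP S, hc]), Subgroup.subgroupOf_map_subtype,
        inf_eq_left.mpr Q.2.1]
  letI : MulAction A Ω :=
    { smul := fun a P => ⟨P.1.map (MulAut.conj (a : X)).toMonoidHom, by
          rintro _ ⟨x, hx, rfl⟩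
          exact (inferInstance : T.Normal).conj_mem x (P.2.1 hx) a,
        by rw [Subgroup.card_map_of_injective (MulAut.conj (a : X)).injective, P.2.2]⟩
      one_smul := fun P => Subtype.ext (by
        show P.1.map (MulAut.conj ((1 : A) : X)).toMonoidHom = P.1
        rw [Subgroup.coe_one, map_one]; exact Subgroup.map_id _)
      mul_smul := fun a b P => Subtype.ext (by
        show P.1.map (MulAut.conj ((a * b : A) : X)).toMonoidHom =
          (P.1.map (MulAut.conj (b : X)).toMonoidHom).map (MulAut.conj (a : X)).toMonoidHom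
        rw [Subgroup.map_map, Subgroup.coe_mul, map_mul]; rfl) }
  haveI : Fact (Nat.Prime 2) := ⟨Nat.prime_two⟩
  have hA2 : IsPGroup 2 A := isPGroup_of_two fun a ha => two_of_sq (hA a ha)
  obtain ⟨P, hPi⟩ : ∃ P : Ω, (MulAction.stabilizer A P).index ≤ 2 := by
    by_contra hc
    push Not at hc
    haveI : Fintype (MulAction.orbitRel.Quotient A Ω) := Fintype.ofFinite _
    have h2 := Nat.card_congr (MulAction.selfEquivSigmaOrbitsQuotientStabilizer A Ω)
    rw [Nat.card_sigma, hΩ] at h2
    have h4 : 4 ∣ p + 1 := h2 ▸ Finset.dvd_sum fun i _ => by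
      show 4 ∣ (MulAction.stabilizer A (Quotient.out i)).index
      obtain ⟨k, hk⟩ := IsPGroup.index hA2 (MulAction.stabilizer A (Quotient.out i))
      rw [hk]
      rcases k with _ | _ | k
      · have := hc (Quotient.out i); rw [hk] at this; omega
      · have := hc (Quotient.out i); rw [hk] at this; omega
      · exact ⟨2 ^ k, by ring⟩
    omega
  have hinv : ∀ a : A, a • P = P → (a : X) ≠ 1 → ∀ x ∈ P.1, (a : X) * x * (a : X)⁻¹ = x⁻¹ := by
    intro a ha ha1
    refine FGS75.SelfNorm.inverts_of_fpf (hA a a.2) (fun x hx => ?_) fun x hx hc => ?_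
    · have := congrArg Subtype.val ha
      exact this ▸ Subgroup.mem_map_of_mem _ hx
    · refine h.cit.eq_one_of_commute (two_of_sq (hA a a.2)) ha1
        (Odd.of_dvd_nat (hp.out.odd_of_ne_two (by omega)) (P.2.2 ▸ Subgroup.orderOf_dvd_natCard _ hx))
        hc.symm
  have hB : Nat.card (MulAction.stabilizer A P) ≤ 2 := by
    obtain ⟨x, hx, hx1⟩ : ∃ x ∈ P.1, x ≠ 1 := by
      by_contra hc
      push Not at hc
      have hP1 := P.2.2
      rw [(Subgroup.eq_bot_iff_forall _).mpr hc, Subgroup.card_bot] at hP1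
      omega
    by_contra hc
    push Not at hc
    haveI : Nontrivial (MulAction.stabilizer A P) :=
      Finite.one_lt_card_iff_nontrivial.mp (by omega)
    obtain ⟨a, ha1⟩ := exists_ne (1 : MulAction.stabilizer A P)
    obtain ⟨b, hb1, hba⟩ : ∃ b : MulAction.stabilizer A P, b ≠ 1 ∧ b ≠ a := by
      by_contra hcc
      push Not at hcc
      have hsub : (Set.univ : Set (MulAction.stabilizer A P)) ⊆ {1, a} := fun b _ => by
        by_cases hb : b = 1
        · exact Or.inl hb
        · exact Or.inr (hcc b hb)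
      have := Set.ncard_le_ncard hsub
      rw [Set.ncard_univ, Set.ncard_pair ha1.symm] at this
      omega
    have hne : ∀ c : MulAction.stabilizer A P, c ≠ 1 → ((c : A) : X) ≠ 1 := fun c hc e =>
      hc (Subtype.ext (Subtype.ext e))
    have hab : ((a : A) : X) * ((b : A) : X) ≠ 1 := fun e => hba (Subtype.ext (Subtype.ext (by
      rw [eq_inv_of_mul_eq_one_right e]; exact inv_of_sq (hA _ (a : A).2))))
    refine hx1 (h.cit.eq_one_of_commute (two_of_sq (hA _ (mul_mem (a : A).2 (b : A).2))) hab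
      (Odd.of_dvd_nat (hp.out.odd_of_ne_two (by omega)) (P.2.2 ▸ Subgroup.orderOf_dvd_natCard _ hx))
      ?_)
    have e : ((a : A) : X) * ((b : A) : X) * x * (((a : A) : X) * ((b : A) : X))⁻¹ = x := by
      calc ((a : A) : X) * ((b : A) : X) * x * (((a : A) : X) * ((b : A) : X))⁻¹
          = ((a : A) : X) * (((b : A) : X) * x * ((b : A) : X)⁻¹) * ((a : A) : X)⁻¹ := by group
        _ = x := by
          rw [hinv b b.2 (hne b hb1) x hx, hinv a a.2 (hne a ha1) x⁻¹ (inv_mem hx), inv_inv]
    exact (mul_inv_eq_iff_eq_mul.mp e).symm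
  have hA4 : Nat.card A ≤ 4 := by
    rw [← (MulAction.stabilizer A P).card_mul_index]
    exact Nat.mul_le_mul hB hPi
  have hpX : p ∣ Nat.card X := by
    have hd := Subgroup.card_subgroup_dvd_card P.1
    rwa [P.2.2] at hd
  have h1 := h.one_lt_card
  have h2 := Nat.le_of_dvd (by omega) (h.dvd_of_odd (hp.out.odd_of_ne_two (by omega)) hpX)
  have h3 := Nat.mul_le_mul hA4 hA4
  omega

end Cfsg.Agent.CIT
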