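import Cfsg.Agent.Leech.Plane21
import Cfsg.Agent.PlaneFour.Coord

/-!
The plane over the field with four elements, and a bound on the automorphisms of a plane of order 4.
-/

set_option autoImplicit false

universe u

namespace Cfsg.Agent.CIT

open Cfsg Cfsg.Agent.Plane21 Matrix
open Cfsg.Agent.PlaneFour (IsPlane IsArc mem_arcs mem_setSystemAut_iff)

/-- The points of the plane over `F4`. -/
abbrev MPt : Type := {p : GolayPt // ¬ IsBase p}

/-- The line with the given coordinates. -/
def mline (a : MPt) : Finset MPt :=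
  Finset.univ.filter fun p => ptVec a.1 ⬝ᵥ ptVec p.1 = 0

/-- The lines. -/
def mlines : Set (Finset MPt) := Set.range mline

theorem card_mpt : Fintype.card MPt = 21 := by decide +kernel

theorem card_mline : ∀ a, (mline a).card = 5 := by decide +kernel

theorem mline_pair : ∀ p r : MPt, p ≠ r → ∃ a, ptVec a.1 ⬝ᵥ ptVec p.1 = 0 ∧
    ptVec a.1 ⬝ᵥ ptVec r.1 = 0 ∧
      ∀ b : MPt, ptVec b.1 ⬝ᵥ ptVec p.1 = 0 → ptVec b.1 ⬝ᵥ ptVec r.1 = 0 → b = a := by
  decide +kernel

theorem isPlane_mlines : IsPlane mlines := by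
  refine ⟨card_mpt, ?_, fun s hs => ?_⟩
  · rintro _ ⟨a, rfl⟩
    exact card_mline a
  · obtain ⟨p, r, hne, rfl⟩ := Finset.card_eq_two.mp hs
    obtain ⟨a, hp, hr, hu⟩ := mline_pair p r hne
    refine ⟨mline a, ⟨⟨a, rfl⟩, by simp [Finset.insert_subset_iff, mline, hp, hr]⟩, ?_⟩
    rintro _ ⟨⟨b, rfl⟩, hb⟩
    simp only [Finset.insert_subset_iff, Finset.singleton_subset_iff, mline, Finset.mem_filter,
      Finset.mem_univ, true_and] at hb
    rw [hu b hb.1 hb.2]

theorem rep_preserves (A : Matrix.SpecialLinearGroup (Fin 3) F4) (p : GolayPt) :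
    IsBase p ↔ IsBase (rep A p) := by
  constructor
  · intro h; rw [rep_apply, act, if_pos h]; exact h
  · intro h
    by_contra hp
    rw [rep_apply, act, if_neg hp] at h
    exact (ptVec_vecPt (mulVec_ne_zero A.2 (ptVec_ne_zero hp))).1 h

/-- The action of `SL(3, 4)` on the plane. -/
def mrep : Matrix.SpecialLinearGroup (Fin 3) F4 →* Equiv.Perm MPt where
  toFun A := (rep A).subtypePerm fun p => not_congr (rep_preserves A p).symm
  map_one' := Equiv.ext fun p => Subtype.ext (by simp)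
  map_mul' A B := Equiv.ext fun p => Subtype.ext (by
    show rep (A * B) p.1 = rep A (rep B p.1)
    rw [map_mul]; rfl)

theorem mrep_apply (A : Matrix.SpecialLinearGroup (Fin 3) F4) (p : MPt) :
    (mrep A p : GolayPt) = vecPt (A.1 *ᵥ ptVec p.1) := by
  show rep A p.1 = _
  rw [rep_apply, act, if_neg p.2]

theorem mrep_ker : mrep.ker = Subgroup.center (Matrix.SpecialLinearGroup (Fin 3) F4) := by
  rw [← rep_ker]
  ext A
  rw [MonoidHom.mem_ker, MonoidHom.mem_ker]
  constructor
  · intro h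
    refine Equiv.ext fun p => ?_
    by_cases hp : IsBase p
    · rw [rep_apply, act, if_pos hp]; rfl
    · exact congrArg (fun σ : Equiv.Perm MPt => (σ ⟨p, hp⟩ : GolayPt)) h
  · intro h
    exact Equiv.ext fun p => Subtype.ext (congrArg (fun σ : Equiv.Perm GolayPt => σ p.1) h)

theorem card_mrep_range : Nat.card mrep.range = 20160 := by
  rw [← Subgroup.index_ker, mrep_ker, Subgroup.index_eq_card]
  exact card_PSL

theorem mrep_mem (A : Matrix.SpecialLinearGroup (Fin 3) F4) : mrep A ∈ setSystemAut mlines := by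
  classical
  rw [mem_setSystemAut_iff]
  refine Set.eq_of_subset_of_ncard_le ?_ (le_of_eq (Set.ncard_image_of_injective _
    (Finset.image_injective (mrep A).injective)).symm) (Set.toFinite _)
  rintro _ ⟨_, ⟨a, rfl⟩, rfl⟩
  set w := ptVec a.1 ᵥ* (↑(A⁻¹) : Matrix (Fin 3) (Fin 3) F4) with hw
  have hBA : (↑(A⁻¹) : Matrix (Fin 3) (Fin 3) F4) * (A : Matrix (Fin 3) (Fin 3) F4) = 1 := by
    rw [← Matrix.SpecialLinearGroup.coe_mul, inv_mul_cancel, Matrix.SpecialLinearGroup.coe_one]
  have hw0 : w ≠ 0 := by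
    intro e
    refine ptVec_ne_zero a.2 ?_
    have h1 := congrArg (fun v => v ᵥ* (A : Matrix (Fin 3) (Fin 3) F4)) e
    rwa [hw, Matrix.vecMul_vecMul, hBA, Matrix.vecMul_one, Matrix.zero_vecMul] at h1
  obtain ⟨hb, c, hc, he⟩ := ptVec_vecPt hw0
  refine ⟨⟨vecPt w, hb⟩, ?_⟩
  ext p
  obtain ⟨p', rfl⟩ := (mrep A).surjective p
  rw [Finset.mem_image]
  simp only [mline, Finset.mem_filter, Finset.mem_univ, true_and, EmbeddingLike.apply_eq_iff_eq,
    exists_eq_right]
  obtain ⟨-, d, hd, hd'⟩ := ptVec_vecPt (mulVec_ne_zero A.2 (ptVec_ne_zero p'.2))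
  have key : w ⬝ᵥ ((A : Matrix (Fin 3) (Fin 3) F4) *ᵥ ptVec p'.1) = ptVec a.1 ⬝ᵥ ptVec p'.1 := by
    rw [Matrix.dotProduct_mulVec, hw, Matrix.vecMul_vecMul, hBA, Matrix.vecMul_one]
  rw [he, mrep_apply, hd', smul_dotProduct, dotProduct_smul, key, smul_eq_mul, smul_eq_mul]
  exact ⟨fun h => ((mul_eq_zero.mp ((mul_eq_zero.mp h).resolve_left hc)).resolve_left hd),
    fun h => by rw [h, mul_zero, mul_zero]⟩

variable {α : Type*} [Fintype α] [DecidableEq α] {L : Set (Finset α)}

theorem card_setSystemAut_le (P : IsPlane L) : Nat.card (setSystemAut L) ≤ 120960 := by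
  classical
  obtain ⟨H, hH6, hH⟩ := P.exists_hyperoval
  have himg : ∀ g : setSystemAut L, H.image (g : Equiv.Perm α) ∈ PlaneFour.arcs L 6 := by
    intro g
    refine mem_arcs.mpr ⟨by rw [Finset.card_image_of_injective _ (g : Equiv.Perm α).injective, hH6], ?_⟩
    intro l hl
    have hg := mem_setSystemAut_iff.mp g.2
    obtain ⟨m, hm, rfl⟩ : l ∈ (fun l : Finset α => l.image (g : Equiv.Perm α)) '' L := hg.symm ▸ hl
    rw [← Finset.image_inter _ _ (g : Equiv.Perm α).injective,
      Finset.card_image_of_injective _ (g : Equiv.Perm α).injective]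
    exact hH m hm
  let eH := H.equivFinOfCardEq hH6
  let eK : ∀ K : {K // K ∈ PlaneFour.arcs L 6}, K.1 ≃ Fin 6 := fun K =>
    K.1.equivFinOfCardEq (mem_arcs.mp K.2).1
  let f : setSystemAut L → {K // K ∈ PlaneFour.arcs L 6} × Equiv.Perm (Fin 6) := fun g =>
    (⟨_, himg g⟩, Equiv.ofBijective
      (fun i => eK ⟨_, himg g⟩ ⟨(g : Equiv.Perm α) (eH.symm i),
        Finset.mem_image_of_mem _ (eH.symm i).2⟩)
      (Finite.injective_iff_bijective.mp fun i j e => by
        have e1 := congrArg Subtype.val ((eK ⟨_, himg g⟩).injective e)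
        exact eH.symm.injective (Subtype.ext ((g : Equiv.Perm α).injective e1))))
  have hf : Function.Injective f := by
    intro g g' e
    obtain ⟨e1, e2⟩ := Prod.mk.inj e
    have h1 : ∀ p : H, (g : Equiv.Perm α) p = (g' : Equiv.Perm α) p := by
      intro p
      obtain ⟨i, rfl⟩ := eH.symm.surjective p
      have h2 := congrFun (congrArg DFunLike.coe e2) i
      simp only [Equiv.ofBijective_apply] at h2
      have key : ∀ {K K' : {K // K ∈ PlaneFour.arcs L 6}} (_ : K = K') (x : α) (hx : x ∈ K.1)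
          (y : α) (hy : y ∈ K'.1), eK K ⟨x, hx⟩ = eK K' ⟨y, hy⟩ → x = y := by
        intro K K' hKK x hx y hy hh
        subst hKK
        exact congrArg Subtype.val ((eK K).injective hh)
      exact key e1 _ _ _ _ h2
    have h3 := P.existsUnique_extension hH6 hH (Equiv.refl _)
    have h4 : (g' : Equiv.Perm α)⁻¹ * (g : Equiv.Perm α) = 1 := h3.unique
      ⟨mul_mem (inv_mem g'.2) g.2, fun p => by
        rw [Equiv.Perm.mul_apply, h1]; simp⟩
      ⟨one_mem _, fun p => rfl⟩
    exact Subtype.ext (inv_mul_eq_one.mp h4).symm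
  refine (Nat.card_le_card_of_injective f hf).trans (le_of_eq ?_)
  rw [Nat.card_prod, Nat.card_eq_finsetCard, P.card_hyperovals, Nat.card_perm, Nat.card_fin]
  norm_num [Nat.factorial]

end Cfsg.Agent.CIT
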