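import Cfsg.Agent.CIT.Plane
import Cfsg.Agent.CIT.Eight
import Cfsg.Agent.CIT.ModelPlane

/-!
For `q = 4` the group is `PSL(3, 4)`.
-/

set_option autoImplicit false

universe u

namespace Cfsg.Agent.CIT

open Subgroup Cfsg
open Cfsg.Agent.PlaneFour (IsPlane mem_setSystemAut_iff)
open Cfsg.Agent.Plane21 (F4)

variable {G : Type u} [Group G] [Finite G] {L0 L1 R : Subgroup G} {q : ℕ}

theorem Geo.collinear_any (g : Geo L0 L1 R q) (hq : q = 4 ∨ q = 8) {V V' : Subgroup G}
    (hV : IsPt L0 V) (hV' : IsPt L0 V') (hne : V ≠ V') :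
    ∃ W, IsPt L1 W ∧ Inc V W ∧ Inc V' W := by
  obtain ⟨k, rfl⟩ := hV
  obtain ⟨W, hW, i, i'⟩ := (g.collinear hq).1 (cj k⁻¹ V') (hV'.cj' _) fun e =>
    hne (by rw [← e, cj_cj_inv])
  refine ⟨cj k W, hW.cj' k, i.cj' k, ?_⟩
  have := i'.cj' k
  rwa [cj_cj_inv] at this

theorem Geo.psl_three_four (g : Geo L0 L1 R 4) [IsSimpleGroup G] :
    Nonempty (G ≃* Matrix.ProjectiveSpecialLinearGroup (Fin 3) F4) := by
  classical
  haveI : Fintype {V : Subgroup G // IsPt L0 V} := Fintype.ofFinite _
  letI : MulAction G {V : Subgroup G // IsPt L0 V} :=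
    { smul := fun x V => ⟨cj x V.1, V.2.cj' x⟩
      one_smul := fun V => Subtype.ext (cj_one _)
      mul_smul := fun a b V => Subtype.ext (cj_cj a b V.1).symm }
  let lineSet : Subgroup G → Finset {V : Subgroup G // IsPt L0 V} := fun W =>
    Finset.univ.filter fun V => Inc V.1 W
  have memls : ∀ {W : Subgroup G} {V : {V : Subgroup G // IsPt L0 V}},
      V ∈ lineSet W ↔ Inc V.1 W := fun {W V} => by simp [lineSet]
  let L : Set (Finset {V : Subgroup G // IsPt L0 V}) := lineSet '' {W | IsPt L1 W}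
  have P : IsPlane L := by
    refine ⟨?_, ?_, fun s hs => ?_⟩
    · rw [← Nat.card_eq_fintype_card, Nat.card_congr (Equiv.subtypeEquivRight (q := fun V => V ∈ pts L0)
        fun V => mem_pts.symm), Nat.card_eq_finsetCard, (g.collinear (Or.inl rfl)).2]
    · rintro _ ⟨W, hW, rfl⟩
      refine Eq.trans ?_ (g.card_on hW)
      exact Finset.card_bij (fun V _ => V.1) (fun V hV => mem_onSet.mpr ⟨V.2, memls.mp hV⟩)
        (fun V _ V' _ e => Subtype.ext e)
        (fun V hV => ⟨⟨V, (mem_onSet.mp hV).1⟩, memls.mpr (mem_onSet.mp hV).2, rfl⟩)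
    · obtain ⟨V, V', hne, rfl⟩ := Finset.card_eq_two.mp hs
      obtain ⟨W, hW, i, i'⟩ := g.collinear_any (Or.inl rfl) V.2 V'.2 fun e => hne (Subtype.ext e)
      refine ⟨lineSet W, ⟨⟨W, hW, rfl⟩, by simp [Finset.insert_subset_iff, memls, i, i']⟩, ?_⟩
      rintro _ ⟨⟨W', hW', rfl⟩, hs'⟩
      simp only [Finset.insert_subset_iff, Finset.singleton_subset_iff, memls] at hs'
      rw [g.line_unique V.2 V'.2 (fun e => hne (Subtype.ext e)) hW hW' i hs'.1 i' hs'.2]
  let φ := MulAction.toPermHom G {V : Subgroup G // IsPt L0 V}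
  have happ : ∀ x V, ((φ x V) : Subgroup G) = cj x V.1 := fun _ _ => rfl
  have hφmem : ∀ x, φ x ∈ setSystemAut L := by
    intro x
    rw [mem_setSystemAut_iff]
    refine Set.eq_of_subset_of_ncard_le ?_ (le_of_eq (Set.ncard_image_of_injective _
      (Finset.image_injective (φ x).injective)).symm) (Set.toFinite _)
    rintro _ ⟨_, ⟨W, hW, rfl⟩, rfl⟩
    refine ⟨cj x W, hW.cj' x, ?_⟩
    ext V
    obtain ⟨V', rfl⟩ := (φ x).surjective V
    simp only [Finset.mem_image, EmbeddingLike.apply_eq_iff_eq, exists_eq_right, memls, happ]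
    refine ⟨fun h => ?_, fun h => h.cj' x⟩
    have := h.cj' x⁻¹
    rwa [cj_inv_cj, cj_inv_cj] at this
  have hφinj : Function.Injective φ := by
    rw [← MonoidHom.ker_eq_bot_iff]
    refine (MonoidHom.normal_ker φ).eq_bot_or_eq_top.resolve_right fun htop => ?_
    haveI : Subsingleton {V : Subgroup G // IsPt L0 V} := ⟨fun V V' => by
      obtain ⟨k, hk⟩ := V.2
      obtain ⟨k', hk'⟩ := V'.2
      have hfix : ∀ x, cj x (vv L0) = vv L0 := fun x => by
        have h1 : φ x = 1 := MonoidHom.mem_ker.mp (htop ▸ Subgroup.mem_top x)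
        rw [← happ x ⟨_, isPt_vv L0⟩, h1]; rfl
      exact Subtype.ext (by rw [← hk, ← hk', hfix, hfix])⟩
    have h1 := P.card_points
    have h2 := Fintype.card_le_one_iff_subsingleton.mpr ‹_›
    omega
  obtain ⟨e, he⟩ := PlaneFour.iso_of_planes P isPlane_mlines
  have hconj : ∀ x, Equiv.permCongr e (φ x) ∈ setSystemAut mlines := by
    intro x
    rw [mem_setSystemAut_iff]
    conv_lhs => rw [← he]
    rw [Set.image_image]
    have h3 : ∀ b : Finset {V : Subgroup G // IsPt L0 V},
        (b.image e).image (Equiv.permCongr e (φ x)) = (b.image (φ x)).image e := fun b => by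
      rw [Finset.image_image, Finset.image_image]
      refine Finset.image_congr fun v _ => ?_
      simp [Equiv.permCongr_apply]
    simp only [h3]
    rw [← Set.image_image (fun b : Finset {V : Subgroup G // IsPt L0 V} => b.image e)
      (fun b => b.image (φ x)) L, mem_setSystemAut_iff.mp (hφmem x), he]
  let f : G →* setSystemAut mlines := ((e.permCongrHom).toMonoidHom.comp φ).codRestrict _ hconj
  have hf : Function.Injective f := fun a b h => hφinj (e.permCongrHom.injective (congrArg Subtype.val h))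
  set N := mrep.range.subgroupOf (setSystemAut mlines) with hN
  have hNle : mrep.range ≤ setSystemAut mlines := by
    rintro _ ⟨A, rfl⟩; exact mrep_mem A
  have hNc : Nat.card N = 20160 := by
    rw [Nat.card_congr (Subgroup.subgroupOfEquivOfLe hNle).toEquiv, card_mrep_range]
  have hG : Nat.card G = 20160 := by
    rw [g.card_group (Or.inl rfl), g.conf.card_L0]
  have hidx : N.index ≤ 6 := by
    have h1 := Subgroup.card_mul_index N
    have h2 := card_setSystemAut_le isPlane_mlines
    rw [hNc] at h1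
    omega
  let ψ := (MulAction.toPermHom (setSystemAut mlines) (setSystemAut mlines ⧸ N)).comp f
  have hle : f.range ≤ N := by
    rcases (MonoidHom.normal_ker ψ).eq_bot_or_eq_top with h | h
    · exfalso
      have h1 := Nat.card_le_card_of_injective ψ ((MonoidHom.ker_eq_bot_iff ψ).mp h)
      rw [hG, Nat.card_perm, ← Subgroup.index_eq_card] at h1
      have h2 := Nat.factorial_le hidx
      norm_num [Nat.factorial] at h2
      omega
    · rintro _ ⟨x, rfl⟩
      have h1 : ψ x = 1 := MonoidHom.mem_ker.mp (h ▸ Subgroup.mem_top x)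
      have h2 : f x • ((1 : setSystemAut mlines) : setSystemAut mlines ⧸ N) = ((1 : setSystemAut mlines) : setSystemAut mlines ⧸ N) :=
        congrArg (fun σ : Equiv.Perm (setSystemAut mlines ⧸ N) =>
          σ ((1 : setSystemAut mlines) : setSystemAut mlines ⧸ N)) h1
      rw [MulAction.Quotient.smul_mk, smul_eq_mul, mul_one, QuotientGroup.eq] at h2
      simpa using h2
  have heq : f.range = N := Subgroup.eq_of_le_of_card_ge hle (le_of_eq (by
    rw [hNc, ← Nat.card_congr (MonoidHom.ofInjective hf).toEquiv, hG]))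
  exact ⟨(MonoidHom.ofInjective hf).trans ((MulEquiv.subgroupCongr heq).trans
    ((Subgroup.subgroupOfEquivOfLe hNle).trans ((QuotientGroup.quotientKerEquivRange mrep).symm.trans
      (QuotientGroup.quotientMulEquivOfEq mrep_ker))))⟩

end Cfsg.Agent.CIT
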