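import Cfsg.Agent.CIT.SylowCase

/-!
The geometry of the conjugates of the two modules when their product is a Sylow subgroup.
-/

set_option autoImplicit false

universe u

namespace Cfsg.Agent.CIT

open Subgroup

variable {G : Type u} [Group G] [Finite G]

/-- The conjugates of the module of `L`. -/
def IsPt (L V : Subgroup G) : Prop := ∃ g : G, cj g (vv L) = V

/-- Incidence. -/
def Inc (V W : Subgroup G) : Prop := ∃ t ∈ V, t ∈ W ∧ t ≠ 1

omit [Finite G] in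
theorem isPt_vv (L : Subgroup G) : IsPt L (vv L) := ⟨1, cj_one _⟩

omit [Finite G] in
theorem IsPt.cj' {L V : Subgroup G} (h : IsPt L V) (g : G) : IsPt L (cj g V) := by
  obtain ⟨k, rfl⟩ := h
  exact ⟨g * k, (cj_cj g k _).symm⟩

omit [Finite G] in
theorem Inc.symm' {V W : Subgroup G} : Inc V W → Inc W V := fun ⟨t, h1, h2, h3⟩ => ⟨t, h2, h1, h3⟩

omit [Finite G] in
theorem Inc.cj' {V W : Subgroup G} (h : Inc V W) (g : G) : Inc (cj g V) (cj g W) :=
  let ⟨t, h1, h2, h3⟩ := h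
  ⟨g * t * g⁻¹, conj_mem_cj h1, conj_mem_cj h2, fun e => h3 (conj_eq_one_iff.mp e)⟩

theorem IsPt.sq {L V : Subgroup G} (h : IsPt L V) {v : G} (hv : v ∈ V) : v * v = 1 := by
  obtain ⟨g, rfl⟩ := h
  exact sq_cj (fun x hx => vv_sq hx) hv

theorem IsPt.comm {L V : Subgroup G} (h : IsPt L V) {v w : G} (hv : v ∈ V) (hw : w ∈ V) :
    v * w = w * v := by
  have hvw : (v * w)⁻¹ = v * w := inv_of_sq (h.sq (mul_mem hv hw))
  rw [← hvw, mul_inv_rev, inv_of_sq (h.sq hv), inv_of_sq (h.sq hw)]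

omit [Finite G] in
theorem cj_eq_self_of_comm {t : G} {V : Subgroup G} (hc : ∀ v ∈ V, t * v = v * t) : cj t V = V := by
  refine cj_eq_of_mem_normalizer (Subgroup.mem_normalizer_iff.mpr fun v => ⟨fun hv => ?_, fun hv => ?_⟩)
  · rwa [hc v hv, mul_inv_cancel_right]
  · have h1 := hc _ hv
    have h2 : v = t * v * t⁻¹ := by
      calc v = t⁻¹ * (t * v * t⁻¹ * t) := by group
        _ = t⁻¹ * (t * (t * v * t⁻¹)) := by rw [h1]
        _ = t * v * t⁻¹ := by group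
    rwa [h2]

/-- The geometry: the configuration has a Sylow subgroup as common subgroup. -/
structure Geo (L0 L1 R : Subgroup G) (q : ℕ) : Prop where
  conf : Conf L0 L1 R q
  cit : IsCIT G
  top : SylIn ⊤ R

variable {L0 L1 R : Subgroup G} {q : ℕ} (g : Geo L0 L1 R q)
include g

theorem Geo.symm : Geo L1 L0 R q := ⟨g.conf.symm, g.cit, g.top⟩

theorem Geo.vv_ne : vv L0 ≠ vv L1 := by
  intro e
  have h := g.conf.card_Z
  rw [e, inf_idem, g.conf.nat1.cardV] at h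
  have hq := g.conf.nat0.q2
  nlinarith

theorem Geo.eq_or_eq {V : Subgroup G} (hV : V ≤ R) (hsq : ∀ v ∈ V, v * v = 1)
    (hc : Nat.card V = q * q) : V = vv L0 ∨ V = vv L1 := by
  rcases g.conf.le_or_le hV hsq with h | h
  · exact Or.inl (Subgroup.eq_of_le_of_card_ge h (by rw [hc, g.conf.nat0.cardV]))
  · exact Or.inr (Subgroup.eq_of_le_of_card_ge h (by rw [hc, g.conf.nat1.cardV]))

theorem Geo.normalizer_R : normalizer (R : Set G) ≤ L0 := by
  intro x hx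
  rw [← g.conf.normalizer_vv]
  refine mem_normalizer_of_cj_eq ?_
  have key : ∀ y, cj y R = R → ∀ {V : Subgroup G}, V ≤ R → (∀ v ∈ V, v * v = 1) →
      Nat.card V = q * q → cj y V = vv L0 ∨ cj y V = vv L1 := fun y hy V hV hs hc =>
    g.eq_or_eq (hy ▸ cj_mono y hV) (fun v hv => sq_cj hs hv) (by rw [card_cj, hc])
  by_contra hne
  have hxR := cj_eq_of_mem_normalizer hx
  have h01 : cj x (vv L0) = vv L1 :=
    (key x hxR g.conf.le0 (fun v hv => vv_sq hv) g.conf.nat0.cardV).resolve_left hne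
  have h10 : cj x (vv L1) = vv L0 := by
    refine (key x hxR g.conf.le1 (fun v hv => vv_sq hv) g.conf.nat1.cardV).resolve_right fun e => ?_
    refine g.vv_ne ?_
    rw [← cj_inv_cj x (vv L0), h01]
    conv_lhs => rw [← e]
    rw [cj_inv_cj]
  have hpow : ∀ j, cj (x ^ (2 * j)) (vv L0) = vv L0 := by
    intro j
    induction j with
    | zero => rw [mul_zero, pow_zero, cj_one]
    | succ j ih =>
      rw [mul_add, mul_one, pow_add, pow_two, ← cj_cj, ← cj_cj x x, h01, h10, ih]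
  obtain ⟨a, m, hm, hd⟩ := Nat.exists_eq_two_pow_mul_odd (orderOf_pos x).ne'
  obtain ⟨j, rfl⟩ := hm
  have h2 : Two (x ^ (2 * j + 1)) := by
    obtain ⟨i, -, hi⟩ := (Nat.dvd_prime_pow Nat.prime_two).mp
      (show orderOf (x ^ (2 * j + 1)) ∣ 2 ^ a from orderOf_dvd_of_pow_eq_one (by
        rw [← pow_mul, mul_comm, ← hd, pow_orderOf_eq_one]))
    exact ⟨i, hi⟩
  have hmem := g.top.mem_of_normalizes h2 trivial (pow_mem hx _)
  have hfix : cj (x ^ (2 * j + 1)) (vv L0) = vv L0 :=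
    cj_eq_of_mem_normalizer (le_normalizer_vv L0 (g.conf.pair.s1.1 hmem))
  rw [pow_succ', ← cj_cj, hpow j, h01] at hfix
  exact g.vv_ne hfix.symm

theorem Geo.not_conj : ¬ IsPt L0 (vv L1) := by
  rintro ⟨x, hx⟩
  have hL : cj x L0 = L1 := by
    rw [← g.conf.normalizer_vv, cj_normalizer, hx, g.conf.symm.normalizer_vv]
  have hs : SylIn L1 (cj x R) := hL ▸ sylIn_cj g.conf.pair.s1
  obtain ⟨l, hl, e⟩ := hs.conj g.conf.pair.s2
  rw [cj_cj] at e
  have h0 := cj_eq_of_mem_normalizer (le_normalizer_vv L0 (g.normalizer_R (mem_normalizer_of_cj_eq e)))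
  rw [← cj_cj, hx, cj_eq_of_mem_normalizer (le_normalizer_vv L1 hl)] at h0
  exact g.vv_ne h0.symm

theorem Geo.centralizer_Z {z : G} (hz : z ∈ vv L0 ⊓ vv L1) (hz1 : z ≠ 1) {x : G}
    (hx : x * z = z * x) : x ∈ R := by
  have h := g.top.2.2 (centralizer ({z} : Set G))
    (fun r hr => Subgroup.mem_centralizer_singleton_iff.mpr (g.conf.mem_center hz hr)) le_top
    (g.cit.not_odd_of_centralizer (two_of_sq (vv_sq hz.1)) hz1)
  exact h ▸ Subgroup.mem_centralizer_singleton_iff.mpr hx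

theorem Geo.pt_eq_of_mem {z : G} (hz : z ∈ vv L0 ⊓ vv L1) (hz1 : z ≠ 1) {V : Subgroup G}
    (hV : IsPt L0 V) (hzV : z ∈ V) : V = vv L0 := by
  have hVR : V ≤ R := fun v hv => g.centralizer_Z hz hz1 (hV.comm hv hzV)
  obtain ⟨k, rfl⟩ := hV
  refine (g.eq_or_eq hVR (fun v hv => sq_cj (fun y hy => vv_sq hy) hv)
    (by rw [card_cj, g.conf.nat0.cardV])).resolve_right fun e => g.not_conj ⟨k, e⟩

theorem Geo.exists_conj {t : G} (ht : t * t = 1) (ht1 : t ≠ 1) :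
    ∃ k : G, ∃ z ∈ vv L0 ⊓ vv L1, z ≠ 1 ∧ k * z * k⁻¹ = t := by
  haveI : Fact (Nat.Prime 2) := ⟨Nat.prime_two⟩
  have hp : IsPGroup 2 (Subgroup.zpowers t) := IsPGroup.of_card (n := 1) (by
    rw [Nat.card_zpowers, orderOf_of_sq ht ht1, pow_one])
  obtain ⟨S, hS, htS⟩ := exists_sylIn (L := ⊤) hp le_top
  obtain ⟨k, -, rfl⟩ := g.top.conj hS
  have hmem := mem_cj.mp (htS (Subgroup.mem_zpowers t))
  set u := k⁻¹ * t * k with hu
  have hu2 : u * u = 1 := by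
    rw [hu, show k⁻¹ * t * k * (k⁻¹ * t * k) = k⁻¹ * (t * t) * k by group, ht]; group
  have htu : k * u * k⁻¹ = t := by rw [hu]; group
  have hu1 : u ≠ 1 := fun e => ht1 (by rw [← htu, e]; group)
  obtain ⟨z, hz, hz1⟩ := exists_ne_one_of_card (H := vv L0 ⊓ vv L1) (by
    rw [g.conf.card_Z]; exact g.conf.nat0.q2)
  rcases g.conf.involution_mem hmem hu2 with h | h
  · obtain ⟨l, -, e⟩ := g.conf.nat0.transitive g.cit hz.1 hz1 h hu1
    exact ⟨k * l, z, hz, hz1, by rw [← htu, ← e]; group⟩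
  · obtain ⟨l, -, e⟩ := g.conf.nat1.transitive g.cit hz.2 hz1 h hu1
    exact ⟨k * l, z, hz, hz1, by rw [← htu, ← e]; group⟩

theorem Geo.exists_pt {t : G} (ht : t * t = 1) (ht1 : t ≠ 1) : ∃ V, IsPt L0 V ∧ t ∈ V := by
  obtain ⟨k, z, hz, -, rfl⟩ := g.exists_conj ht ht1
  exact ⟨_, (isPt_vv L0).cj' k, conj_mem_cj hz.1⟩

theorem Geo.pt_unique {V V' : Subgroup G} (hV : IsPt L0 V) (hV' : IsPt L0 V') {t : G} (ht : t ∈ V)
    (ht' : t ∈ V') (ht1 : t ≠ 1) : V = V' := by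
  obtain ⟨k, z, hz, hz1, rfl⟩ := g.exists_conj (hV.sq ht) ht1
  have h : ∀ W, IsPt L0 W → k * z * k⁻¹ ∈ W → W = cj k (vv L0) := fun W hW hWt => by
    rw [← g.pt_eq_of_mem hz hz1 (hW.cj' k⁻¹) (by
      rw [mem_cj, inv_inv]; exact hWt), cj_cj_inv]
  rw [h V hV ht, h V' hV' ht']

theorem Geo.card_pt {V : Subgroup G} (hV : IsPt L0 V) : Nat.card V = q * q := by
  obtain ⟨k, rfl⟩ := hV
  rw [card_cj, g.conf.nat0.cardV]

theorem Geo.frame {V W : Subgroup G} (hV : IsPt L0 V) (hW : IsPt L1 W) (h : Inc V W) :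
    ∃ k, cj k (vv L0) = V ∧ cj k (vv L1) = W := by
  obtain ⟨t, htV, htW, ht1⟩ := h
  obtain ⟨k, z, hz, hz1, rfl⟩ := g.exists_conj (hV.sq htV) ht1
  exact ⟨k, g.pt_unique ((isPt_vv L0).cj' k) hV (conj_mem_cj hz.1) htV ht1,
    g.symm.pt_unique ((isPt_vv L1).cj' k) hW (conj_mem_cj hz.2) htW ht1⟩

theorem Geo.card_inc {V W : Subgroup G} (hV : IsPt L0 V) (hW : IsPt L1 W) (h : Inc V W) :
    Nat.card (V ⊓ W : Subgroup G) = q := by
  obtain ⟨k, rfl, rfl⟩ := g.frame hV hW h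
  rw [← cj_inf, card_cj, g.conf.card_Z]

/-- An involution fixes the points on its line. -/
theorem Geo.fixes {V W : Subgroup G} (hV : IsPt L0 V) (hW : IsPt L1 W) (h : Inc V W) {t : G}
    (ht : t ∈ W) : cj t V = V := by
  obtain ⟨k, rfl, rfl⟩ := g.frame hV hW h
  have h1 := mem_cj.mp ht
  have h2 := cj_eq_of_mem_normalizer (le_normalizer_vv L0 (g.conf.pair.s1.1 (g.conf.le1 h1)))
  rw [cj_cj, show t * k = k * (k⁻¹ * t * k) by group, ← cj_cj, h2]

/-- An involution fixing a point lies in it or in a line through it. -/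
theorem Geo.fixed_cases {V : Subgroup G} (hV : IsPt L0 V) {t : G} (ht : t * t = 1) (ht1 : t ≠ 1)
    (hfix : cj t V = V) : t ∈ V ∨ ∃ W, IsPt L1 W ∧ Inc V W ∧ t ∈ W := by
  obtain ⟨k, rfl⟩ := hV
  set u := k⁻¹ * t * k with hu
  have hu2 : u * u = 1 := by
    rw [hu, show k⁻¹ * t * k * (k⁻¹ * t * k) = k⁻¹ * (t * t) * k by group, ht]; group
  have huL : u ∈ L0 := by
    rw [← g.conf.normalizer_vv]
    refine mem_normalizer_of_cj_eq ?_
    rw [hu, ← cj_cj, ← cj_cj, hfix, cj_inv_cj]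
  haveI : Fact (Nat.Prime 2) := ⟨Nat.prime_two⟩
  have hp : IsPGroup 2 (Subgroup.zpowers u) := by
    obtain ⟨n, hn⟩ := two_of_sq hu2
    exact IsPGroup.of_card (n := n) (by rw [Nat.card_zpowers, hn])
  obtain ⟨S, hS, huS⟩ := exists_sylIn (L := L0) hp (Subgroup.zpowers_le.mpr huL)
  obtain ⟨l, hl, rfl⟩ := g.conf.pair.s1.conj hS
  have hlu := mem_cj.mp (huS (Subgroup.mem_zpowers u))
  have hl0 := cj_eq_of_mem_normalizer (le_normalizer_vv L0 hl)
  rcases g.conf.involution_mem hlu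
    (by rw [show l⁻¹ * u * l * (l⁻¹ * u * l) = l⁻¹ * (u * u) * l by group, hu2]; group) with h | h
  · refine Or.inl (mem_cj.mpr ?_)
    rw [← hu, ← hl0]
    exact mem_cj.mpr h
  · refine Or.inr ⟨cj (k * l) (vv L1), (isPt_vv L1).cj' _, ?_, ?_⟩
    · obtain ⟨z, hz, hz1⟩ := exists_ne_one_of_card (H := vv L0 ⊓ vv L1) (by
        rw [g.conf.card_Z]; exact g.conf.nat0.q2)
      refine ⟨(k * l) * z * (k * l)⁻¹, ?_, conj_mem_cj hz.2, fun e => hz1 (conj_eq_one_iff.mp e)⟩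
      have := conj_mem_cj (g := k * l) hz.1
      rwa [← cj_cj, hl0] at this
    · rw [← cj_cj, mem_cj]
      exact mem_cj.mpr (hu ▸ h)

/-- Two points lie on at most one line. -/
theorem Geo.line_unique {V V' W W' : Subgroup G} (hV : IsPt L0 V) (hV' : IsPt L0 V')
    (hne : V ≠ V') (hW : IsPt L1 W) (hW' : IsPt L1 W') (h1 : Inc V W) (h2 : Inc V W')
    (h3 : Inc V' W) (h4 : Inc V' W') : W = W' := by
  obtain ⟨a, haV, haW, ha1⟩ := h1
  obtain ⟨c, hcV, hcW, hc1⟩ := h2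
  have haV' : a ∉ V' := fun h => hne (g.pt_unique hV hV' haV h ha1)
  have hcV' : c ∉ V' := fun h => hne (g.pt_unique hV hV' hcV h hc1)
  have hafix := g.fixes hV' hW h3 haW
  have hcfix := g.fixes hV' hW' h4 hcW
  obtain ⟨k, rfl⟩ := hV'
  have hmem : ∀ x, cj x (cj k (vv L0)) = cj k (vv L0) → k⁻¹ * x * k ∈ L0 := by
    intro x hx
    rw [← g.conf.normalizer_vv]
    refine mem_normalizer_of_cj_eq ?_
    rw [← cj_cj, ← cj_cj, hx, cj_inv_cj]
  have hVk := hV.cj' k⁻¹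
  have ha : k⁻¹ * a * k ∈ cj k⁻¹ V := by
    have := conj_mem_cj (g := k⁻¹) haV
    rwa [inv_inv] at this
  have hc : k⁻¹ * c * k ∈ cj k⁻¹ V := by
    have := conj_mem_cj (g := k⁻¹) hcV
    rwa [inv_inv] at this
  haveI : Fact (Nat.Prime 2) := ⟨Nat.prime_two⟩
  have hp : IsPGroup 2 (cj k⁻¹ V ⊓ L0 : Subgroup G) :=
    isPGroup_of_two fun x hx => two_of_sq (hVk.sq hx.1)
  obtain ⟨S, hS, hle⟩ := exists_sylIn (L := L0) hp inf_le_right
  obtain ⟨l, hl, rfl⟩ := g.conf.pair.s1.conj hS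
  have hl0 := cj_eq_of_mem_normalizer (le_normalizer_vv L0 hl)
  have key : ∀ x, x * x = 1 → k⁻¹ * x * k ∈ cj l R → x ∉ cj k (vv L0) → x ∈ cj (k * l) (vv L1) := by
    intro x hx2 hxS hxV
    rw [← cj_cj, mem_cj]
    have h := mem_cj.mp hxS
    rcases g.conf.involution_mem h (by
      rw [show l⁻¹ * (k⁻¹ * x * k) * l * (l⁻¹ * (k⁻¹ * x * k) * l) = l⁻¹ * (k⁻¹ * (x * x) * k) * l
        by group, hx2]; group) with h' | h'
    · refine absurd (mem_cj.mpr ?_) hxV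
      rw [← hl0]
      exact mem_cj.mpr h'
    · exact mem_cj.mpr h'
  have hL : IsPt L1 (cj (k * l) (vv L1)) := (isPt_vv L1).cj' _
  exact (g.symm.pt_unique hW hL haW (key a (hV.sq haV) (hle ⟨ha, hmem a hafix⟩) haV') ha1).trans
    (g.symm.pt_unique hW' hL hcW (key c (hV.sq hcV) (hle ⟨hc, hmem c hcfix⟩) hcV') hc1).symm

end Cfsg.Agent.CIT
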