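import Cfsg.Agent.CIT.Basic
import Mathlib.GroupTheory.Nilpotent

/-!
Sylow 2-subgroups, 2-cores and the central involutions of subgroups, inside a fixed group.
-/

set_option autoImplicit false

namespace Cfsg.Agent.CIT

open Subgroup

variable {G : Type*} [Group G]

/-- `g H g⁻¹`. -/
def cj (g : G) (H : Subgroup G) : Subgroup G := H.map (MulAut.conj g).toMonoidHom

theorem mem_cj {g x : G} {H : Subgroup G} : x ∈ cj g H ↔ g⁻¹ * x * g ∈ H := by
  constructor
  · rintro ⟨y, hy, rfl⟩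
    show g⁻¹ * (g * y * g⁻¹) * g ∈ H
    rwa [show g⁻¹ * (g * y * g⁻¹) * g = y by group]
  · intro h
    exact ⟨_, h, show g * (g⁻¹ * x * g) * g⁻¹ = x by group⟩

theorem conj_mem_cj {g x : G} {H : Subgroup G} (hx : x ∈ H) : g * x * g⁻¹ ∈ cj g H := ⟨x, hx, rfl⟩

theorem cj_one (H : Subgroup G) : cj 1 H = H := by ext x; rw [mem_cj]; group

theorem cj_cj (g h : G) (H : Subgroup G) : cj g (cj h H) = cj (g * h) H := by
  ext x; rw [mem_cj, mem_cj, mem_cj]; group

theorem cj_cj_inv (g : G) (H : Subgroup G) : cj g (cj g⁻¹ H) = H := by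
  rw [cj_cj, mul_inv_cancel, cj_one]

theorem cj_inv_cj (g : G) (H : Subgroup G) : cj g⁻¹ (cj g H) = H := by
  rw [cj_cj, inv_mul_cancel, cj_one]

theorem cj_mono (g : G) {H K : Subgroup G} (h : H ≤ K) : cj g H ≤ cj g K := Subgroup.map_mono h

theorem cj_le_cj_iff {g : G} {H K : Subgroup G} : cj g H ≤ cj g K ↔ H ≤ K :=
  ⟨fun h => by simpa only [cj_inv_cj] using cj_mono g⁻¹ h, cj_mono g⟩

theorem card_cj (g : G) (H : Subgroup G) : Nat.card (cj g H) = Nat.card H :=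
  Subgroup.card_map_of_injective (MulAut.conj g).injective

theorem cj_inf (g : G) (H K : Subgroup G) : cj g (H ⊓ K) = cj g H ⊓ cj g K := by
  ext x; simp only [Subgroup.mem_inf, mem_cj]

theorem cj_sup (g : G) (H K : Subgroup G) : cj g (H ⊔ K) = cj g H ⊔ cj g K := Subgroup.map_sup H K _

theorem cj_eq_bot {g : G} {H : Subgroup G} : cj g H = ⊥ ↔ H = ⊥ :=
  Subgroup.map_eq_bot_iff_of_injective _ (MulAut.conj g).injective

theorem isPGroup_cj {g : G} {H : Subgroup G} (h : IsPGroup 2 H) : IsPGroup 2 (cj g H) := h.map _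

theorem cj_normalizer (g : G) (H : Subgroup G) :
    cj g (normalizer (H : Set G)) = normalizer ((cj g H : Subgroup G) : Set G) := by
  ext x
  rw [mem_cj, Subgroup.mem_normalizer_iff, Subgroup.mem_normalizer_iff]
  constructor
  · intro h y
    rw [mem_cj, mem_cj, h (g⁻¹ * y * g)]
    group
  · intro h y
    have := h (g * y * g⁻¹)
    rw [mem_cj, mem_cj] at this
    rw [show g⁻¹ * (g * y * g⁻¹) * g = y by group] at this
    rw [this]
    group

theorem mem_normalizer_of_cj_eq {g : G} {H : Subgroup G} (h : cj g H = H) :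
    g ∈ normalizer (H : Set G) :=
  Subgroup.mem_normalizer_iff.mpr fun y => by
    have := SetLike.ext_iff.mp h (g * y * g⁻¹)
    rw [mem_cj, show g⁻¹ * (g * y * g⁻¹) * g = y by group] at this
    exact this

theorem cj_eq_of_mem_normalizer {g : G} {H : Subgroup G} (h : g ∈ normalizer (H : Set G)) :
    cj g H = H := by
  ext x
  rw [mem_cj, Subgroup.mem_normalizer_iff.mp h (g⁻¹ * x * g)]
  group

theorem cj_eq_of_mem {g : G} {H : Subgroup G} (h : g ∈ H) : cj g H = H :=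
  cj_eq_of_mem_normalizer (Subgroup.le_normalizer h)

/-- `R` is a Sylow 2-subgroup of `L`. -/
def SylIn (L R : Subgroup G) : Prop :=
  R ≤ L ∧ IsPGroup 2 R ∧ ∀ R' : Subgroup G, R ≤ R' → R' ≤ L → IsPGroup 2 R' → R' = R

/-- The 2-elements of `L` form a subgroup. -/
def Closed (L : Subgroup G) : Prop :=
  ∀ x ∈ L, ∀ y ∈ L, Two x → Two y → Two (x * y)

theorem Closed.mono {L L' : Subgroup G} (h : L ≤ L') (hc : Closed L') : Closed L :=
  fun x hx y hy => hc x (h hx) y (h hy)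

/-- The largest normal 2-subgroup of `L`. -/
def pc (L : Subgroup G) : Subgroup G := L ⊓ sInf {R | SylIn L R}

theorem pc_le (L : Subgroup G) : pc L ≤ L := inf_le_left

/-- The central involutions of the 2-core of `L`, with the identity. -/
def vv (L : Subgroup G) : Subgroup G where
  carrier := {x | x ∈ pc L ∧ x * x = 1 ∧ ∀ y ∈ pc L, y * x = x * y}
  one_mem' := ⟨one_mem _, one_mul 1, fun y _ => by rw [mul_one, one_mul]⟩
  mul_mem' := by
    rintro a b ⟨ha, ha2, hac⟩ ⟨hb, hb2, hbc⟩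
    refine ⟨mul_mem ha hb, ?_, fun y hy => ?_⟩
    · rw [show a * b * (a * b) = a * (b * a) * b by group, hbc a ha |>.symm,
        show a * (a * b) * b = (a * a) * (b * b) by group, ha2, hb2, one_mul]
    · rw [← mul_assoc, hac y hy, mul_assoc, hbc y hy, mul_assoc]
  inv_mem' := by
    rintro a ⟨ha, ha2, hac⟩
    rw [inv_of_sq ha2]
    exact ⟨ha, ha2, hac⟩

theorem vv_le (L : Subgroup G) : vv L ≤ pc L := fun _ h => h.1

theorem vv_sq {L : Subgroup G} {x : G} (hx : x ∈ vv L) : x * x = 1 := hx.2.1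

theorem vv_comm {L : Subgroup G} {x y : G} (hx : x ∈ vv L) (hy : y ∈ pc L) : y * x = x * y :=
  hx.2.2 y hy

section Conj

theorem sylIn_cj {g : G} {L R : Subgroup G} (h : SylIn L R) : SylIn (cj g L) (cj g R) := by
  refine ⟨cj_mono g h.1, isPGroup_cj h.2.1, fun R' h1 h2 h3 => ?_⟩
  have := h.2.2 (cj g⁻¹ R') (by simpa only [cj_inv_cj] using cj_mono g⁻¹ h1)
    (by simpa only [cj_inv_cj] using cj_mono g⁻¹ h2) (isPGroup_cj h3)
  rw [← this, cj_cj_inv]

theorem sylIn_cj_iff {g : G} {L R : Subgroup G} : SylIn (cj g L) (cj g R) ↔ SylIn L R :=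
  ⟨fun h => by simpa only [cj_inv_cj] using sylIn_cj (g := g⁻¹) h, sylIn_cj⟩

theorem closed_cj {g : G} {L : Subgroup G} (h : Closed L) : Closed (cj g L) := by
  intro x hx y hy h1 h2
  rw [mem_cj] at hx hy
  have e := (h _ hx _ hy (by simpa using h1.conj g⁻¹) (by simpa using h2.conj g⁻¹)).conj g
  rwa [show g * (g⁻¹ * x * g * (g⁻¹ * y * g)) * g⁻¹ = x * y by group] at e

theorem closed_cj_iff {g : G} {L : Subgroup G} : Closed (cj g L) ↔ Closed L :=
  ⟨fun h => by simpa only [cj_inv_cj] using closed_cj (g := g⁻¹) h, closed_cj⟩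

theorem pc_cj (g : G) (L : Subgroup G) : pc (cj g L) = cj g (pc L) := by
  ext x
  simp only [pc, Subgroup.mem_inf, Subgroup.mem_sInf, Set.mem_setOf_eq, mem_cj]
  refine and_congr_right fun _ => ⟨fun h R hR => mem_cj.mp (h _ (sylIn_cj hR)), fun h R hR => ?_⟩
  have := h (cj g⁻¹ R) (by simpa only [cj_inv_cj] using sylIn_cj (g := g⁻¹) hR)
  rw [mem_cj] at this
  simpa [mul_assoc] using this

theorem vv_cj (g : G) (L : Subgroup G) : vv (cj g L) = cj g (vv L) := by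
  ext x
  rw [mem_cj]
  constructor
  · rintro ⟨h1, h2, h3⟩
    rw [pc_cj, mem_cj] at h1
    refine ⟨h1, ?_, fun y hy => ?_⟩
    · rw [show g⁻¹ * x * g * (g⁻¹ * x * g) = g⁻¹ * (x * x) * g by group, h2]; group
    · have h4 := h3 (g * y * g⁻¹) (by rw [pc_cj]; exact conj_mem_cj hy)
      calc y * (g⁻¹ * x * g) = g⁻¹ * (g * y * g⁻¹ * x) * g := by group
        _ = g⁻¹ * x * g * y := by rw [h4]; group
  · rintro ⟨h1, h2, h3⟩
    refine ⟨by rw [pc_cj, mem_cj]; exact h1, ?_, fun y hy => ?_⟩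
    · calc x * x = g * (g⁻¹ * x * g * (g⁻¹ * x * g)) * g⁻¹ := by group
        _ = 1 := by rw [h2]; group
    · rw [pc_cj, mem_cj] at hy
      calc y * x = g * ((g⁻¹ * y * g) * (g⁻¹ * x * g)) * g⁻¹ := by group
        _ = x * y := by rw [h3 _ hy]; group

end Conj

variable [Finite G]

theorem exists_sylIn {L Q : Subgroup G} (hQ : IsPGroup 2 Q) (hQL : Q ≤ L) :
    ∃ R, SylIn L R ∧ Q ≤ R := by
  obtain ⟨R, hR, hmax⟩ := Set.Finite.exists_maximalFor (fun R : Subgroup G => Nat.card R)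
    {R : Subgroup G | Q ≤ R ∧ R ≤ L ∧ IsPGroup 2 R} (Set.toFinite _) ⟨Q, le_rfl, hQL, hQ⟩
  exact ⟨R, ⟨hR.2.1, hR.2.2, fun R' h1 h2 h3 =>
    (Subgroup.eq_of_le_of_card_ge h1 (hmax ⟨hR.1.trans h1, h2, h3⟩ (Subgroup.card_le_of_le h1))).symm⟩,
    hR.1⟩

theorem exists_sylIn' (L : Subgroup G) : ∃ R, SylIn L R :=
  let ⟨R, hR, _⟩ := exists_sylIn (L := L) (Q := ⊥) IsPGroup.of_bot bot_le
  ⟨R, hR⟩

/-- A Sylow 2-subgroup of the subgroup `L`. -/
theorem SylIn.exists_sylow {L R : Subgroup G} (h : SylIn L R) :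
    ∃ P : Sylow 2 L, (P : Subgroup L).map L.subtype = R := by
  obtain ⟨P, hP⟩ := (h.2.1.of_injective (Subgroup.subgroupOfEquivOfLe h.1).toMonoidHom
    (MulEquiv.injective _) : IsPGroup 2 (R.subgroupOf L)).exists_le_sylow
  refine ⟨P, h.2.2 _ (fun x hx => ⟨⟨x, h.1 hx⟩, hP (Subgroup.mem_subgroupOf.mpr hx), rfl⟩)
    (Subgroup.map_subtype_le _) (P.isPGroup'.map _)⟩

theorem SylIn.conj {L R R' : Subgroup G} (h : SylIn L R) (h' : SylIn L R') :
    ∃ g ∈ L, cj g R = R' := by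
  haveI : Fact (Nat.Prime 2) := ⟨Nat.prime_two⟩
  obtain ⟨P, hP⟩ := h.exists_sylow
  obtain ⟨P', hP'⟩ := h'.exists_sylow
  obtain ⟨g, hg⟩ := MulAction.exists_smul_eq L P P'
  refine ⟨g, g.2, ?_⟩
  rw [← hP, ← hP', ← hg, Sylow.coe_subgroup_smul]
  ext x
  rw [mem_cj]
  constructor
  · rintro ⟨y, hy, hyx⟩
    refine ⟨g * y * g⁻¹, Subgroup.smul_mem_pointwise_smul y (MulAut.conj g) _ hy, ?_⟩
    rw [map_mul, map_mul, map_inv, hyx]
    show (g : G) * ((g : G)⁻¹ * x * g) * (g : G)⁻¹ = x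
    group
  · rintro ⟨y, hy, rfl⟩
    obtain ⟨z, hz, rfl⟩ := hy
    refine ⟨z, hz, ?_⟩
    show (z : G) = (g : G)⁻¹ * ((g : G) * z * (g : G)⁻¹) * g
    group

theorem SylIn.card_eq {L R R' : Subgroup G} (h : SylIn L R) (h' : SylIn L R') :
    Nat.card R = Nat.card R' := by
  obtain ⟨g, -, rfl⟩ := h.conj h'
  rw [card_cj]

theorem SylIn.card_le {L R Q : Subgroup G} (h : SylIn L R) (hQ : IsPGroup 2 Q) (hQL : Q ≤ L) :
    Nat.card Q ≤ Nat.card R := by
  obtain ⟨R', hR', hQR⟩ := exists_sylIn hQ hQL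
  rw [h.card_eq hR']
  exact Subgroup.card_le_of_le hQR

theorem SylIn.of_card {L R R' : Subgroup G} (h : SylIn L R) (hR' : R' ≤ L) (h2 : IsPGroup 2 R')
    (hc : Nat.card R ≤ Nat.card R') : SylIn L R' :=
  ⟨hR', h2, fun _ h1 h3 h4 => (Subgroup.eq_of_le_of_card_ge h1 ((h.card_le h4 h3).trans hc)).symm⟩

theorem SylIn.le_of_normalizes {L R Q : Subgroup G} (h : SylIn L R) (hQ : IsPGroup 2 Q)
    (hQL : Q ≤ L) (hn : Q ≤ normalizer (R : Set G)) : Q ≤ R := by
  have := h.2.2 (Q ⊔ R) le_sup_right (sup_le hQL h.1) (hQ.to_sup_of_normal_right' h.2.1 hn)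
  exact this ▸ le_sup_left

theorem SylIn.mem_of_normalizes {L R : Subgroup G} (h : SylIn L R) {x : G} (hx : Two x)
    (hxL : x ∈ L) (hn : x ∈ normalizer (R : Set G)) : x ∈ R := by
  haveI : Fact (Nat.Prime 2) := ⟨Nat.prime_two⟩
  obtain ⟨k, hk⟩ := hx
  exact h.le_of_normalizes (IsPGroup.of_card (n := k) (by rw [Nat.card_zpowers, hk]))
    (Subgroup.zpowers_le.mpr hxL) (Subgroup.zpowers_le.mpr hn) (Subgroup.mem_zpowers x)

theorem pc_le_sylIn {L R : Subgroup G} (h : SylIn L R) : pc L ≤ R :=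
  inf_le_right.trans (sInf_le h)

theorem pc_isPGroup (L : Subgroup G) : IsPGroup 2 (pc L) :=
  let ⟨_, hR⟩ := exists_sylIn' L
  hR.2.1.to_le (pc_le_sylIn hR)

theorem le_pc {L Q : Subgroup G} (hQ : IsPGroup 2 Q) (hQL : Q ≤ L)
    (hn : L ≤ normalizer (Q : Set G)) : Q ≤ pc L := by
  refine le_inf hQL (le_sInf fun R hR => ?_)
  have := hR.2.2 (Q ⊔ R) le_sup_right (sup_le hQL hR.1)
    (hQ.to_sup_of_normal_left' hR.2.1 (hR.1.trans hn))
  exact this ▸ le_sup_left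

theorem le_normalizer_pc (L : Subgroup G) : L ≤ normalizer ((pc L : Subgroup G) : Set G) := by
  intro x hx
  refine mem_normalizer_of_cj_eq ?_
  rw [← pc_cj, cj_eq_of_mem hx]

theorem le_normalizer_vv (L : Subgroup G) : L ≤ normalizer ((vv L : Subgroup G) : Set G) := by
  intro x hx
  refine mem_normalizer_of_cj_eq ?_
  rw [← vv_cj, cj_eq_of_mem hx]

theorem closed_of_sylIn_normal {L R : Subgroup G} (h : SylIn L R)
    (hn : L ≤ normalizer (R : Set G)) : Closed L := fun _ hx _ hy h1 h2 =>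
  two_of_mem h.2.1 (mul_mem (h.mem_of_normalizes h1 hx (hn hx)) (h.mem_of_normalizes h2 hy (hn hy)))

/-- In a closed subgroup every Sylow 2-subgroup contains all 2-elements. -/
theorem Closed.mem_sylIn {L R : Subgroup G} (hc : Closed L) (h : SylIn L R) {x : G} (hx : x ∈ L)
    (hx2 : Two x) : x ∈ R := by
  let U : Subgroup G :=
    { carrier := {y | y ∈ L ∧ Two y}
      one_mem' := ⟨one_mem _, two_one⟩
      mul_mem' := fun {a b} ha hb => ⟨mul_mem ha.1 hb.1, hc a ha.1 b hb.1 ha.2 hb.2⟩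
      inv_mem' := fun {a} ha => ⟨inv_mem ha.1, by
        obtain ⟨k, hk⟩ := ha.2; exact ⟨k, by rw [orderOf_inv, hk]⟩⟩ }
  have := h.2.2 U (fun y hy => ⟨h.1 hy, two_of_mem h.2.1 hy⟩) (fun y hy => hy.1)
    (isPGroup_of_two fun y hy => hy.2)
  exact this ▸ (⟨hx, hx2⟩ : x ∈ U)

theorem exists_sylow_of_sylIn_top {R : Subgroup G} (h : SylIn ⊤ R) :
    ∃ S : Sylow 2 G, (S : Subgroup G) = R :=
  ⟨⟨R, h.2.1, fun {Q} hQ hle => h.2.2 Q hle le_top hQ⟩, rfl⟩

/-- A proper subgroup of a 2-group is properly normalised. -/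
theorem exists_normalizing {R S : Subgroup G} (hS : IsPGroup 2 S) (hRS : R ≤ S) (hne : R ≠ S) :
    ∃ t ∈ S, t ∉ R ∧ t * t ∈ R ∧ cj t R = R ∧ Two t := by
  classical
  haveI : Fact (Nat.Prime 2) := ⟨Nat.prime_two⟩
  haveI := hS.isNilpotent
  have hlt : R.subgroupOf S < ⊤ := by
    rw [lt_top_iff_ne_top, Ne, Subgroup.subgroupOf_eq_top]
    exact fun h => hne (le_antisymm hRS h)
  obtain ⟨⟨x, hxS⟩, hxn, hxR⟩ :=
    SetLike.exists_of_lt (Group.normalizerCondition_of_isNilpotent _ hlt)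
  have hxR' : x ∉ R := fun h => hxR (Subgroup.mem_subgroupOf.mpr h)
  have hxn' : x ∈ normalizer (R : Set G) := by
    refine Subgroup.mem_normalizer_iff.mpr fun y => ?_
    by_cases hy : y ∈ S
    · exact Subgroup.mem_normalizer_iff.mp hxn ⟨y, hy⟩
    · refine ⟨fun h => absurd (hRS h) hy, fun h => absurd ?_ hy⟩
      have h1 := mul_mem (mul_mem (inv_mem hxS) (hRS h)) hxS
      rwa [show x⁻¹ * (x * y * x⁻¹) * x = y by group] at h1
  obtain ⟨k, hk⟩ := two_of_mem hS hxS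
  have hex : ∃ j, x ^ 2 ^ j ∈ R := ⟨k, by rw [← hk, pow_orderOf_eq_one]; exact R.one_mem⟩
  rcases hj : Nat.find hex with _ | j
  · exact absurd (by simpa [hj] using Nat.find_spec hex) hxR'
  · refine ⟨x ^ 2 ^ j, pow_mem hxS _, Nat.find_min hex (by omega), ?_,
      cj_eq_of_mem_normalizer (pow_mem hxn' _), two_of_mem hS (pow_mem hxS _)⟩
    have := Nat.find_spec hex
    rwa [hj, pow_succ, pow_mul, pow_two] at this

end Cfsg.Agent.CIT
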