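import Cfsg.Agent.CIT.Res
import Cfsg.Agent.SpecSquare.PSLTwo
import Cfsg.Agent.Linear.SmallIso
import Cfsg.Agent.S3370

/-!
PSL₂ in odd characteristic is CIT only for 9 and Fermat or Mersenne primes.
-/

set_option autoImplicit false

universe u

namespace Cfsg.Agent.CIT

/-- A torus of even order forces a power of two. -/
theorem two_pow_of_orderOf {H : Type*} [Group H] [Finite H] (hC : IsCIT H) {m : ℕ} (hm : 2 ∣ m)
    {x : H} (hx : orderOf x = m) : ∃ k : ℕ, m = 2 ^ k := by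
  obtain ⟨n, hn⟩ := exists_involution_pow_of_even (hx ▸ hm : 2 ∣ orderOf x)
  obtain ⟨k, hk⟩ := hC.two_of_commute (two_of_orderOf hn) (ne_one_of_orderOf hn)
    ((Commute.refl x).pow_right n).eq
  exact ⟨k, hx ▸ hk⟩

theorem nonTI_of_psl_odd {G : Type u} [Group G] [Finite G] (hC : IsCIT G) {F : Type} [Field F]
    [Fintype F] (hodd : Odd (Fintype.card F)) (h8 : 8 ∣ Nat.card G)
    (e : G ≃* Matrix.ProjectiveSpecialLinearGroup (Fin 2) F) : NonTI G := by
  classical
  obtain ⟨p, hp⟩ := CharP.exists F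
  obtain ⟨⟨n, hn⟩, hpp, hcard⟩ := FiniteField.card F p
  haveI := Fact.mk hpp
  have hcard' : Fintype.card F = p ^ n := hcard
  have hp2 : p ≠ 2 := by
    rintro rfl
    rw [hcard'] at hodd
    exact absurd hodd (Nat.not_odd_iff_even.mpr (even_two.pow_of_ne_zero (by omega)))
  have hC' : IsCIT (Matrix.ProjectiveSpecialLinearGroup (Fin 2) F) :=
    hC.of_injective e.symm.toMonoidHom e.symm.injective
  have hG : 2 * Nat.card G = Fintype.card F * (Fintype.card F - 1) * (Fintype.card F + 1) := by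
    rw [Nat.card_congr e.toEquiv]; exact Linear.card_PSL_two_of_odd hodd
  have h7 : Fintype.card F ≠ 3 ∧ Fintype.card F ≠ 5 := by
    constructor <;> intro h <;> rw [h] at hG <;> omega
  have hge : 7 ≤ Fintype.card F := by
    have := Fintype.one_lt_card (α := F)
    obtain ⟨k, hk⟩ := hodd
    omega
  have hwit : ∀ m : ℕ, (m = Fintype.card F - 1 ∨ m = Fintype.card F + 1) → 2 ∣ m / 2 →
      ∃ k, m = 2 ^ k := by
    intro m hm hev
    obtain ⟨x, hx⟩ := (SpecSquare.mem_range_orderOf_psl_two (F := F) p (m / 2)).mpr (by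
      unfold SpecSquare.red
      rw [if_neg hp2, if_neg hp2]
      rcases hm with rfl | rfl
      · exact Or.inl dvd_rfl
      · exact Or.inr (Or.inl dvd_rfl))
    obtain ⟨k, hk⟩ := two_pow_of_orderOf hC' hev hx
    refine ⟨k + 1, ?_⟩
    have h2 : 2 ∣ m := by
      obtain ⟨j, hj⟩ := hodd
      rcases hm with rfl | rfl <;> omega
    rw [pow_succ, ← hk, Nat.div_mul_cancel h2]
  refine Or.inl ⟨F, inferInstance, inferInstance, ?_, ⟨e⟩⟩
  obtain ⟨j, hj⟩ := hodd
  rcases Nat.even_or_odd j with ⟨i, hi⟩ | ⟨i, hi⟩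
  · -- `q = 4i + 1`
    obtain ⟨k, hk⟩ := hwit _ (Or.inl rfl) (by omega)
    rcases S3370.pow_eq_two_pow_add_one (q := p) (n := n) (a := k) hpp hp2 hn (by omega) with h1 | ⟨h1, h2⟩
    · exact Or.inr ⟨by rw [hcard', h1, pow_one]; exact hpp, hge, k, Or.inl (by omega)⟩
    · left
      rw [hcard', h1, h2]
      norm_num
  · obtain ⟨k, hk⟩ := hwit _ (Or.inr rfl) (by omega)
    have h1 := S3370.eq_one_of_two_pow_sub_one_eq (n := k) (a := n) hpp hn (by omega)
    exact Or.inr ⟨by rw [hcard', h1, pow_one]; exact hpp, hge, k, Or.inr hk⟩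

end Cfsg.Agent.CIT
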