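import Cfsg.Agent.CIT.NatV

/-!
Consequences of a vertex being natural: transitivity, the `q + 1` Sylow subgroups.
-/

set_option autoImplicit false

namespace Cfsg.Agent.CIT

open Subgroup

variable {G : Type*} [Group G] [Finite G] {L : Subgroup G} {q : ℕ} (h : NatV L q)
  (hC : IsCIT G)
include h

/-- The fixed points on the module of a Sylow subgroup of the vertex. -/
abbrev zz (L R : Subgroup G) : Subgroup G := vv L ⊓ centralizer (R : Set G)

omit h in
theorem exists_ne_one_of_card {H : Subgroup G} (hH : 1 < Nat.card H) : ∃ x ∈ H, x ≠ 1 := by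
  by_contra hc
  push Not at hc
  rw [(Subgroup.eq_bot_iff_forall H).mpr hc, Subgroup.card_bot] at hH
  omega

theorem NatV.exists_zz {R : Subgroup G} (hR : SylIn L R) : ∃ v ∈ zz L R, v ≠ 1 :=
  exists_ne_one_of_card (by rw [h.cardfix R hR]; exact h.q2)

theorem NatV.not_le_pc {R : Subgroup G} (hR : SylIn L R) : ¬ R ≤ pc L := by
  intro hle
  have h1 := h.syl R hR
  rw [Subgroup.relIndex_eq_one.mpr hle] at h1
  have := h.q2
  omega

include hC in
omit h in
theorem sylIn_eq_of_fix {R R' : Subgroup G} (hR : SylIn L R) (hR' : SylIn L R') {v : G}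
    (hv : v ∈ vv L) (hv1 : v ≠ 1) (h1 : v ∈ centralizer (R : Set G))
    (h2 : v ∈ centralizer (R' : Set G)) : R = R' := by
  have hsup : IsPGroup 2 (R ⊔ R' : Subgroup G) :=
    (hC.not_odd_of_centralizer (two_of_sq (vv_sq hv)) hv1).to_le (sup_le
      (fun x hx => Subgroup.mem_centralizer_singleton_iff.mpr (Subgroup.mem_centralizer_iff.mp h1 x hx))
      (fun x hx => Subgroup.mem_centralizer_singleton_iff.mpr (Subgroup.mem_centralizer_iff.mp h2 x hx)))
  exact (hR.2.2 _ le_sup_left (sup_le hR.1 hR'.1) hsup).symm.trans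
    (hR'.2.2 _ le_sup_right (sup_le hR.1 hR'.1) hsup)

theorem NatV.transitive (hC : IsCIT G) {u v : G} (hu : u ∈ vv L) (hu1 : u ≠ 1) (hv : v ∈ vv L)
    (hv1 : v ≠ 1) : ∃ g ∈ L, g * u * g⁻¹ = v := by
  classical
  let φ0 : L →* MulAut (vv L) := (vv L).normalizerMonoidHom.comp (Subgroup.inclusion (le_normalizer_vv L))
  letI : MulAction L (vv L) := MulAction.compHom (vv L) φ0
  have hsmul : ∀ (l : L) (w : vv L), ((l • w : vv L) : G) = l * w * (l : G)⁻¹ := fun _ _ => rfl
  set S := MulAction.stabilizer L (⟨u, hu⟩ : vv L) with hS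
  have hS2 : IsPGroup 2 (S.map L.subtype) := by
    refine (hC.not_odd_of_centralizer (two_of_sq (vv_sq hu)) hu1).to_le ?_
    rintro _ ⟨l, hl, rfl⟩
    have := congrArg Subtype.val (MulAction.mem_stabilizer_iff.mp hl)
    rw [hsmul] at this
    exact Subgroup.mem_centralizer_singleton_iff.mpr (mul_inv_eq_iff_eq_mul.mp this)
  obtain ⟨R, hR, hSR⟩ := exists_sylIn hS2 (Subgroup.map_subtype_le _)
  have hpS : (pc L).subgroupOf L ≤ S := fun l hl => MulAction.mem_stabilizer_iff.mpr (Subtype.ext (by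
    rw [hsmul, mul_inv_eq_iff_eq_mul]; exact vv_comm hu (Subgroup.mem_subgroupOf.mp hl)))
  have hrel : (pc L).relIndex (S.map L.subtype) ≤ q := by
    rw [← h.syl R hR]
    exact Subgroup.relIndex_le_of_le_right hSR relIndex_ne_zero'
  have hrel' : (pc L).relIndex (S.map L.subtype) = ((pc L).subgroupOf L).relIndex S := by
    conv_lhs => rw [← inf_eq_left.mpr (pc_le L), ← Subgroup.subgroupOf_map_subtype]
    exact Subgroup.relIndex_map_map_of_injective _ _ L.subtype_injective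
  have hmul : ((pc L).subgroupOf L).relIndex S * S.index = q * (q * q - 1) := by
    rw [Subgroup.relIndex_mul_index hpS, ← h.index]; rfl
  have hidx : q * q - 1 ≤ S.index := by
    have hq := h.q2
    refine Nat.le_of_mul_le_mul_left ?_ (show 0 < q by omega)
    rw [← hmul, ← hrel']
    exact Nat.mul_le_mul_right _ hrel
  rw [hS, MulAction.index_stabilizer] at hidx
  have hsub : MulAction.orbit L (⟨u, hu⟩ : vv L) ⊆ {w : vv L | w ≠ 1} := by
    rintro w ⟨l, rfl⟩ e
    refine hu1 ?_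
    have e' := congrArg Subtype.val e
    simp only [hsmul] at e'
    exact conj_eq_one_iff.mp e'
  have hc : ({w : vv L | w ≠ 1} : Set (vv L)).ncard = q * q - 1 := by
    rw [show ({w : vv L | w ≠ 1} : Set (vv L)) = ({1} : Set (vv L))ᶜ by ext; simp,
      Set.ncard_compl, Set.ncard_singleton, h.cardV]
  have heq := Set.eq_of_subset_of_ncard_le hsub (hc ▸ hidx)
  obtain ⟨l, hl⟩ : (⟨v, hv⟩ : vv L) ∈ MulAction.orbit L (⟨u, hu⟩ : vv L) := by
    rw [heq]; exact fun e => hv1 (congrArg Subtype.val e)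
  exact ⟨l, l.2, (hsmul l _).symm.trans (congrArg Subtype.val hl)⟩

theorem NatV.exists_sylIn_fix (hC : IsCIT G) {v : G} (hv : v ∈ vv L) (hv1 : v ≠ 1) :
    ∃ R, SylIn L R ∧ v ∈ centralizer (R : Set G) := by
  obtain ⟨R0, hR0⟩ := exists_sylIn' L
  obtain ⟨z, hz, hz1⟩ := h.exists_zz hR0
  obtain ⟨g, hg, rfl⟩ := h.transitive hC hz.1 hz1 hv hv1
  refine ⟨cj g R0, by simpa only [cj_eq_of_mem hg] using sylIn_cj (g := g) hR0, ?_⟩
  rw [← cj_centralizer]
  exact conj_mem_cj hz.2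

theorem NatV.card_sylIn (hC : IsCIT G) : Nat.card {R : Subgroup G // SylIn L R} = q + 1 := by
  classical
  let f : (Σ R : {R : Subgroup G // SylIn L R}, {x : zz L R.1 // x ≠ 1}) → {x : vv L // x ≠ 1} :=
    fun p => ⟨⟨p.2.1.1, p.2.1.2.1⟩, fun e => p.2.2 (Subtype.ext (congrArg Subtype.val e :))⟩
  have hf : Function.Bijective f := by
    refine ⟨fun ⟨R, x, hx⟩ ⟨R', x', hx'⟩ e => ?_, fun ⟨v, hv⟩ => ?_⟩
    · have e1 : (x : G) = x' := congrArg (fun w : {x : vv L // x ≠ 1} => ((w.1 : vv L) : G)) e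
      have hR : R = R' := Subtype.ext (sylIn_eq_of_fix hC R.2 R'.2 x.2.1
        (fun e' => hx (Subtype.ext e')) x.2.2 (e1 ▸ x'.2.2))
      subst hR
      exact congrArg (Sigma.mk R) (Subtype.ext (Subtype.ext e1))
    · obtain ⟨R, hR, hvR⟩ := h.exists_sylIn_fix hC v.2 fun e => hv (Subtype.ext e)
      exact ⟨⟨⟨R, hR⟩, ⟨v.1, v.2, hvR⟩, fun e => hv (Subtype.ext (congrArg Subtype.val e :))⟩, rfl⟩
  have h1 := Nat.card_eq_of_bijective f hf
  haveI : Fintype {R : Subgroup G // SylIn L R} := Fintype.ofFinite _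
  have hne : ∀ (H : Subgroup G) (m : ℕ), Nat.card H = m → Nat.card {x : H // x ≠ 1} = m - 1 := by
    intro H m hm
    haveI : Fintype H := Fintype.ofFinite H
    rw [← hm, Nat.card_eq_fintype_card, Fintype.card_subtype_compl, Fintype.card_subtype_eq,
      Nat.card_eq_fintype_card]
  rw [Nat.card_sigma, Finset.sum_congr rfl (fun R _ => hne _ _ (h.cardfix R.1 R.2)),
    Finset.sum_const, Finset.card_univ, smul_eq_mul, hne _ _ h.cardV, ← Nat.card_eq_fintype_card] at h1
  obtain ⟨k, hk⟩ : ∃ k, q = k + 1 := ⟨q - 1, by have := h.q2; omega⟩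
  subst hk
  rw [show (k + 1) * (k + 1) - 1 = (k + 1 + 1) * k by
    have : (k + 1) * (k + 1) = (k + 1 + 1) * k + 1 := by ring
    omega, Nat.add_sub_cancel] at h1
  exact Nat.eq_of_mul_eq_mul_right (by have := h.q2; omega) h1

include hC in
theorem NatV.normalizes_imp {R R' : Subgroup G} (hR : SylIn L R) (hR' : SylIn L R') (hne : R' ≠ R)
    {x : G} (hx : x ∈ R) (hn : cj x R' = R') : x ∈ pc L := by
  by_contra hxp
  have hx' : x ∈ R' := hR'.mem_of_normalizes (two_of_mem hR.2.1 hx) (hR.1 hx)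
    (mem_normalizer_of_cj_eq hn)
  obtain ⟨v, hv, hv1⟩ := h.exists_zz hR'
  exact hne (sylIn_eq_of_fix hC hR' hR hv.1 hv1 hv.2 (h.fix R hR x hx hxp v hv.1
    (Subgroup.mem_centralizer_iff.mp hv.2 x hx')))

include hC in
theorem NatV.syl_transitive {R R1 R2 : Subgroup G} (hR : SylIn L R) (hR1 : SylIn L R1) (hR2 : SylIn L R2)
    (h1 : R1 ≠ R) (h2 : R2 ≠ R) : ∃ r ∈ R, cj r R1 = R2 := by
  classical
  let Ω := {S : {S : Subgroup G // SylIn L S} // S ≠ ⟨R, hR⟩}
  letI : MulAction R Ω :=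
    { smul := fun r S => ⟨⟨cj (r : G) S.1.1, by
        simpa only [cj_eq_of_mem (hR.1 r.2)] using sylIn_cj (g := (r : G)) S.1.2⟩, fun e => S.2 (by
        have e' : cj (r : G) S.1.1 = R := congrArg Subtype.val e
        refine Subtype.ext ?_
        rw [← cj_inv_cj (r : G) S.1.1, e']
        exact cj_eq_of_mem (inv_mem r.2))⟩
      one_smul := fun S => Subtype.ext (Subtype.ext (cj_one _))
      mul_smul := fun r s S => Subtype.ext (Subtype.ext (cj_cj (r : G) (s : G) S.1.1).symm) }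
  have hΩ : Nat.card Ω = q := by
    haveI : Fintype {S : Subgroup G // SylIn L S} := Fintype.ofFinite _
    rw [Nat.card_eq_fintype_card, Fintype.card_subtype_compl, Fintype.card_subtype_eq,
      ← Nat.card_eq_fintype_card, h.card_sylIn hC]
    rfl
  let x1 : Ω := ⟨⟨R1, hR1⟩, fun e => h1 (congrArg Subtype.val e)⟩
  let x2 : Ω := ⟨⟨R2, hR2⟩, fun e => h2 (congrArg Subtype.val e)⟩
  have hst : MulAction.stabilizer R x1 ≤ (pc L).subgroupOf R := fun r hr =>
    Subgroup.mem_subgroupOf.mpr (h.normalizes_imp hC hR hR1 h1 r.2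
      (congrArg (fun S : Ω => S.1.1) (MulAction.mem_stabilizer_iff.mp hr)))
  have horb : MulAction.orbit R x1 = Set.univ := by
    refine Set.eq_of_subset_of_ncard_le (Set.subset_univ _) ?_
    rw [Set.ncard_univ, hΩ, ← MulAction.index_stabilizer, ← h.syl R hR]
    exact Nat.le_of_dvd (Nat.pos_of_ne_zero Subgroup.index_ne_zero_of_finite)
      (Subgroup.index_dvd_of_le hst)
  obtain ⟨r, hr⟩ : x2 ∈ MulAction.orbit R x1 := horb ▸ Set.mem_univ _
  exact ⟨r, r.2, congrArg (fun S : Ω => S.1.1) hr⟩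

omit h in
theorem exists_odd_of_sylIn_ne {R R' : Subgroup G} (hR : SylIn L R) (hR' : SylIn L R') (hne : R ≠ R')
    {K : Subgroup G} (h1 : R ≤ K) (h2 : R' ≤ K) : ∃ w ∈ K, w ∈ L ∧ Odd (orderOf w) ∧ w ≠ 1 := by
  by_contra hc
  push Not at hc
  have hp : IsPGroup 2 (R ⊔ R' : Subgroup G) :=
    isPGroup_of_no_odd fun w hw ho =>
      hc w (sup_le h1 h2 hw) (sup_le hR.1 hR'.1 hw) ho
  exact hne ((hR.2.2 _ le_sup_left (sup_le hR.1 hR'.1) hp).symm.trans
    (hR'.2.2 _ le_sup_right (sup_le hR.1 hR'.1) hp))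

end Cfsg.Agent.CIT
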