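import Cfsg.Agent.CIT.Basic
import Cfsg.Agent.Lib.MinimalNormal
import Cfsg.Agent.Components.FStar
import Cfsg.Agent.S0205

/-!
A CIT-group with trivial solvable radical has a simple normal subgroup.
-/

set_option autoImplicit false

namespace Cfsg.Agent.CIT

open Subgroup

variable {G : Type*} [Group G] [Finite G]

theorem isSolvable_of_cit (hG : IsCIT G) (K : Subgroup G) {t : G} (ht : orderOf t = 2)
    (h : ∀ k ∈ K, Commute t k) : Group.IsSolvable ↥K := by
  haveI : Fact (Nat.Prime 2) := ⟨Nat.prime_two⟩
  haveI : Group.IsNilpotent K := ((hG t ht).to_le fun k hk =>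
    Subgroup.mem_centralizer_singleton_iff.mpr (h k hk).symm.eq).isNilpotent
  infer_instance

variable (hss : ∀ N : Subgroup G, N.Normal → Group.IsSolvable ↥N → N = ⊥)
include hss

theorem pCore_eq_bot (p : ℕ) (hp : p.Prime) : Cfsg.pCore p G = ⊥ := by
  haveI : Fact p.Prime := ⟨hp⟩
  have h : IsPGroup p (Cfsg.pCore p G) := Cores.pCore_isPGroup
  haveI : Group.IsNilpotent (Cfsg.pCore p G) := h.isNilpotent
  exact hss _ inferInstance inferInstance

theorem subnormal_solvable_eq_bot {X : Subgroup G} (hX : X.IsSubnormal) (hs : Group.IsSolvable ↥X) :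
    X = ⊥ := by
  by_contra hne
  haveI := hs
  haveI : Nontrivial X := (Subgroup.nontrivial_iff_ne_bot X).2 hne
  obtain ⟨N, hN, hN1, -, -, p, hp, -, hpg⟩ := MinNormal.exists_elementary_abelian (G := X)
  have hsn : (N.map X.subtype).IsSubnormal := by
    refine Subgroup.IsSubnormal.trans' ?_ hX
    exact Subgroup.Normal.isSubnormal hN
  have h1 := Components.subnormal_le_pCore hsn (hpg.map X.subtype)
  rw [pCore_eq_bot hss p hp, le_bot_iff, Subgroup.map_eq_bot_iff_of_injective _ X.subtype_injective] at h1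
  exact hN1 h1

theorem exists_involution_of_normal {X : Subgroup G} (hX : X.IsSubnormal) (hne : X ≠ ⊥) :
    ∃ t ∈ X, orderOf t = 2 := by
  haveI : Fact (Nat.Prime 2) := ⟨Nat.prime_two⟩
  have h2 : 2 ∣ Nat.card X := by
    by_contra h
    exact hne (subnormal_solvable_eq_bot hss hX
      (Cfsg.Agent.S0205.result (Nat.odd_iff.2 (Nat.two_dvd_ne_zero.1 h))))
  obtain ⟨⟨t, htX⟩, ht⟩ := exists_prime_orderOf_dvd_card' 2 h2
  exact ⟨t, htX, by rwa [Subgroup.orderOf_mk] at ht⟩

/-- The minimal normal subgroups are simple, non-abelian and self-centralising. -/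
theorem socle [Nontrivial G] (hG : IsCIT G) :
    ∃ N : Subgroup G, N.Normal ∧ IsSimpleGroup ↥N ∧ ¬ IsMulCommutative ↥N ∧
      centralizer (N : Set G) = ⊥ := by
  obtain ⟨N, hN, hN1, hmin⟩ := MinNormal.exists_minimal_normal (G := G)
  haveI := hN
  have hNns : ¬ Group.IsSolvable ↥N := fun h => hN1 (hss N hN h)
  refine ⟨N, hN, ?_, fun h => hNns (Group.isSolvable_of_comm fun a b => h.is_comm.comm a b), ?_⟩
  · haveI : Nontrivial N := (Subgroup.nontrivial_iff_ne_bot N).2 hN1
    refine ⟨fun K₀ hK₀ => ?_⟩
    by_cases h0 : K₀ = ⊥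
    · exact Or.inl h0
    obtain ⟨K, hK, hK1, hKK₀, hKmin⟩ := MinNormal.exists_minimal_normal_le K₀ h0
    refine Or.inr ?_
    have key : (K.map N.subtype).Normal := by
      constructor
      intro n hn g
      by_contra hgn
      set c : MulAut N := MulAut.conjNormal g with hc
      have hKc : (K.map c.toMonoidHom).Normal := hK.map _ c.surjective
      have hne : K ≠ K.map c.toMonoidHom := by
        obtain ⟨k, hk, rfl⟩ := hn
        intro he
        apply hgn
        have h1 : c k ∈ K.map c.toMonoidHom := ⟨k, hk, rfl⟩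
        rw [← he] at h1
        exact ⟨c k, h1, MulAut.conjNormal_apply g k⟩
      have hinf : K ⊓ K.map c.toMonoidHom = ⊥ := by
        refine (hKmin _ inferInstance inf_le_left).resolve_right fun h => hne ?_
        exact Subgroup.eq_of_le_of_card_ge (inf_eq_left.1 h)
          (Subgroup.card_map_of_injective c.injective).le
      have hsn : ∀ L : Subgroup N, L.Normal → (L.map N.subtype).IsSubnormal := fun L hL =>
        Subgroup.IsSubnormal.trans' (Subgroup.Normal.isSubnormal hL) (Subgroup.Normal.isSubnormal hN)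
      have hK' : K.map c.toMonoidHom ≠ ⊥ := by
        exact fun h => hK1 ((Subgroup.map_eq_bot_iff_of_injective K c.injective).1 h)
      obtain ⟨t, htK', ht⟩ := exists_involution_of_normal hss (hsn _ hKc) (by
        rw [Ne, Subgroup.map_eq_bot_iff_of_injective _ N.subtype_injective]; exact hK')
      refine hK1 ((Subgroup.map_eq_bot_iff_of_injective _ N.subtype_injective).1
        (subnormal_solvable_eq_bot hss (hsn K hK) (isSolvable_of_cit hG _ ht ?_)))
      obtain ⟨t', ht'K, rfl⟩ := htK'
      rintro _ ⟨k, hk, rfl⟩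
      refine (Subgroup.commute_of_normal_of_disjoint K (K.map c.toMonoidHom) hK hKc
        (disjoint_iff.2 hinf) k t' hk ht'K).symm.map N.subtype
    rcases hmin (K.map N.subtype) key (Subgroup.map_subtype_le K) with h | h
    · exact absurd ((Subgroup.map_eq_bot_iff_of_injective _ N.subtype_injective).1 h) hK1
    · refine eq_top_iff.2 (le_trans ?_ hKK₀)
      intro x _
      obtain ⟨k, hk, hkx⟩ := (SetLike.ext_iff.1 h (x : G)).2 x.2
      rwa [← Subtype.ext (a1 := k) (a2 := x) hkx]
  · by_contra hC
    haveI hCn : (centralizer (N : Set G)).Normal := Subgroup.normal_centralizer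
    obtain ⟨t, htC, ht⟩ := exists_involution_of_normal hss (Subgroup.Normal.isSubnormal hCn) hC
    exact hNns (isSolvable_of_cit hG N ht fun k hk => (mem_centralizer_iff.1 htC k hk).symm)

end Cfsg.Agent.CIT
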