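import Cfsg.Agent.CIT.Act
import Mathlib.LinearAlgebra.Matrix.ProjectiveSpecialLinearGroup
import Mathlib.FieldTheory.Finite.Basic
import Mathlib.LinearAlgebra.Matrix.Notation

/-!
Configurations of odd subgroups in small linear groups that no fixed point free action allows.
-/

set_option autoImplicit false

namespace Cfsg.Agent.CIT

open Matrix

variable {F : Type*} [Field F] [Fintype F]

/-- Upper unitriangular matrices. -/
def uMat (a : F) : Matrix.SpecialLinearGroup (Fin 2) F :=
  ⟨!![1, a; 0, 1], by simp [Matrix.det_fin_two_of]⟩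

/-- Diagonal matrices. -/
def dMat (a : Fˣ) : Matrix.SpecialLinearGroup (Fin 2) F :=
  ⟨!![(a : F), 0; 0, (↑a⁻¹ : F)], by simp [Matrix.det_fin_two_of]⟩

theorem uMat_mul (a b : F) : uMat a * uMat b = uMat (a + b) :=
  Subtype.ext (by
    show !![1, a; 0, 1] * !![1, b; 0, 1] = !![1, a + b; 0, 1]
    simp [Matrix.mul_fin_two, add_comm])

theorem uMat_zero : uMat (0 : F) = 1 :=
  Subtype.ext (by show !![(1 : F), 0; 0, 1] = 1; rw [Matrix.one_fin_two])

theorem uMat_pow (a : F) (n : ℕ) : uMat a ^ n = uMat (n * a) := by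
  induction n with
  | zero => rw [pow_zero, Nat.cast_zero, zero_mul, uMat_zero]
  | succ n ih => rw [pow_succ, ih, uMat_mul, Nat.cast_succ, add_mul, one_mul]

theorem dMat_mul (a b : Fˣ) : dMat a * dMat b = dMat (a * b) :=
  Subtype.ext (by
    show !![(a : F), 0; 0, (↑a⁻¹ : F)] * !![(b : F), 0; 0, (↑b⁻¹ : F)] =
      !![(↑(a * b) : F), 0; 0, (↑(a * b)⁻¹ : F)]
    simp [Matrix.mul_fin_two, mul_comm])

theorem dMat_one : dMat (1 : Fˣ) = 1 :=
  Subtype.ext (by show !![((1 : Fˣ) : F), 0; 0, (↑(1 : Fˣ)⁻¹ : F)] = 1; simp [Matrix.one_fin_two])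

theorem dMat_pow (a : Fˣ) (n : ℕ) : dMat a ^ n = dMat (a ^ n) := by
  induction n with
  | zero => rw [pow_zero, pow_zero, dMat_one]
  | succ n ih => rw [pow_succ, ih, dMat_mul, pow_succ]

theorem dMat_conj (a : Fˣ) (b : F) : dMat a * uMat b = uMat ((a : F) * a * b) * dMat a :=
  Subtype.ext (by
    show !![(a : F), 0; 0, (↑a⁻¹ : F)] * !![1, b; 0, 1] =
      !![1, (a : F) * a * b; 0, 1] * !![(a : F), 0; 0, (↑a⁻¹ : F)]
    simp [Matrix.mul_fin_two]
    have := a.ne_zero
    field_simp)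

/-- The class in the projective special linear group. -/
abbrev pr {n : Type} [Fintype n] [DecidableEq n] (g : Matrix.SpecialLinearGroup n F) :
    Matrix.ProjectiveSpecialLinearGroup n F :=
  QuotientGroup.mk g

theorem pr_eq_one {n : Type} [Fintype n] [DecidableEq n] {g : Matrix.SpecialLinearGroup n F}
    (h : pr g = 1) : ∃ r : F, Matrix.scalar n r = (g : Matrix n n F) := by
  obtain ⟨r, -, hr⟩ := Matrix.SpecialLinearGroup.mem_center_iff.mp ((QuotientGroup.eq_one_iff g).mp h)
  exact ⟨r, hr⟩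

theorem uMat_eq_zero {a : F} (h : pr (uMat a) = 1) : a = 0 := by
  obtain ⟨r, hr⟩ := pr_eq_one h
  have := congrFun (congrFun hr 0) 1
  simpa [uMat] using this.symm

theorem pr_uMat_eq {a b : F} (h : pr (uMat a) = pr (uMat b)) : a = b := by
  have h1 : pr (uMat (a + -b)) = 1 := by
    have h2 : pr (uMat b) * pr (uMat (-b)) = 1 := by
      rw [← QuotientGroup.mk_mul, uMat_mul, add_neg_cancel, uMat_zero]; rfl
    rw [show pr (uMat (a + -b)) = pr (uMat a) * pr (uMat (-b)) by
      rw [← QuotientGroup.mk_mul, uMat_mul], h, h2]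
  exact add_neg_eq_zero.mp (uMat_eq_zero h1)

theorem orderOf_uMat {p : ℕ} [CharP F p] (hp : p.Prime) {a : F} (ha : a ≠ 0) :
    orderOf (pr (uMat a)) = p := by
  haveI := Fact.mk hp
  refine orderOf_eq_prime ?_ fun e => ha (uMat_eq_zero e)
  rw [← QuotientGroup.mk_pow, uMat_pow, CharP.cast_eq_zero, zero_mul, uMat_zero]
  rfl

variable {X V : Type*} [Group X] [Group V] [Finite X] [Finite V] [Nontrivial V]
  {φ : X →* MulAut V}

theorem Act.no_psl_two_nine (h : Act φ) (hF : Fintype.card F = 9)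
    (f : Matrix.ProjectiveSpecialLinearGroup (Fin 2) F →* X) (hf : Function.Injective f) :
    False := by
  obtain ⟨p, hp⟩ := CharP.exists F
  obtain ⟨⟨n, hn⟩, hpp, hcard⟩ := FiniteField.card F p
  have hp3 : p = 3 := by
    have : p ∣ 3 ^ 2 := ⟨p ^ (n - 1), by
      rw [← pow_succ', Nat.sub_add_cancel hn]; show 9 = p ^ n; rw [← hF]; exact hcard⟩
    exact (Nat.prime_dvd_prime_iff_eq hpp Nat.prime_three).mp (hpp.dvd_of_dvd_pow this)
  subst hp3
  obtain ⟨a, ha⟩ : ∃ a : F, ∀ k : ℕ, a ≠ (k : F) := by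
    classical
    by_contra hc
    push Not at hc
    have : Fintype.card F ≤ Fintype.card (Fin 3) := Fintype.card_le_of_surjective
      (fun k : Fin 3 => ((k : ℕ) : F)) fun x => by
      obtain ⟨k, hk⟩ := hc x
      exact ⟨⟨k % 3, Nat.mod_lt _ (by norm_num)⟩, by
        show ((k % 3 : ℕ) : F) = x
        rw [hk]; exact (CharP.cast_eq_mod F 3 k).symm⟩
    simp [hF] at this
  have ha0 : a ≠ 0 := by simpa using ha 0
  refine h.no_pp Nat.prime_three (by norm_num) (x := f (pr (uMat 1))) (y := f (pr (uMat a))) ?_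
    (by rw [orderOf_injective f hf, orderOf_uMat hpp one_ne_zero])
    (by rw [orderOf_injective f hf, orderOf_uMat hpp ha0]) ?_
  · rw [← map_mul, ← map_mul, ← QuotientGroup.mk_mul, ← QuotientGroup.mk_mul, uMat_mul, uMat_mul,
      add_comm]
  · intro hm
    rw [← mem_powers_iff_mem_zpowers] at hm
    obtain ⟨k, hk⟩ := hm
    have hk' : f (pr (uMat (1 : F))) ^ k = f (pr (uMat a)) := hk
    rw [← map_pow, ← QuotientGroup.mk_pow, uMat_pow, mul_one] at hk'
    exact ha k (pr_uMat_eq (hf hk')).symm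

theorem Act.no_psl_two_mersenne (h : Act φ) (hF : (Fintype.card F).Prime) (h7 : 7 ≤ Fintype.card F)
    {k : ℕ} (hk : Fintype.card F + 1 = 2 ^ k)
    (f : Matrix.ProjectiveSpecialLinearGroup (Fin 2) F →* X) (hf : Function.Injective f) :
    False := by
  classical
  obtain ⟨p, hp⟩ := CharP.exists F
  obtain ⟨⟨n, hn⟩, hpp, hcard⟩ := FiniteField.card F p
  have hn1 : n = 1 := Nat.Prime.eq_one_of_pow (hcard ▸ hF : (p ^ n).Prime)
  have hpF : Fintype.card F = p := by rw [hcard]; show p ^ n = p; rw [hn1, pow_one]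
  obtain ⟨j, rfl⟩ : ∃ j, k = j + 3 := ⟨k - 3, by
    have : 8 ≤ 2 ^ k := by omega
    have h3 : 3 ≤ k := by
      by_contra hlt; push Not at hlt
      have : 2 ^ k ≤ 2 ^ 2 := Nat.pow_le_pow_right (by norm_num) (by omega)
      omega
    omega⟩
  have hm : Fintype.card F - 1 = 2 * (2 ^ (j + 2) - 1) := by
    rw [pow_succ] at hk; omega
  obtain ⟨r, hr, hrd⟩ := Nat.exists_prime_and_dvd (n := 2 ^ (j + 2) - 1) (by
    have : 2 ^ 2 ≤ 2 ^ (j + 2) := Nat.pow_le_pow_right (by norm_num) (by omega)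
    omega)
  have hr2 : r ≠ 2 := by
    rintro rfl
    have h2 : 2 ∣ 2 ^ (j + 2) := dvd_pow_self 2 (by omega)
    have : 1 ≤ 2 ^ (j + 2) := Nat.one_le_two_pow
    omega
  haveI := Fact.mk hr
  obtain ⟨a, ha⟩ := exists_prime_orderOf_dvd_card' r (G := Fˣ) (by
    rw [Nat.card_eq_fintype_card, Fintype.card_units, hm]; exact hrd.mul_left 2)
  have ha2 : (a : F) * a ≠ 1 := fun e => by
    have : a ^ 2 = 1 := Units.ext (by rw [pow_two, Units.val_mul, e, Units.val_one])
    have := orderOf_dvd_of_pow_eq_one this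
    rw [ha] at this
    exact hr2 ((Nat.prime_dvd_prime_iff_eq hr Nat.prime_two).mp this)
  have hy : orderOf (pr (dMat a)) = r := by
    refine orderOf_eq_prime ?_ fun e => ?_
    · rw [← QuotientGroup.mk_pow, dMat_pow, ← ha, pow_orderOf_eq_one, dMat_one]; rfl
    · obtain ⟨s, hs⟩ := pr_eq_one e
      have h00 := congrFun (congrFun hs 0) 0
      have h11 := congrFun (congrFun hs 1) 1
      simp [dMat] at h00 h11
      apply ha2
      calc (a : F) * a = a * (↑a⁻¹ : F) := by
            conv_lhs => arg 2; rw [← h00, h11]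
            simp
        _ = 1 := Units.mul_inv a
  have hconj : pr (dMat a) * pr (uMat (1 : F)) * (pr (dMat a))⁻¹ = pr (uMat ((a : F) * a)) := by
    rw [mul_inv_eq_iff_eq_mul, ← QuotientGroup.mk_mul, ← QuotientGroup.mk_mul, dMat_conj, mul_one]
  refine h.no_frobenius hpp (by omega) hr hr2 (x := f (pr (uMat 1))) (y := f (pr (dMat a)))
    (by rw [orderOf_injective f hf, orderOf_uMat hpp one_ne_zero])
    (by rw [orderOf_injective f hf, hy]) ?_ fun e => ?_
  · rw [← map_inv, ← map_mul, ← map_mul, hconj]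
    haveI := Fact.mk hpp
    obtain ⟨i, hi⟩ : ∃ i : ℕ, (i : F) = (a : F) * a := by
      have hb : Function.Surjective (fun i : Fin p => ((i : ℕ) : F)) := by
        refine ((Fintype.bijective_iff_injective_and_card _).mpr ⟨?_, by simp [hpF]⟩).2
        intro i i' e
        exact Fin.ext (CharP.natCast_injOn_Iio F p i.2 i'.2 e)
      obtain ⟨i, hi⟩ := hb ((a : F) * a)
      exact ⟨i, hi⟩
    rw [← hi, ← mul_one (i : F), ← uMat_pow]
    show f (pr (uMat (1 : F)) ^ i) ∈ _
    rw [map_pow]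
    exact Subgroup.pow_mem _ (Subgroup.mem_zpowers _) i
  · rw [← map_mul, ← map_mul] at e
    have e' := hf e
    rw [e'.symm, mul_inv_cancel_right] at hconj
    exact ha2 (pr_uMat_eq hconj).symm

theorem Act.no_psl_three_four (h : Act φ) (hF : Fintype.card F = 4)
    (f : Matrix.ProjectiveSpecialLinearGroup (Fin 3) F →* X) (hf : Function.Injective f) :
    False := by
  classical
  obtain ⟨w, hw⟩ := exists_prime_orderOf_dvd_card' 3 (G := Fˣ) (hp := ⟨Nat.prime_three⟩) (by
    rw [Nat.card_eq_fintype_card, Fintype.card_units, hF])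
  have hw1 : (w : F) ≠ 1 := fun e => by
    rw [Units.val_eq_one.mp e, orderOf_one] at hw; omega
  have hw3 : (w : F) * w * w = 1 := by
    have h3 : (w : F) ^ 3 = 1 := by
      rw [← Units.val_pow_eq_pow_val, ← hw, pow_orderOf_eq_one, Units.val_one]
    linear_combination h3
  have hww : (w : F) * w ≠ 1 := fun e => hw1 (by rw [← hw3, e, one_mul])
  let A : Matrix.SpecialLinearGroup (Fin 3) F :=
    ⟨Matrix.diagonal ![(w : F), (w : F) * w, 1], by
      simp [Matrix.det_diagonal, Fin.prod_univ_three]; linear_combination hw3⟩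
  let B : Matrix.SpecialLinearGroup (Fin 3) F :=
    ⟨!![0, 1, 0; 0, 0, 1; 1, 0, 0], by simp [Matrix.det_fin_three]⟩
  let C : Matrix.SpecialLinearGroup (Fin 3) F :=
    ⟨Matrix.scalar (Fin 3) ((w : F) * w), by
      simp [Matrix.det_diagonal, Fin.prod_univ_three]; linear_combination ((w : F) ^ 3 + 1) * hw3⟩
  have hC : pr C = 1 := (QuotientGroup.eq_one_iff C).mpr
    (Matrix.SpecialLinearGroup.mem_center_iff.mpr ⟨(w : F) * w, by
      simp; linear_combination ((w : F) ^ 3 + 1) * hw3, rfl⟩)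
  have hA3 : A * A * A = 1 := by
    apply Subtype.ext
    show Matrix.diagonal _ * Matrix.diagonal _ * Matrix.diagonal _ = 1
    rw [Matrix.diagonal_mul_diagonal, Matrix.diagonal_mul_diagonal, ← Matrix.diagonal_one]
    congr 1
    funext i
    fin_cases i
    · simpa using hw3
    · show (w : F) * w * ((w : F) * w) * ((w : F) * w) = 1
      linear_combination ((w : F) ^ 3 + 1) * hw3
    · simp
  have hB3 : B * B * B = 1 := by
    apply Subtype.ext
    show !![(0 : F), 1, 0; 0, 0, 1; 1, 0, 0] * !![0, 1, 0; 0, 0, 1; 1, 0, 0] *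
      !![0, 1, 0; 0, 0, 1; 1, 0, 0] = 1
    ext i j
    fin_cases i <;> fin_cases j <;> simp
  have hAB : A * B = C * (B * A) := by
    apply Subtype.ext
    show Matrix.diagonal ![(w : F), (w : F) * w, 1] * !![0, 1, 0; 0, 0, 1; 1, 0, 0] =
      Matrix.diagonal (fun _ => (w : F) * w) *
        (!![0, 1, 0; 0, 0, 1; 1, 0, 0] * Matrix.diagonal ![(w : F), (w : F) * w, 1])
    ext i j
    fin_cases i <;> fin_cases j <;> simp [Matrix.diagonal_mul, Matrix.mul_diagonal, Matrix.vecMul_diagonal] <;>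
      (try first | linear_combination (-(w : F)) * hw3 | linear_combination (-(1 : F)) * hw3 |
        linear_combination hw3)
  haveI : Fact (Nat.Prime 3) := ⟨Nat.prime_three⟩
  have hord : ∀ M : Matrix.SpecialLinearGroup (Fin 3) F, M * M * M = 1 → pr M ≠ 1 →
      orderOf (f (pr M)) = 3 := by
    intro M hM hM1
    rw [orderOf_injective f hf]
    refine orderOf_eq_prime ?_ hM1
    rw [← QuotientGroup.mk_pow, pow_succ, pow_two, hM]; rfl
  have hB1 : pr B ≠ 1 := fun e => by
    obtain ⟨s, hs⟩ := pr_eq_one e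
    have := congrFun (congrFun hs 0) 1
    simp [B] at this
  have hA1 : pr A ≠ 1 := fun e => by
    obtain ⟨s, hs⟩ := pr_eq_one e
    have h0 := congrFun (congrFun hs 0) 0
    have h2 := congrFun (congrFun hs 2) 2
    simp [A] at h0 h2
    exact hw1 (h0.symm.trans h2)
  refine h.no_pp Nat.prime_three (by norm_num) (x := f (pr A)) (y := f (pr B)) ?_
    (hord A hA3 hA1) (hord B hB3 hB1) ?_
  · rw [← map_mul, ← map_mul]
    congr 1
    show pr A * pr B = pr B * pr A
    calc pr A * pr B = pr (A * B) := (QuotientGroup.mk_mul _ A B).symm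
      _ = pr C * pr (B * A) := by rw [hAB]; exact QuotientGroup.mk_mul _ _ _
      _ = pr B * pr A := by rw [hC, one_mul]; exact QuotientGroup.mk_mul _ _ _
  · intro hm
    rw [← mem_powers_iff_mem_zpowers] at hm
    obtain ⟨k, hk⟩ := hm
    have hk' : f (pr A) ^ k = f (pr B) := hk
    rw [← map_pow] at hk'
    have e := hf hk'
    have hdiag : ∀ m : ℕ, ((A ^ m : Matrix.SpecialLinearGroup (Fin 3) F) : Matrix (Fin 3) (Fin 3) F) =
        Matrix.diagonal ![(w : F) ^ m, ((w : F) * w) ^ m, 1] := by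
      intro m
      induction m with
      | zero => ext i j; fin_cases i <;> fin_cases j <;> simp
      | succ m ih =>
        rw [pow_succ, Matrix.SpecialLinearGroup.coe_mul, ih]
        ext i j
        fin_cases i <;> fin_cases j <;> simp [A, Matrix.diagonal_mul, pow_succ]
    have e' : (pr (A ^ k))⁻¹ * pr B = 1 := by
      rw [inv_mul_eq_one]; exact e
    rw [← QuotientGroup.mk_inv, ← QuotientGroup.mk_mul] at e'
    obtain ⟨s, hs⟩ := pr_eq_one e'
    have hB : (B : Matrix (Fin 3) (Fin 3) F) =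
        ((A ^ k : Matrix.SpecialLinearGroup (Fin 3) F) : Matrix (Fin 3) (Fin 3) F) *
          Matrix.scalar (Fin 3) s := by
      rw [hs, ← Matrix.SpecialLinearGroup.coe_mul, mul_inv_cancel_left]
    have := congrFun (congrFun hB 0) 1
    rw [hdiag] at this
    simp [B, Matrix.diagonal_mul] at this

end Cfsg.Agent.CIT
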