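import Cfsg.Agent.CIT.Res
import Cfsg.Agent.CIT.Socle
import Cfsg.Agent.CIT.Witness
import Cfsg.Agent.CIT.Fermat
import Cfsg.Agent.Linear.SmallIso

/-!
A CIT-group with an elementary offender on a fixed point free module is natural: `|V| = q²` and
`|X| = q(q² - 1)`, where `q` is the order of the offender.
-/

set_option autoImplicit false
set_option maxHeartbeats 400000

universe u

namespace Cfsg.Agent.CIT

open Subgroup
open FGS75.CCKer (Dat nS cz dd)

/-- `A` makes `V` a natural module of `X`. -/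
structure Natl {X V : Type*} [Group X] [Group V] (φ : X →* MulAut V) (A : Subgroup X) : Prop where
  two : 1 < Nat.card A
  exp : ∀ a ∈ A, a * a = 1
  cardV : Nat.card V = Nat.card A * Nat.card A
  cardX : Nat.card X = Nat.card A * (Nat.card A * Nat.card A - 1)
  fixeq : ∀ a ∈ A, a ≠ 1 → fix φ a = fixS φ A
  cardfix : Nat.card (fixS φ A) = Nat.card A

theorem exists_ne_one {G : Type*} [Group G] {A : Subgroup G} (h : A ≠ ⊥) : ∃ a ∈ A, a ≠ 1 := by
  by_contra hc
  push Not at hc
  exact h ((Subgroup.eq_bot_iff_forall A).mpr hc)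

/-- A Sylow 2-subgroup of a simple normal TI-subgroup is one of the whole group. -/
theorem sylow_le_of_dat {X : Type*} [Group X] [Finite X] (hC : IsCIT X) (T : Subgroup X) [T.Normal]
    {S : Sylow 2 T} {z : T} (hD : Dat S z) (P : Sylow 2 X)
    (hP : (S : Subgroup T).map T.subtype ≤ (P : Subgroup X)) : (P : Subgroup X) ≤ T := by
  haveI : Fact (Nat.Prime 2) := ⟨Nat.prime_two⟩
  classical
  by_contra hPT
  set S' := (S : Subgroup T).map T.subtype with hS'
  have hS'T : S' ≤ T := Subgroup.map_subtype_le _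
  have hPTS : ∀ x ∈ (P : Subgroup X), x ∈ T → x ∈ S' := by
    intro x hx hxT
    have h1 : (S : Subgroup T) = (P : Subgroup X).subgroupOf T := by
      refine (S.is_maximal' (isPGroup_of_two fun y hy => ?_)
        fun y hy => hP (Subgroup.mem_map_of_mem _ hy)).symm
      obtain ⟨k, hk⟩ := two_of_mem P.isPGroup' (Subgroup.mem_subgroupOf.mp hy)
      exact ⟨k, by rw [← Subgroup.orderOf_coe, hk]⟩
    exact ⟨⟨x, hxT⟩, h1 ▸ Subgroup.mem_subgroupOf.mpr hx, rfl⟩
  -- an element of `P` outside `T` whose square lies in `T`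
  obtain ⟨b, hbP, hbT, hb2⟩ : ∃ b ∈ (P : Subgroup X), b ∉ T ∧ b * b ∈ T := by
    obtain ⟨x, hxP, hxT⟩ := SetLike.not_le_iff_exists.mp hPT
    obtain ⟨k, hk⟩ := two_of_mem P.isPGroup' hxP
    have hex : ∃ j, x ^ 2 ^ j ∈ T := ⟨k, by rw [← hk, pow_orderOf_eq_one]; exact T.one_mem⟩
    rcases hj : Nat.find hex with _ | j
    · exact absurd (by simpa [hj] using Nat.find_spec hex) hxT
    · refine ⟨x ^ 2 ^ j, pow_mem hxP _, Nat.find_min hex (by omega), ?_⟩
      have := Nat.find_spec hex
      rwa [hj, pow_succ, pow_mul, pow_two] at this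
  obtain ⟨u, hu, huM⟩ := hD.exists_outer
  have hconjS : ∀ {y : T}, y ∈ (S : Subgroup T) → b * y * b⁻¹ ∈ S' := fun {y} hy =>
    hPTS _ (mul_mem (mul_mem hbP (hP ⟨y, hy, rfl⟩)) (inv_mem hbP))
      ((inferInstance : T.Normal).conj_mem _ y.2 b)
  let c : T →* T := (MulAut.conjNormal b).toMonoidHom
  have hc : ∀ y : T, ((c y : T) : X) = b * y * b⁻¹ := fun y => MulAut.conjNormal_apply b y
  have hcS : ∀ y ∈ (S : Subgroup T), c y ∈ (S : Subgroup T) := fun y hy => by
    obtain ⟨s, hs, hs'⟩ := hconjS hy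
    have he : s = c y := Subtype.ext (hs'.trans (hc y).symm)
    exact he ▸ hs
  have hcinj : Function.Injective c := (MulAut.conjNormal b).injective
  have hcS' : (S : Subgroup T).map c = (S : Subgroup T) :=
    Subgroup.eq_of_le_of_card_ge (Subgroup.map_le_iff_le_comap.mpr hcS)
      (Subgroup.card_map_of_injective hcinj).ge
  have hcn : ∀ y : T, y ∈ nS S → c y ∈ nS S := by
    intro y hy
    refine FGS75.SelfNorm.mem_normalizer_of_conj fun s hs => ?_
    rw [← hcS'] at hs
    obtain ⟨r, hr, rfl⟩ := hs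
    rw [show c y * c r * (c y)⁻¹ = c (y * r * y⁻¹) by rw [map_mul, map_mul, map_inv]]
    exact hcS _ ((Subgroup.mem_normalizer_iff.mp hy r).mp hr)
  have hcu : c u ∉ nS S := by
    intro hm
    refine huM ?_
    obtain ⟨y, hy⟩ : c u ∈ (nS S).map c := by
      rw [Subgroup.eq_of_le_of_card_ge (Subgroup.map_le_iff_le_comap.mpr hcn)
        (Subgroup.card_map_of_injective hcinj).ge]
      exact hm
    exact hcinj hy.2 ▸ hy.1
  -- move `b` so that it fixes two points
  obtain ⟨⟨d, hd⟩, hdu, -⟩ := hD.regular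
    (x := QuotientGroup.mk (c u)) (y := QuotientGroup.mk u)
    (fun e => hcu (FGS75.CCKer.mk_one_iff.mp e)) (fun e => huM (FGS75.CCKer.mk_one_iff.mp e))
  rw [hD.cz_eq_sylow] at hd
  have hdu' : u⁻¹ * (d * c u) ∈ nS S := by
    have := FGS75.CCKer.mk_eq.mp hdu.symm
    exact this
  set b' : X := (d : X) * b with hb'
  have hb'P : b' ∈ (P : Subgroup X) := mul_mem (hP ⟨d, hd, rfl⟩) hbP
  have hb'T : b' ∉ T := fun h => hbT (by
    have := mul_mem (inv_mem d.2) h; rwa [hb', inv_mul_cancel_left] at this)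
  let c' : T →* T := (MulAut.conjNormal b').toMonoidHom
  have hc' : ∀ y : T, c' y = d * c y * d⁻¹ := fun y => Subtype.ext (by
    show ((MulAut.conjNormal b' y : T) : X) = (d : X) * (c y : X) * (d : X)⁻¹
    rw [MulAut.conjNormal_apply, hc, hb']; group)
  have hdd : ∀ y ∈ dd S u, c' y ∈ dd S u := by
    intro y hy
    rw [FGS75.CCKer.mem_dd] at hy ⊢
    refine ⟨?_, ?_⟩
    · rw [hc']
      exact mul_mem (mul_mem (Subgroup.le_normalizer hd) (hcn _ hy.1))
        (inv_mem (Subgroup.le_normalizer hd))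
    · have h1 := hcn _ hy.2
      rw [map_mul, map_mul, map_inv] at h1
      rw [hc', show u⁻¹ * (d * c y * d⁻¹) * u =
        (u⁻¹ * (d * c u)) * ((c u)⁻¹ * c y * c u) * (u⁻¹ * (d * c u))⁻¹ by group]
      exact mul_mem (mul_mem hdu' h1) (inv_mem hdu')
  -- `b'` is an involution
  have hb'2T : b' * b' ∈ T := by
    rw [hb', show (d : X) * b * ((d : X) * b) = (d : X) * (b * (d : X) * b⁻¹) * (b * b) by group]
    exact mul_mem (mul_mem d.2 ((inferInstance : T.Normal).conj_mem _ d.2 b)) hb2
  have hsqdd : (⟨b' * b', hb'2T⟩ : T) ∈ dd S u := by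
    obtain ⟨s, hs, hs'⟩ := hPTS _ (mul_mem hb'P hb'P) hb'2T
    have he : s = (⟨b' * b', hb'2T⟩ : T) := Subtype.ext hs'
    subst he
    refine FGS75.CCKer.mem_dd.mpr ⟨Subgroup.le_normalizer hs, ?_⟩
    -- `b'` fixes the point `u`
    have h1 : u⁻¹ * c' u ∈ nS S := by
      rw [hc', show u⁻¹ * (d * c u * d⁻¹) = (u⁻¹ * (d * c u)) * d⁻¹ by group]
      exact mul_mem hdu' (inv_mem (Subgroup.le_normalizer hd))
    have hc'n : ∀ y ∈ nS S, c' y ∈ nS S := fun y hy => by
      rw [hc']
      exact mul_mem (mul_mem (Subgroup.le_normalizer hd) (hcn _ hy))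
        (inv_mem (Subgroup.le_normalizer hd))
    have h2 : u⁻¹ * c' (c' u) ∈ nS S := by
      have := mul_mem h1 (hc'n _ h1)
      rwa [map_mul, map_inv, show u⁻¹ * c' u * ((c' u)⁻¹ * c' (c' u)) = u⁻¹ * c' (c' u) by group]
        at this
    have h3 : c' (c' u) = (⟨b' * b', hb'2T⟩ : T) * u * (⟨b' * b', hb'2T⟩ : T)⁻¹ := Subtype.ext (by
      show ((MulAut.conjNormal b' (MulAut.conjNormal b' u) : T) : X) = b' * b' * (u : X) * (b' * b')⁻¹
      rw [MulAut.conjNormal_apply, MulAut.conjNormal_apply]; group)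
    rw [h3] at h2
    have := mul_mem h2 (Subgroup.le_normalizer hs)
    rwa [show u⁻¹ * ((⟨b' * b', hb'2T⟩ : T) * u * (⟨b' * b', hb'2T⟩ : T)⁻¹) * ⟨b' * b', hb'2T⟩ =
      u⁻¹ * ⟨b' * b', hb'2T⟩ * u by group] at this
  have hb'2 : b' * b' = 1 := by
    have ho := hD.dd_odd huM hsqdd
    rw [← Subgroup.orderOf_coe] at ho
    exact (two_of_mem P.isPGroup' (mul_mem hb'P hb'P)).eq_one_of_odd ho
  have hb'1 : b' ≠ 1 := fun e => hb'T (e ▸ T.one_mem)
  set H := (dd S u).map T.subtype with hH
  have hinv : ∀ x ∈ H, b' * x * b'⁻¹ = x⁻¹ := by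
    refine FGS75.SelfNorm.inverts_of_fpf hb'2 ?_ ?_
    · rintro _ ⟨y, hy, rfl⟩
      exact ⟨c' y, hdd y hy, MulAut.conjNormal_apply b' y⟩
    · rintro _ ⟨y, hy, rfl⟩ hcomm
      exact hC.eq_one_of_commute (two_of_sq hb'2) hb'1
        (by rw [show T.subtype y = (y : X) from rfl, Subgroup.orderOf_coe]; exact hD.dd_odd huM hy)
        hcomm.symm
  obtain ⟨y, hy, hy1⟩ := exists_ne_one (A := dd S u) (fun e => by
    have h1 := hD.card_dd huM
    rw [e, Subgroup.card_bot] at h1
    have := hD.ni_facts.2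
    omega)
  have huinv := hD.inverts hu huM y hy
  have hcomm : b' * (u : X) * y * (b' * (u : X))⁻¹ = y := by
    calc b' * (u : X) * y * (b' * (u : X))⁻¹ = b' * ((u * y * u⁻¹ : T) : X) * b'⁻¹ := by
          push_cast; group
      _ = y := by
          have e := hinv (y : X)⁻¹ (inv_mem ⟨y, hy, rfl⟩)
          rw [inv_inv] at e
          rw [huinv, Subgroup.coe_inv]
          exact e
  have heven : 2 ∣ orderOf (b' * (u : X)) := by
    by_contra hodd
    have hsq : (b' * (u : X)) ^ 2 ∈ T := by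
      rw [pow_two, show b' * (u : X) * (b' * u) = (b' * (u : X) * b'⁻¹) * (b' * b') * u by group]
      exact mul_mem (mul_mem ((inferInstance : T.Normal).conj_mem _ u.2 b') hb'2T) u.2
    obtain ⟨k, hk⟩ := exists_pow_eq_self_of_coprime (x := b' * (u : X)) (n := 2)
      ((Nat.prime_two.coprime_iff_not_dvd).mpr hodd)
    have hm := T.pow_mem hsq k
    rw [hk] at hm
    exact hb'T (by have := mul_mem hm (inv_mem u.2); rwa [mul_inv_cancel_right] at this)
  obtain ⟨n, hn⟩ := exists_involution_pow_of_even heven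
  refine hy1 (Subtype.ext ?_)
  refine hC.eq_one_of_commute (two_of_orderOf hn) (ne_one_of_orderOf hn)
    (by rw [Subgroup.orderOf_coe]; exact hD.dd_odd huM hy) ?_
  exact (((show Commute (b' * (u : X)) y from mul_inv_eq_iff_eq_mul.mp hcomm).pow_left n).symm).eq

variable {X V : Type u} [Group X] [Group V] [Finite X] [Finite V] {φ : X →* MulAut V}

theorem Act.card_six (h : Act φ) (hV : Nat.card V ≤ 4) (he : ∃ a : X, orderOf a = 2)
    (ho : ∃ w : X, Odd (orderOf w) ∧ w ≠ 1) : Nat.card V = 4 ∧ Nat.card X = 6 := by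
  classical
  obtain ⟨a, ha⟩ := he
  obtain ⟨w, hw, hw1⟩ := ho
  let f : X → Equiv.Perm {v : V // v ≠ 1} := fun x =>
    (φ x).toEquiv.subtypeEquiv fun v => not_congr (φ x).map_eq_one_iff.symm
  have hf : Function.Injective f := by
    intro x y e
    refine h.inj (MulEquiv.ext fun v => ?_)
    by_cases hv : v = 1
    · subst hv; simp
    · exact congrArg Subtype.val (Equiv.congr_fun e ⟨v, hv⟩)
  have hsub : Nat.card {v : V // v ≠ 1} = Nat.card V - 1 := by
    haveI : Fintype V := Fintype.ofFinite V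
    rw [Nat.card_eq_fintype_card, Fintype.card_subtype_compl, Fintype.card_subtype_eq,
      Nat.card_eq_fintype_card]
  have hle : Nat.card X ≤ (Nat.card V - 1).factorial := by
    rw [← hsub, ← Nat.card_perm]; exact Nat.card_le_card_of_injective f hf
  have h2 : 2 ∣ Nat.card X := ha ▸ orderOf_dvd_natCard a
  have h6 : 6 ≤ Nat.card X := by
    have hd : orderOf w ∣ Nat.card X := orderOf_dvd_natCard w
    have hd3 : 3 ≤ orderOf w := by
      have := orderOf_pos w
      have h1 : orderOf w ≠ 1 := fun e => hw1 (orderOf_eq_one_iff.mp e)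
      obtain ⟨k, hk⟩ := hw
      omega
    have := Nat.le_of_dvd Nat.card_pos
      (Nat.Coprime.mul_dvd_of_dvd_of_dvd (Nat.coprime_two_left.mpr hw) h2 hd)
    omega
  rcases Nat.lt_or_ge (Nat.card V) 4 with hlt | hge
  · exfalso
    have := Nat.factorial_le (show Nat.card V - 1 ≤ 2 by omega)
    simp [Nat.factorial] at this
    omega
  · rw [show Nat.card V - 1 = 3 by omega] at hle
    simp [Nat.factorial] at hle
    omega

theorem Act.natl (h : Act φ) (hN : ∀ N : Subgroup X, N.Normal → IsPGroup 2 N → N = ⊥)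
    (hB : SimpleBelow.{u} (Nat.card X + 1)) {A : Subgroup X} (hA1 : A ≠ ⊥)
    (hexp : ∀ a ∈ A, a * a = 1) (hoff : Nat.card V ≤ Nat.card A * Nat.card (fixS φ A)) :
    Natl φ A := by
  classical
  haveI : Fact (Nat.Prime 2) := ⟨Nat.prime_two⟩
  obtain ⟨a, haA, ha1⟩ := exists_ne_one hA1
  have ha : orderOf a = 2 := orderOf_of_sq (hexp a haA) ha1
  haveI : Nontrivial X := ⟨⟨a, 1, ha1⟩⟩
  have hV1 := h.one_lt_card
  haveI : Nontrivial V := Finite.one_lt_card_iff_nontrivial.mp hV1
  have hA2 : 1 < Nat.card A := Finite.one_lt_card_iff_nontrivial.mpr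
    ((Subgroup.nontrivial_iff_ne_bot A).mpr hA1)
  have hm : ∀ b ∈ A, b ≠ 1 → Nat.card V = Nat.card (fix φ b) * Nat.card (fix φ b) := by
    intro b hb hb1
    rw [← pow_two]; exact (h.half_of_no_normal hN (orderOf_of_sq (hexp b hb) hb1)).1
  set m := Nat.card (fix φ a) with hm_def
  have hVm : Nat.card V = m * m := hm a haA ha1
  have hmpos : 0 < m := Nat.card_pos
  have hSm : Nat.card (fixS φ A) ≤ m := Subgroup.card_le_of_le (fixS_le_fix haA)
  have hmq : m ≤ Nat.card A := by
    have h1 : m * m ≤ Nat.card A * m := by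
      rw [← hVm]; exact hoff.trans (Nat.mul_le_mul_left _ hSm)
    exact Nat.le_of_mul_le_mul_right h1 hmpos
  suffices hkey : Nat.card A = m ∧ Nat.card X = Nat.card A * (Nat.card A * Nat.card A - 1) by
    obtain ⟨hqm, hX⟩ := hkey
    have hS : Nat.card (fixS φ A) = m := by
      refine le_antisymm hSm (Nat.le_of_mul_le_mul_left ?_ hmpos)
      rw [← hVm]; exact hqm ▸ hoff
    refine ⟨hA2, hexp, by rw [hVm, hqm], hX, fun b hb hb1 => ?_, by rw [hS, hqm]⟩
    refine (Subgroup.eq_of_le_of_card_ge (fixS_le_fix hb) ?_).symm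
    rw [hS]
    have := hm b hb hb1
    rw [hVm] at this
    exact (Nat.mul_self_inj.mp this).ge
  by_cases hO : ∃ N : Subgroup X, N.Normal ∧ N ≠ ⊥ ∧ Odd (Nat.card N)
  · -- a normal subgroup of odd order: `X` is the symmetric group of degree three
    obtain ⟨N, hNn, hN1, hNodd⟩ := hO
    obtain ⟨w, hw, hw1⟩ := exists_ne_one hN1
    have hwodd : Odd (orderOf w) := hNodd.of_dvd_nat (Subgroup.orderOf_dvd_natCard N hw)
    have hinv : ∀ b ∈ A, b ≠ 1 → b * w * b⁻¹ = w⁻¹ := fun b hb hb1 =>
      FGS75.SelfNorm.inverts_of_fpf (hexp b hb) (fun k hk => hNn.conj_mem k hk b)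
        (fun k hk hc => h.cit.eq_one_of_commute (two_of_sq (hexp b hb)) hb1
          (hNodd.of_dvd_nat (Subgroup.orderOf_dvd_natCard N hk)) hc.symm) w hw
    have hA : Nat.card A ≤ 2 := by
      have hsub : (A : Set X) ⊆ {1, a} := by
        intro b hb
        by_contra hc
        simp only [Set.mem_insert_iff, Set.mem_singleton_iff, not_or] at hc
        obtain ⟨hb1, hba⟩ := hc
        refine hw1 (h.cit.eq_one_of_commute (two_of_sq (hexp _ (mul_mem haA hb))) ?_ hwodd ?_)
        · exact fun e => hba (by rw [eq_inv_of_mul_eq_one_right e, inv_of_sq (hexp a haA)])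
        · refine (mul_inv_eq_iff_eq_mul.mp ?_).symm
          calc a * b * w * (a * b)⁻¹ = a * (b * w * b⁻¹) * a⁻¹ := by group
            _ = (a * w * a⁻¹)⁻¹ := by rw [hinv b hb hb1]; group
            _ = w := by rw [hinv a haA ha1, inv_inv]
      have := Set.ncard_le_ncard hsub
      rw [← Nat.card_coe_set_eq] at this
      exact this.trans (Set.ncard_pair ha1.symm).le
    have hq : Nat.card A = 2 := le_antisymm hA hA2
    obtain ⟨h4, h6⟩ := h.card_six (by
      rw [hVm]; exact (Nat.mul_le_mul hmq hmq).trans (by rw [hq])) ⟨a, ha⟩ ⟨w, hwodd, hw1⟩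
    have hm2 : m = 2 := Nat.mul_self_inj.mp (hVm.symm.trans h4)
    rw [hq, hm2, h6]
    exact ⟨rfl, rfl⟩
  push Not at hO
  have hrad : ∀ N : Subgroup X, N.Normal → Group.IsSolvable N → N = ⊥ := by
    intro N hNn hNs
    by_contra hN1
    haveI := hNs
    haveI : Nontrivial N := (Subgroup.nontrivial_iff_ne_bot N).mpr hN1
    -- a minimal normal subgroup of `X` inside `N` is abelian
    haveI := hNn
    obtain ⟨K, hK, hK1, hKN, hKmin⟩ := MinNormal.exists_minimal_normal_le N hN1
    haveI : Group.IsSolvable K := Group.isSolvable_of_isSolvable_injective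
      (f := Subgroup.inclusion hKN) (Subgroup.inclusion_injective hKN)
    have hcomm : ⁅K, K⁆ = ⊥ := by
      refine (hKmin _ inferInstance (Subgroup.commutator_le_left K K)).resolve_right fun e => ?_
      haveI : Nontrivial K := (Subgroup.nontrivial_iff_ne_bot K).mpr hK1
      have hlt := Group.IsSolvable.commutator_lt_top_of_nontrivial K
      refine hlt.ne (Subgroup.map_injective K.subtype_injective ?_)
      rw [Subgroup.map_subtype_commutator, e, ← MonoidHom.range_eq_map, Subgroup.range_subtype]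
    have hKc : ∀ x ∈ K, ∀ y ∈ K, x * y = y * x := fun x hx y hy =>
      commutatorElement_eq_one_iff_mul_comm.mp
        (Subgroup.mem_bot.mp (hcomm ▸ Subgroup.commutator_mem_commutator hx hy))
    let O : Subgroup X :=
      { carrier := {x | x ∈ K ∧ Odd (orderOf x)}
        one_mem' := ⟨K.one_mem, by simp⟩
        mul_mem' := fun {x y} hx hy => ⟨mul_mem hx.1 hy.1, (hx.2.mul hy.2).of_dvd_nat
          ((show Commute x y from hKc x hx.1 y hy.1).orderOf_mul_dvd_mul_orderOf)⟩
        inv_mem' := fun {x} hx => ⟨inv_mem hx.1, by rw [orderOf_inv]; exact hx.2⟩ }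
    have hOn : O.Normal := ⟨fun x hx g => ⟨hK.conj_mem x hx.1 g, odd_orderOf_conj hx.2 g⟩⟩
    have hOodd : Odd (Nat.card O) := by
      rw [Nat.odd_iff]
      refine Nat.two_dvd_ne_zero.mp fun h2 => ?_
      obtain ⟨⟨x, hx⟩, hx2⟩ := exists_prime_orderOf_dvd_card' 2 h2
      rw [Subgroup.orderOf_mk] at hx2
      exact absurd (hx2 ▸ hx.2) (by decide)
    have hO1 : O = ⊥ := by_contra fun e => hO O hOn e hOodd
    refine hK1 (hN K hK (isPGroup_of_no_odd fun x hx ho => ?_))
    exact Subgroup.mem_bot.mp (hO1 ▸ (⟨hx, ho⟩ : x ∈ O))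
  have hns : ¬ Group.IsSolvable X := by
    intro hsol
    haveI := hsol
    exact top_ne_bot (α := Subgroup X)
      (hrad ⊤ inferInstance (Group.isSolvable_of_isSolvable_injective
        (f := (⊤ : Subgroup X).subtype) Subtype.val_injective))
  obtain ⟨T, hTn, hTs, hTnc, -⟩ := socle hrad h.cit
  haveI := hTn
  haveI := hTs
  have hTns : ¬ Group.IsSolvable T := by
    intro hsol
    haveI : Nontrivial T := hTs.toNontrivial
    exact (Subgroup.nontrivial_iff_ne_bot T).mp this (hrad T hTn hsol)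
  have hoff2 : Nat.card V ≤ Nat.card A * Nat.card A := hVm ▸ Nat.mul_le_mul hmq hmq
  rcases hB T hTs hTns (h.cit.subgroup T)
    (Nat.lt_succ_of_le (Subgroup.card_le_card_group T)) with ⟨S, z, hD⟩ | hNT
  · -- TI case
    obtain ⟨P, hP⟩ := (S.isPGroup'.map T.subtype).exists_le_sylow
    have hPT := sylow_le_of_dat h.cit T hD P hP
    have hPS : (P : Subgroup X) = (S : Subgroup T).map T.subtype := by
      refine le_antisymm (fun x hx => ?_) hP
      have h1 : (S : Subgroup T) = (P : Subgroup X).subgroupOf T :=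
        (S.is_maximal' (isPGroup_of_two fun y hy => by
          obtain ⟨k, hk⟩ := two_of_mem P.isPGroup' (Subgroup.mem_subgroupOf.mp hy)
          exact ⟨k, by rw [← Subgroup.orderOf_coe, hk]⟩)
          fun y hy => hP (Subgroup.mem_map_of_mem _ hy)).symm
      exact ⟨⟨x, hPT hx⟩, h1 ▸ Subgroup.mem_subgroupOf.mpr hx, rfl⟩
    have hti : ∀ g y : X, y ∈ (P : Subgroup X) → y ≠ 1 → g * y * g⁻¹ ∈ (P : Subgroup X) →
        g ∈ nS P := by
      intro g y hy hy1 hgy
      rw [hPS] at hy hgy
      obtain ⟨y', hy', rfl⟩ := hy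
      obtain ⟨v, hv, hv'⟩ := hgy
      have hcinj : Function.Injective (MulAut.conjNormal (H := T) g).toMonoidHom :=
        (MulAut.conjNormal g).injective
      haveI := (inferInstance : Finite (Sylow 2 T))
      obtain ⟨t, ht⟩ := MulAction.exists_smul_eq T S (S.mapSurjective
        (f := (MulAut.conjNormal (H := T) g).toMonoidHom) (MulAut.conjNormal g).surjective)
      have ht' : ∀ s : T, s ∈ (S : Subgroup T) → t⁻¹ * MulAut.conjNormal g s * t ∈ (S : Subgroup T) := by
        intro s hs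
        have h1 : MulAut.conjNormal g s ∈
            ((S.mapSurjective (f := (MulAut.conjNormal (H := T) g).toMonoidHom)
              (MulAut.conjNormal g).surjective : Sylow 2 T) : Subgroup T) :=
          Subgroup.mem_map_of_mem _ hs
        rw [← ht, Sylow.coe_subgroup_smul, Subgroup.mem_pointwise_smul_iff_inv_smul_mem] at h1
        simpa [MulAut.smul_def, mul_assoc] using h1
      have htn : t ∈ nS S := by
        have h1 := ht' y' hy'
        have h2 : MulAut.conjNormal g y' = v := Subtype.ext (by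
          rw [MulAut.conjNormal_apply]; exact hv'.symm)
        rw [h2] at h1
        have h3 := hD.ti (g := t⁻¹) (y := v) hv (fun e => hy1 (by
          rw [e] at hv'
          exact conj_eq_one_iff.mp hv'.symm)) (by rwa [inv_inv])
        simpa using inv_mem h3
      have hgS : ∀ s : T, s ∈ (S : Subgroup T) → MulAut.conjNormal g s ∈ (S : Subgroup T) := by
        intro s hs
        have h1 := (Subgroup.mem_normalizer_iff.mp htn _).mp (ht' s hs)
        rwa [show t * (t⁻¹ * MulAut.conjNormal g s * t) * t⁻¹ = MulAut.conjNormal g s by group] at h1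
      refine FGS75.SelfNorm.mem_normalizer_of_conj fun x hx => ?_
      rw [hPS] at hx ⊢
      obtain ⟨s, hs, rfl⟩ := hx
      exact ⟨_, hgS s hs, MulAut.conjNormal_apply g s⟩
    obtain ⟨z', hD'⟩ := exists_dat_of_ti h.cit hns hrad P hti
    have hzP := hD'.cz_eq_sylow
    obtain ⟨u, -, huM⟩ := hD'.exists_outer
    have hcard : Nat.card X = (Nat.card (cz z') + 1) * (FGS75.CCKer.ni P * Nat.card (cz z')) := by
      rw [← hD'.card_points, ← hD'.card_nS huM]
      exact Subgroup.card_eq_card_quotient_mul_card_subgroup _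
    obtain ⟨hni, hni3⟩ := hD'.ni_facts
    have hodd : Odd ((Nat.card (cz z') + 1) * FGS75.CCKer.ni P) := hD'.even_cz.add_one.mul hni
    have hdvd := h.dvd_of_odd hodd (by rw [hcard, ← mul_assoc]; exact dvd_mul_right _ _)
    -- `A` lies in a conjugate of the involutions of `P`
    obtain ⟨P', hP'⟩ := (isPGroup_of_two fun b hb => two_of_sq (hexp b hb) : IsPGroup 2 A).exists_le_sylow
    obtain ⟨g, hg⟩ := MulAction.exists_smul_eq X P' P
    have hAle : Nat.card A ≤ FGS75.CCKer.ni P + 1 := by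
      rw [← hD'.card_om]
      refine Nat.card_le_card_of_injective (fun b => ⟨g * (b : X) * g⁻¹, ?_, ?_⟩) ?_
      · rw [← hg, Sylow.coe_subgroup_smul]
        exact Subgroup.smul_mem_pointwise_smul _ (MulAut.conj g) _ (hP' b.2)
      · rw [conj_mul, hexp _ b.2, mul_one, mul_inv_cancel]
      · intro b b' e
        exact Subtype.ext (mul_left_cancel (mul_right_cancel (congrArg Subtype.val e :)))
    have hle : FGS75.CCKer.ni P + 1 ≤ Nat.card (cz z') := by
      rw [← hD'.card_om]
      exact Subgroup.card_le_of_le fun x hx => hD'.le_cz hx.1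
    have hpos : 0 < Nat.card V - 1 := by omega
    have hmle := Nat.le_of_dvd hpos hdvd
    have e1 : Nat.card A = m ∧ Nat.card (cz z') = Nat.card A ∧ FGS75.CCKer.ni P + 1 = Nat.card A := by
      obtain ⟨n, hn⟩ : ∃ n, FGS75.CCKer.ni P = n := ⟨_, rfl⟩
      obtain ⟨k, hk⟩ : ∃ k, Nat.card (cz z') = k := ⟨_, rfl⟩
      rw [hn] at hmle hAle hle hni3
      rw [hk] at hmle hle
      rw [hn, hk]
      rw [hVm] at hmle
      have hmm : m * m ≤ (n + 1) * (n + 1) := Nat.mul_le_mul (hmq.trans hAle) (hmq.trans hAle)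
      have hk1 : k = n + 1 := by
        by_contra hne
        have : (n + 1 + 1 + 1) * n ≤ (k + 1) * n := Nat.mul_le_mul_right _ (by omega)
        nlinarith [Nat.sub_add_cancel (show 1 ≤ m * m from Nat.mul_pos hmpos hmpos)]
      subst hk1
      have hm1 : n + 1 ≤ m := by
        by_contra hlt
        have : m * m ≤ n * n := Nat.mul_le_mul (by omega) (by omega)
        nlinarith [Nat.sub_add_cancel (show 1 ≤ m * m from Nat.mul_pos hmpos hmpos)]
      exact ⟨by omega, by omega, by omega⟩
    refine ⟨e1.1, ?_⟩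
    rw [hcard, e1.2.1]
    obtain ⟨n, hn⟩ : ∃ n, FGS75.CCKer.ni P = n := ⟨_, rfl⟩
    have e3 := e1.2.2
    rw [hn] at e3 ⊢
    have hsq : Nat.card A * Nat.card A - 1 = (Nat.card A + 1) * n := by
      rw [← e3]
      have : (n + 1) * (n + 1) = (n + 1 + 1) * n + 1 := by ring
      omega
    rw [hsq]; ring
  · exfalso
    rcases hNT with ⟨F, iF, iFt, hF, ⟨e⟩⟩ | ⟨F, iF, iFt, hF, ⟨e⟩⟩
    · have hinj : Function.Injective (T.subtype.comp e.symm.toMonoidHom) :=
        T.subtype_injective.comp e.symm.injective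
      rcases hF with h9 | ⟨hp, h7, k, hk | hk⟩
      · exact h.no_psl_two_nine h9 _ hinj
      · haveI := Fact.mk hp
        have hk4 : 3 ≤ k := by
          by_contra hlt
          have : 2 ^ k ≤ 2 ^ 2 := Nat.pow_le_pow_right (by norm_num) (by omega)
          omega
        obtain ⟨j, rfl⟩ : ∃ j, k = j + 3 := ⟨k - 3, by omega⟩
        have h17 : 17 ≤ Fintype.card F := by
          rcases j with _ | j
          · norm_num at hk; rw [hk] at hp; exact absurd hp (by norm_num)
          · have : 16 ≤ 2 ^ (j + 1 + 3) := by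
              have := Nat.one_le_two_pow (n := j); rw [pow_add, pow_add]; norm_num; omega
            omega
        refine h.false_of_fermat T hTns (p := Fintype.card F) ?_ h17 ?_ hexp hoff2
        · rw [pow_add] at hk; omega
        · rw [Nat.card_congr e.toEquiv]
          exact Linear.card_PSL_two_of_odd (hp.odd_of_ne_two (by omega))
      · exact h.no_psl_two_mersenne hp h7 hk _ hinj
    · exact h.no_psl_three_four hF (T.subtype.comp e.symm.toMonoidHom)
        (T.subtype_injective.comp e.symm.injective)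

end Cfsg.Agent.CIT
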