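import Cfsg.Agent.CIT.Pair
import Cfsg.Agent.CIT.Offender

/-!
An offender at a vertex makes the vertex natural.
-/

set_option autoImplicit false

universe u

namespace Cfsg.Agent.CIT

open Subgroup

variable {G : Type u} [Group G] [Finite G]

/-- The vertex `L` induces `SL₂(q)` on its natural module `vv L`, seen inside the group. -/
structure NatV (L : Subgroup G) (q : ℕ) : Prop where
  q2 : 1 < q
  cardV : Nat.card (vv L) = q * q
  index : (pc L).relIndex L = q * (q * q - 1)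
  syl : ∀ R, SylIn L R → (pc L).relIndex R = q
  sq : ∀ R, SylIn L R → ∀ x ∈ R, x * x ∈ pc L
  cardfix : ∀ R, SylIn L R → Nat.card (vv L ⊓ centralizer (R : Set G) : Subgroup G) = q
  fix : ∀ R, SylIn L R → ∀ x ∈ R, x ∉ pc L → ∀ v ∈ vv L,
    x * v = v * x → v ∈ centralizer (R : Set G)
  surj : ∀ R, SylIn L R → ∀ x ∈ R, x ∉ pc L → ∀ u ∈ vv L, u ∈ centralizer (R : Set G) →
    ∃ v ∈ vv L, v * (x * v * x⁻¹) = u

theorem card_eq_mul_relIndex {H K : Subgroup G} (h : H ≤ K) :
    Nat.card K = Nat.card H * H.relIndex K := by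
  rw [← Subgroup.relIndex_bot_left K, ← Subgroup.relIndex_bot_left H,
    Subgroup.relIndex_mul_relIndex _ _ _ bot_le h]

theorem cj_centralizer (g : G) (H : Subgroup G) :
    cj g (centralizer (H : Set G)) = centralizer ((cj g H : Subgroup G) : Set G) := by
  ext v
  rw [mem_cj, Subgroup.mem_centralizer_iff, Subgroup.mem_centralizer_iff]
  constructor
  · intro h y hy
    have := h _ (mem_cj.mp hy)
    calc y * v = g * ((g⁻¹ * y * g) * (g⁻¹ * v * g)) * g⁻¹ := by group
      _ = v * y := by rw [this]; group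
  · intro h y hy
    have := h (g * y * g⁻¹) (conj_mem_cj hy)
    calc y * (g⁻¹ * v * g) = g⁻¹ * ((g * y * g⁻¹) * v) * g := by group
      _ = g⁻¹ * v * g * y := by rw [this]; group

theorem relIndex_ne_zero' {H K : Subgroup G} : H.relIndex K ≠ 0 := Subgroup.index_ne_zero_of_finite

theorem Vertex.centralizer_pc_le {L : Subgroup G} (hV : Vertex L) (hC : IsCIT G) :
    centralizer ((pc L : Subgroup G) : Set G) ≤ pc L := by
  have hle : centralizer ((pc L : Subgroup G) : Set G) ≤ L := by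
    conv_rhs => rw [← hV.eq]
    exact fun x hx => Subgroup.mem_normalizer_iff.mpr fun y => by
      constructor
      · intro hy
        rwa [(Subgroup.mem_centralizer_iff.mp hx y hy).symm, mul_inv_cancel_right]
      · intro hy
        have h1 := Subgroup.mem_centralizer_iff.mp hx _ hy
        have h2 : y = x * y * x⁻¹ := by
          calc y = x⁻¹ * (x * y * x⁻¹ * x) := by group
            _ = x⁻¹ * (x * (x * y * x⁻¹)) := by rw [h1]
            _ = x * y * x⁻¹ := by group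
        rwa [h2]
  refine le_pc (hC.centralizer_isPGroup (pc_isPGroup L) hV.pc_ne) hle fun x hx => ?_
  refine mem_normalizer_of_cj_eq ?_
  ext y
  rw [mem_cj, Subgroup.mem_centralizer_iff, Subgroup.mem_centralizer_iff]
  constructor
  · intro h z hz
    have := h (x⁻¹ * z * x) (mem_cj.mp (by rw [cj_eq_of_mem_normalizer (le_normalizer_pc L hx)]; exact hz))
    calc z * y = x * ((x⁻¹ * z * x) * (x⁻¹ * y * x)) * x⁻¹ := by group
      _ = y * z := by rw [this]; group
  · intro h z hz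
    have := h (x * z * x⁻¹) ((Subgroup.mem_normalizer_iff.mp (le_normalizer_pc L hx) z).mp hz)
    calc z * (x⁻¹ * y * x) = x⁻¹ * ((x * z * x⁻¹) * y) * x := by group
      _ = x⁻¹ * y * x * z := by rw [this]; group

theorem Vertex.vv_ne {L : Subgroup G} (hV : Vertex L) : vv L ≠ ⊥ := by
  haveI : Fact (Nat.Prime 2) := ⟨Nat.prime_two⟩
  haveI : Nontrivial (pc L) := (Subgroup.nontrivial_iff_ne_bot _).mpr hV.pc_ne
  haveI := (pc_isPGroup L).center_nontrivial
  obtain ⟨c, hc1⟩ := exists_ne (1 : Subgroup.center (pc L))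
  obtain ⟨n, hn⟩ := exists_involution_pow (x := ((c : pc L) : G))
    (two_of_mem (pc_isPGroup L) (c : pc L).2) (fun e => hc1 (Subtype.ext (Subtype.ext e)))
  have hmem : ((c : pc L) : G) ^ n ∈ vv L := by
    refine ⟨pow_mem (c : pc L).2 n, sq_of_orderOf hn, fun y hy => ?_⟩
    have := congrArg Subtype.val (Subgroup.mem_center_iff.mp c.2 ⟨y, hy⟩)
    exact ((show Commute y ((c : pc L) : G) from this).pow_right n).eq
  intro e
  rw [e, Subgroup.mem_bot] at hmem
  exact ne_one_of_orderOf hn hmem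

theorem Vertex.cent_vv {L : Subgroup G} (hV : Vertex L) (hC : IsCIT G) {x : G} (hx : x ∈ L)
    (hc : ∀ v ∈ vv L, x * v = v * x) : x ∈ pc L := by
  refine le_pc (Q := centralizer ((vv L : Subgroup G) : Set G) ⊓ L) ?_ inf_le_right ?_
    ⟨Subgroup.mem_centralizer_iff.mpr fun v hv => (hc v hv).symm, hx⟩
  · exact (hC.centralizer_isPGroup ((pc_isPGroup L).to_le (vv_le L)) hV.vv_ne).to_le inf_le_left
  · intro y hy
    refine mem_normalizer_of_cj_eq ?_
    rw [cj_inf, cj_eq_of_mem hy]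
    congr 1
    ext z
    rw [mem_cj, Subgroup.mem_centralizer_iff, Subgroup.mem_centralizer_iff]
    have hn := cj_eq_of_mem_normalizer (le_normalizer_vv L hy)
    constructor
    · intro h v hv
      have := h (y⁻¹ * v * y) (mem_cj.mp (by rw [hn]; exact hv))
      calc v * z = y * ((y⁻¹ * v * y) * (y⁻¹ * z * y)) * y⁻¹ := by group
        _ = z * v := by rw [this]; group
    · intro h v hv
      have := h (y * v * y⁻¹) (hn ▸ conj_mem_cj hv)
      calc v * (y⁻¹ * z * y) = y⁻¹ * ((y * v * y⁻¹) * z) * y := by group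
        _ = y⁻¹ * z * y * v := by rw [this]; group

theorem Vertex.mem_vv {L R : Subgroup G} (hV : Vertex L) (hC : IsCIT G) (hR : SylIn L R) {x : G}
    (hx : x ∈ R) (hx2 : x * x = 1) (hc : ∀ y ∈ R, y * x = x * y) : x ∈ vv L :=
  ⟨hV.centralizer_pc_le hC (Subgroup.mem_centralizer_iff.mpr fun y hy => hc y (pc_le_sylIn hR hy)),
    hx2, fun y hy => hc y (pc_le_sylIn hR hy)⟩

/-- A normal 2-subgroup of `L/pc L` is trivial. -/
theorem eq_bot_of_normal_two {L : Subgroup G} [hn : ((pc L).subgroupOf L).Normal]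
    (N : Subgroup (L ⧸ (pc L).subgroupOf L)) (hN : N.Normal) (h2 : IsPGroup 2 N) : N = ⊥ := by
  set Qs := (pc L).subgroupOf L
  have hQs2 : IsPGroup 2 Qs :=
    (pc_isPGroup L).of_injective (Subgroup.subgroupOfEquivOfLe (pc_le L)).toMonoidHom
      (MulEquiv.injective _)
  have hcom : N.comap (QuotientGroup.mk' Qs) ≤ Qs := by
    intro y hy
    have hp : IsPGroup 2 (N.comap (QuotientGroup.mk' Qs)) :=
      isPGroup_of_two fun y hy => two_of_mk hQs2 (two_of_mem h2 hy)
    have hle := le_pc (L := L) (Q := (N.comap (QuotientGroup.mk' Qs)).map L.subtype) (hp.map _)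
      (Subgroup.map_subtype_le _) ?_
    · exact Subgroup.mem_subgroupOf.mpr (hle (Subgroup.mem_map_of_mem _ hy))
    · intro m hm
      haveI := hN
      refine mem_normalizer_of_cj_eq (Subgroup.eq_of_le_of_card_ge ?_ (card_cj m _).ge)
      rintro _ ⟨_, ⟨v, hv, rfl⟩, rfl⟩
      exact ⟨⟨m, hm⟩ * v * (⟨m, hm⟩ : L)⁻¹, (inferInstance :
        (N.comap (QuotientGroup.mk' Qs)).Normal).conj_mem v hv _, rfl⟩
  rw [eq_bot_iff]
  intro x hx
  obtain ⟨y, rfl⟩ := QuotientGroup.mk'_surjective Qs x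
  exact Subgroup.mem_bot.mpr ((QuotientGroup.eq_one_iff y).mpr (hcom hx))

theorem natV_of_offender [IsSimpleGroup G] (hC : IsCIT G) (hns : ¬ Group.IsSolvable G)
    (hB : SimpleBelow.{u} (Nat.card G)) {L : Subgroup G} (hV : Vertex L) {B : Subgroup G}
    (hBL : B ≤ L) (hsq : ∀ x ∈ B, x * x ∈ pc L) (hBp : ¬ B ≤ pc L)
    (hoff : Nat.card (vv L) ≤
      (pc L).relIndex B * Nat.card (vv L ⊓ centralizer (B : Set G) : Subgroup G)) :
    NatV L ((pc L).relIndex B) ∧ SylIn L (B ⊔ pc L) := by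
  classical
  haveI : Fact (Nat.Prime 2) := ⟨Nat.prime_two⟩
  haveI hQn : ((pc L).subgroupOf L).Normal :=
    (Subgroup.normal_subgroupOf_iff_le_normalizer (pc_le L)).mpr (le_normalizer_pc L)
  set Qs := (pc L).subgroupOf L with hQs
  have hQs2 : IsPGroup 2 Qs :=
    (pc_isPGroup L).of_injective (Subgroup.subgroupOfEquivOfLe (pc_le L)).toMonoidHom
      (MulEquiv.injective _)
  let φ0 : L →* MulAut (vv L) := (vv L).normalizerMonoidHom.comp (Subgroup.inclusion (le_normalizer_vv L))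
  have hφ0 : ∀ (l : L) (v : vv L), ((φ0 l v : vv L) : G) = l * v * (l : G)⁻¹ := fun _ _ => rfl
  let φ : L ⧸ Qs →* MulAut (vv L) := QuotientGroup.lift Qs φ0 fun l hl => by
    rw [MonoidHom.mem_ker]
    ext v
    rw [hφ0, vv_comm v.2 (Subgroup.mem_subgroupOf.mp hl), mul_inv_cancel_right]
    rfl
  have hφ : ∀ (l : L) (v : vv L), ((φ (l : L ⧸ Qs) v : vv L) : G) = l * v * (l : G)⁻¹ := hφ0
  have hfix : ∀ (l : L) (v : vv L), φ (l : L ⧸ Qs) v = v ↔ (l : G) * v = v * l := fun l v => by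
    rw [Subtype.ext_iff, hφ, mul_inv_eq_iff_eq_mul]
  have hact : Act φ := by
    refine ⟨fun v => Subtype.ext (vv_sq v.2), ?_, ?_, (hC.subgroup L).quotient hQs2⟩
    · rw [injective_iff_map_eq_one]
      intro x hx
      obtain ⟨l, rfl⟩ := QuotientGroup.mk_surjective x
      refine (QuotientGroup.eq_one_iff l).mpr (Subgroup.mem_subgroupOf.mpr ?_)
      exact hV.cent_vv hC l.2 fun v hv => (hfix l ⟨v, hv⟩).mp (by rw [hx]; rfl)
    · intro w ho hw v hv
      obtain ⟨l, rfl⟩ := QuotientGroup.mk_surjective w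
      have h1 := (hC.subgroup L).conj_fix_eq_one hQs2 (w := l)
        (v := ⟨v.1, pc_le L (vv_le L v.2)⟩) (fun hl => hw ((QuotientGroup.eq_one_iff l).mpr hl)) ho
        (two_of_sq (Subtype.ext (vv_sq v.2))) (fun y hy => Subtype.ext
          (vv_comm v.2 (Subgroup.mem_subgroupOf.mp hy))) (Subtype.ext ?_)
      · exact Subtype.ext (congrArg Subtype.val h1 :)
      · show (l : G) * v * (l : G)⁻¹ = v
        rw [← hφ, hv]
  have hlt : Nat.card L < Nat.card G := by
    refine lt_of_le_of_ne (Subgroup.card_le_card_group L) fun e => ?_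
    exact normalizer_ne_top hns hV.pc_ne (pc_isPGroup L) (hV.eq.trans (Subgroup.eq_top_of_card_eq L e))
  have hXle : Nat.card (L ⧸ Qs) ≤ Nat.card L :=
    Nat.card_le_card_of_surjective _ QuotientGroup.mk_surjective
  set A := (B.subgroupOf L).map (QuotientGroup.mk' Qs) with hA
  have hmemA : ∀ x : L, (x : G) ∈ B → (x : L ⧸ Qs) ∈ A := fun x hx =>
    Subgroup.mem_map_of_mem _ (Subgroup.mem_subgroupOf.mpr hx)
  have hcardA : Nat.card A = (pc L).relIndex B := by
    have hr : A = ((QuotientGroup.mk' Qs).comp (B.subgroupOf L).subtype).range := by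
      rw [MonoidHom.range_comp, Subgroup.range_subtype]
    rw [← Subgroup.relIndex_subgroupOf hBL, hr, ← Subgroup.index_ker, Subgroup.relIndex]
    congr 1
    ext x
    exact (QuotientGroup.eq_one_iff (x : L)).trans Iff.rfl
  have hfixA : (fixS φ A).map (vv L).subtype = vv L ⊓ centralizer (B : Set G) := by
    ext v
    constructor
    · rintro ⟨v, hv, rfl⟩
      refine ⟨v.2, Subgroup.mem_centralizer_iff.mpr fun b hb => ?_⟩
      exact (hfix ⟨b, hBL hb⟩ v).mp (hv _ (hmemA _ hb))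
    · rintro ⟨hv, hvc⟩
      refine ⟨⟨v, hv⟩, ?_, rfl⟩
      rintro _ ⟨l, hl, rfl⟩
      exact (hfix l ⟨v, hv⟩).mpr (Subgroup.mem_centralizer_iff.mp hvc _ (Subgroup.mem_subgroupOf.mp hl))
  have hcardfix : Nat.card (fixS φ A) = Nat.card (vv L ⊓ centralizer (B : Set G) : Subgroup G) := by
    rw [← hfixA, Subgroup.card_map_of_injective (vv L).subtype_injective]
  have hN := hact.natl (fun N hN h2 => eq_bot_of_normal_two N hN h2)
    (fun K _ _ h1 h2 h3 h4 => hB K h1 h2 h3 (by omega)) (A := A) (by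
      intro e
      refine hBp fun b hb => ?_
      have := hmemA ⟨b, hBL hb⟩ hb
      rw [e, Subgroup.mem_bot, QuotientGroup.eq_one_iff] at this
      exact Subgroup.mem_subgroupOf.mp this) (by
      rintro _ ⟨l, hl, rfl⟩
      rw [← map_mul]
      exact (QuotientGroup.eq_one_iff _).mpr
        (Subgroup.mem_subgroupOf.mpr (hsq _ (Subgroup.mem_subgroupOf.mp hl)))) (by
      rw [hcardA, hcardfix]; exact hoff)
  set q := (pc L).relIndex B with hq
  have hindex : (pc L).relIndex L = q * (q * q - 1) := by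
    rw [← hcardA, ← hN.cardX]; rfl
  have hBsq : IsPGroup 2 B := isPGroup_of_two fun b hb => by
    obtain ⟨k, hk⟩ := two_of_mem (pc_isPGroup L) (hsq b hb)
    obtain ⟨i, -, hi⟩ := (Nat.dvd_prime_pow Nat.prime_two).mp
      (show orderOf b ∣ 2 ^ (k + 1) from orderOf_dvd_of_pow_eq_one (by
        rw [pow_succ', pow_mul, pow_two, ← hk, pow_orderOf_eq_one]))
    exact ⟨i, hi⟩
  set R0 := B ⊔ pc L with hR0
  have hR02 : IsPGroup 2 R0 := hBsq.to_sup_of_normal_right' (pc_isPGroup L) (hBL.trans (le_normalizer_pc L))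
  have hR0L : R0 ≤ L := sup_le hBL (pc_le L)
  obtain ⟨R', hR', hR0R'⟩ := exists_sylIn hR02 hR0L
  have hrel : (pc L).relIndex R' ≤ q := by
    have hpl : pc L ≤ R' := pc_le_sylIn hR'
    obtain ⟨k, hk⟩ : ∃ k, (pc L).relIndex R' = 2 ^ k := by
      obtain ⟨a, ha⟩ := IsPGroup.iff_card.mp hR'.2.1
      obtain ⟨i, -, hi⟩ := (Nat.dvd_prime_pow Nat.prime_two).mp (ha ▸ Subgroup.relIndex_dvd_card _ _)
      exact ⟨i, hi⟩
    have hd : (pc L).relIndex R' ∣ q * (q * q - 1) :=
      hindex ▸ ⟨_, (Subgroup.relIndex_mul_relIndex _ _ _ hpl hR'.1).symm⟩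
    have hq2 := hN.two
    rw [hcardA] at hq2
    have hev : 2 ∣ q := by
      obtain ⟨j, hj⟩ := IsPGroup.iff_card.mp hBsq
      obtain ⟨i, -, hi⟩ := (Nat.dvd_prime_pow Nat.prime_two).mp (hj ▸ Subgroup.relIndex_dvd_card (pc L) B)
      rw [hq] at hq2 ⊢
      rw [hi] at hq2 ⊢
      rcases i with _ | i
      · simp at hq2
      · exact dvd_pow_self 2 (by omega)
    have hcop : ((pc L).relIndex R').Coprime (q * q - 1) := by
      rw [hk]
      refine Nat.Coprime.pow_left _ (Nat.coprime_two_left.mpr ?_)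
      refine Nat.Even.sub_odd (Nat.mul_pos (by omega) (by omega)) ?_ odd_one
      exact (even_iff_two_dvd.mpr hev).mul_right q
    exact Nat.le_of_dvd (by omega) (hcop.dvd_of_dvd_mul_right hd)
  have hR0R : R0 = R' := by
    refine Subgroup.eq_of_le_of_card_ge hR0R' ?_
    rw [card_eq_mul_relIndex (pc_le_sylIn hR'), card_eq_mul_relIndex (le_sup_right : pc L ≤ R0)]
    refine Nat.mul_le_mul_left _ (hrel.trans ?_)
    exact Subgroup.relIndex_le_of_le_right (le_sup_left : B ≤ R0) relIndex_ne_zero'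
  have hR0S : SylIn L R0 := hR0R ▸ hR'
  have hq0 : (pc L).relIndex R0 = q :=
    le_antisymm (hR0R ▸ hrel)
      (Subgroup.relIndex_le_of_le_right (le_sup_left : B ≤ R0) relIndex_ne_zero')
  -- the facts for `B ⊔ pc L`
  have hcl : ∀ x : L, (x : G) ∈ R0 → (x : L ⧸ Qs) ∈ A := by
    intro x hx
    have h1 : x ∈ (B.subgroupOf L) ⊔ Qs := by
      rw [hQs, ← Subgroup.subgroupOf_sup hBL (pc_le L)]
      exact Subgroup.mem_subgroupOf.mpr hx
    have h2 := Subgroup.mem_map_of_mem (QuotientGroup.mk' Qs) h1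
    rwa [Subgroup.map_sup, QuotientGroup.map_mk'_self, sup_bot_eq] at h2
  have hC0 : vv L ⊓ centralizer (R0 : Set G) = vv L ⊓ centralizer (B : Set G) := by
    refine le_antisymm (inf_le_inf_left _ (Subgroup.centralizer_le (le_sup_left : B ≤ R0))) ?_
    rintro v ⟨hv, hvc⟩
    have hle : R0 ≤ centralizer ({v} : Set G) := sup_le
      (fun b hb => Subgroup.mem_centralizer_singleton_iff.mpr (Subgroup.mem_centralizer_iff.mp hvc b hb))
      (fun y hy => Subgroup.mem_centralizer_singleton_iff.mpr (vv_comm hv hy))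
    exact ⟨hv, Subgroup.mem_centralizer_iff.mpr fun y hy =>
      Subgroup.mem_centralizer_singleton_iff.mp (hle hy)⟩
  have hfix0 : ∀ x ∈ R0, x ∉ pc L → ∀ v ∈ vv L,
      x * v = v * x → v ∈ centralizer (R0 : Set G) := by
    intro x hx hxp v hv hc
    have hxA := hcl ⟨x, hR0L hx⟩ hx
    have hx1 : ((⟨x, hR0L hx⟩ : L) : L ⧸ Qs) ≠ 1 := fun e =>
      hxp (Subgroup.mem_subgroupOf.mp ((QuotientGroup.eq_one_iff _).mp e))
    have h1 : (⟨v, hv⟩ : vv L) ∈ fixS φ A := by
      rw [← hN.fixeq _ hxA hx1]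
      exact (hfix ⟨x, hR0L hx⟩ ⟨v, hv⟩).mpr hc
    have h2 : v ∈ vv L ⊓ centralizer (B : Set G) := hfixA ▸ ⟨_, h1, rfl⟩
    rw [← hC0] at h2
    exact h2.2
  have hsq0 : ∀ x ∈ R0, x * x ∈ pc L := by
    intro x hx
    have h1 := hN.exp _ (hcl ⟨x, hR0L hx⟩ hx)
    rw [← QuotientGroup.mk_mul, QuotientGroup.eq_one_iff] at h1
    exact Subgroup.mem_subgroupOf.mp h1
  have hsurj0 : ∀ x ∈ R0, x ∉ pc L → ∀ u ∈ vv L, u ∈ centralizer (R0 : Set G) →
      ∃ v ∈ vv L, v * (x * v * x⁻¹) = u := by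
    intro x hx hxp u hu huc
    have hxA := hcl ⟨x, hR0L hx⟩ hx
    have hx1 : ((⟨x, hR0L hx⟩ : L) : L ⧸ Qs) ≠ 1 := fun e =>
      hxp (Subgroup.mem_subgroupOf.mp ((QuotientGroup.eq_one_iff _).mp e))
    obtain ⟨v, hv⟩ := (hact.half_of_no_normal (fun N hN h2 => eq_bot_of_normal_two N hN h2)
      (orderOf_of_sq (hN.exp _ hxA) hx1)).2 ⟨u, hu⟩
      ((hfix ⟨x, hR0L hx⟩ ⟨u, hu⟩).mpr (Subgroup.mem_centralizer_iff.mp huc x hx))
    exact ⟨v, v.2, by simpa [hφ] using congrArg Subtype.val hv⟩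
  refine ⟨⟨hcardA ▸ hN.two, by rw [hN.cardV, hcardA], hindex, ?_, ?_, ?_, ?_, ?_⟩, hR0S⟩
  all_goals intro R hR
  all_goals obtain ⟨g, hg, rfl⟩ := hR0S.conj hR
  all_goals have hgp := cj_eq_of_mem_normalizer (le_normalizer_pc L hg)
  all_goals have hgv := cj_eq_of_mem_normalizer (le_normalizer_vv L hg)
  all_goals have hcent : ∀ v, g⁻¹ * v * g ∈ centralizer (R0 : Set G) ↔ v ∈ centralizer ((cj g R0 : Subgroup G) : Set G) := fun v => by rw [← cj_centralizer, mem_cj]
  · rw [← hq0]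
    conv_lhs => rw [← hgp]
    exact Subgroup.relIndex_map_map_of_injective _ _ (MulAut.conj g).injective
  · intro x hx
    rw [← hgp, mem_cj]
    rw [show g⁻¹ * (x * x) * g = (g⁻¹ * x * g) * (g⁻¹ * x * g) by group]
    exact hsq0 _ (mem_cj.mp hx)
  · rw [show vv L ⊓ centralizer ((cj g R0 : Subgroup G) : Set G) =
      cj g (vv L ⊓ centralizer (R0 : Set G)) by
        ext v
        rw [cj_inf, hgv, Subgroup.mem_inf, Subgroup.mem_inf, mem_cj, hcent],
      card_cj, hC0, ← hcardfix, hN.cardfix, hcardA]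
  · intro x hx hxp v hv hc
    rw [← hcent]
    refine hfix0 _ (mem_cj.mp hx) ?_ _ ?_ ?_
    · rw [← mem_cj, hgp]; exact hxp
    · rw [← mem_cj, hgv]; exact hv
    · calc g⁻¹ * x * g * (g⁻¹ * v * g) = g⁻¹ * (x * v) * g := by group
        _ = g⁻¹ * v * g * (g⁻¹ * x * g) := by rw [hc]; group
  · intro x hx hxp u hu huc
    obtain ⟨v, hv, e⟩ := hsurj0 _ (mem_cj.mp hx) (by rw [← mem_cj, hgp]; exact hxp) (g⁻¹ * u * g)
      (by rw [← mem_cj, hgv]; exact hu) ((hcent u).mpr huc)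
    refine ⟨g * v * g⁻¹, hgv ▸ conj_mem_cj hv, ?_⟩
    calc g * v * g⁻¹ * (x * (g * v * g⁻¹) * x⁻¹)
        = g * (v * ((g⁻¹ * x * g) * v * (g⁻¹ * x * g)⁻¹)) * g⁻¹ := by group
      _ = u := by rw [e]; group

end Cfsg.Agent.CIT
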