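import Cfsg.Agent.CIT.Basic
import Cfsg.Agent.FGS75.CCKer.Final

/-!
The conclusion of the CIT classification, and data from a TI Sylow 2-subgroup.
-/

set_option autoImplicit false

universe u

namespace Cfsg.Agent.CIT

open FGS75.CCKer (Dat nS cz)

/-- The simple CIT-groups whose Sylow 2-subgroups are not TI. -/
def NonTI (G : Type u) [Group G] : Prop :=
  (∃ (F : Type) (_ : Field F) (_ : Fintype F),
    (Fintype.card F = 9 ∨ ((Fintype.card F).Prime ∧ 7 ≤ Fintype.card F ∧
      ∃ k : ℕ, Fintype.card F = 2 ^ k + 1 ∨ Fintype.card F + 1 = 2 ^ k)) ∧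
    Nonempty (G ≃* Matrix.ProjectiveSpecialLinearGroup (Fin 2) F)) ∨
  (∃ (F : Type) (_ : Field F) (_ : Fintype F), Fintype.card F = 4 ∧
    Nonempty (G ≃* Matrix.ProjectiveSpecialLinearGroup (Fin 3) F))

/-- The conclusion of the classification of simple CIT-groups. -/
def Res (G : Type u) [Group G] [Finite G] : Prop :=
  (∃ (S : Sylow 2 G) (z : G), Dat S z) ∨ NonTI G

/-- All non-abelian simple CIT-groups of order less than `n` are classified. -/
def SimpleBelow (n : ℕ) : Prop :=
  ∀ (K : Type u) [Group K] [Finite K], IsSimpleGroup K → ¬ Group.IsSolvable K → IsCIT K →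
    Nat.card K < n → Res K

variable {G : Type u} [Group G] [Finite G]

theorem isSolvable_of_odd_index {H : Subgroup G} [H.Normal] (hH : Group.IsSolvable H)
    (hodd : Odd H.index) : Group.IsSolvable G := by
  haveI := hH
  haveI : Group.IsSolvable (G ⧸ H) :=
    Cfsg.Agent.S0205.result (Subgroup.index_eq_card H ▸ hodd)
  exact Group.isSolvable_of_ker_le_range H.subtype (QuotientGroup.mk' H)
    (by rw [QuotientGroup.ker_mk', Subgroup.range_subtype])

theorem isSolvable_normalizer_sylow (S : Sylow 2 G) :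
    Group.IsSolvable (Subgroup.normalizer ((S : Subgroup G) : Set G)) := by
  haveI : Fact (Nat.Prime 2) := ⟨Nat.prime_two⟩
  set N := Subgroup.normalizer ((S : Subgroup G) : Set G) with hN
  haveI : ((S : Subgroup G).subgroupOf N).Normal :=
    (Subgroup.normal_subgroupOf_iff_le_normalizer Subgroup.le_normalizer).mpr le_rfl
  refine isSolvable_of_odd_index (H := (S : Subgroup G).subgroupOf N) ?_ ?_
  · haveI := S.isPGroup'.isNilpotent
    haveI : Group.IsSolvable (S : Subgroup G) := inferInstance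
    exact Group.isSolvable_of_isSolvable_injective
      (f := (Subgroup.subgroupOfEquivOfLe (Subgroup.le_normalizer (H := (S : Subgroup G)))).toMonoidHom)
      (MulEquiv.injective _)
  · rw [Nat.odd_iff]
    refine Nat.two_dvd_ne_zero.mp fun h2 => ?_
    exact S.not_dvd_index (h2.trans (dvd_of_mul_right_eq _
      (Subgroup.relIndex_mul_index (Subgroup.le_normalizer (H := (S : Subgroup G))))))

theorem exists_central_involution (S : Sylow 2 G) (hns : ¬ Group.IsSolvable G) :
    ∃ z : G, z ∈ (S : Subgroup G) ∧ orderOf z = 2 ∧ ∀ s ∈ (S : Subgroup G), s * z = z * s := by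
  haveI : Fact (Nat.Prime 2) := ⟨Nat.prime_two⟩
  have h2 : 2 ∣ Nat.card (S : Subgroup G) := by
    refine S.dvd_card_of_dvd_card ?_
    by_contra h2
    exact hns (Cfsg.Agent.S0205.result (Nat.odd_iff.mpr (Nat.two_dvd_ne_zero.mp h2)))
  haveI : Nontrivial (S : Subgroup G) :=
    Finite.one_lt_card_iff_nontrivial.mp (Nat.le_of_dvd Nat.card_pos h2)
  haveI := S.isPGroup'.center_nontrivial
  have h2c : 2 ∣ Nat.card (Subgroup.center (S : Subgroup G)) := by
    obtain ⟨k, hk⟩ := IsPGroup.iff_card.mp (S.isPGroup'.to_subgroup (Subgroup.center (S : Subgroup G)))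
    rcases Nat.eq_zero_or_pos k with rfl | hk0
    · have := Finite.one_lt_card (α := Subgroup.center (S : Subgroup G))
      rw [hk] at this
      omega
    · exact hk ▸ dvd_pow_self 2 hk0.ne'
  obtain ⟨⟨⟨z, hzS⟩, hzc⟩, hz⟩ := exists_prime_orderOf_dvd_card' 2 h2c
  rw [Subgroup.orderOf_mk, Subgroup.orderOf_mk] at hz
  exact ⟨z, hzS, hz, fun s hs => congrArg Subtype.val (Subgroup.mem_center_iff.mp hzc ⟨s, hs⟩)⟩

/-- A CIT-group with trivial solvable radical and TI Sylow 2-subgroups. -/
theorem exists_dat_of_ti (hC : IsCIT G) (hns : ¬ Group.IsSolvable G)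
    (hrad : ∀ N : Subgroup G, N.Normal → Group.IsSolvable N → N = ⊥) (S : Sylow 2 G)
    (hti : ∀ g y : G, y ∈ (S : Subgroup G) → y ≠ 1 → g * y * g⁻¹ ∈ (S : Subgroup G) → g ∈ nS S) :
    ∃ z : G, Dat S z := by
  obtain ⟨z, hzS, hz, hzc⟩ := exists_central_involution S hns
  have hz1 : z ≠ 1 := ne_one_of_orderOf hz
  have hcz : cz z = (S : Subgroup G) :=
    S.is_maximal' (hC z hz) fun s hs => Subgroup.mem_centralizer_singleton_iff.mpr (hzc s hs)
  refine ⟨z, hns, hrad, hzS, hz1, sq_of_orderOf hz, hzc, isSolvable_normalizer_sylow S, ?_, ?_,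
    ?_, ?_, ?_⟩
  · rw [hcz]; haveI : Fact (Nat.Prime 2) := ⟨Nat.prime_two⟩; exact S.isPGroup'.isNilpotent
  · rw [hcz]; exact Subgroup.le_normalizer
  · intro m hm c hc
    rw [hcz] at hc ⊢
    exact (Subgroup.mem_normalizer_iff.mp hm c).mp hc
  · intro x hx hx1 c hc
    rw [hcz] at hx ⊢
    have hc' := Subgroup.mem_centralizer_singleton_iff.mp hc
    obtain ⟨k, hk⟩ := hC.two_of_commute (two_of_mem S.isPGroup' hx) hx1 hc'
    exact FGS75.SelfNorm.mem_sylow_of_mem_normalizer (k := k) (by rw [← hk, pow_orderOf_eq_one])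
      (hti c x hx hx1 (by rw [mul_inv_eq_iff_eq_mul.mpr hc']; exact hx))
  · intro g x hx hx1 hgx
    rw [hcz] at hx hgx
    exact hti g x hx hx1 hgx

end Cfsg.Agent.CIT
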