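import Cfsg.Agent.CIT.Local
import Cfsg.Agent.CIT.Res
import Cfsg.Agent.CIT.Act

/-!
A CIT simple group without TI Sylow 2-subgroups has two vertices with a common Sylow 2-subgroup and
no common normal 2-subgroup.
-/

set_option autoImplicit false

namespace Cfsg.Agent.CIT

open Subgroup

variable {G : Type*} [Group G]

/-- A maximal 2-local subgroup which is not closed. -/
structure Vertex (L : Subgroup G) : Prop where
  pc_ne : pc L ≠ ⊥
  eq : normalizer ((pc L : Subgroup G) : Set G) = L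
  nclosed : ¬ Closed L

/-- The basic configuration. -/
structure Pair (L1 L2 R : Subgroup G) : Prop where
  v1 : Vertex L1
  v2 : Vertex L2
  s1 : SylIn L1 R
  s2 : SylIn L2 R
  nocommon : ∀ Q : Subgroup G, Q ≠ ⊥ → Q ≤ R →
    ¬ (L1 ≤ normalizer (Q : Set G) ∧ L2 ≤ normalizer (Q : Set G))
  alt : SylIn ⊤ R ∨ ∃ t : G, t ∉ R ∧ t * t ∈ R ∧ cj t R = R ∧ Two t ∧ cj t L1 = L2 ∧ cj t L2 = L1

variable [Finite G]

theorem Vertex.cj {L : Subgroup G} (h : Vertex L) (g : G) : Vertex (cj g L) := by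
  refine ⟨?_, ?_, fun hc => h.nclosed (closed_cj_iff.mp hc)⟩
  · rw [pc_cj, Ne, cj_eq_bot]; exact h.pc_ne
  · rw [pc_cj, ← cj_normalizer, h.eq]

theorem Pair.cj {L1 L2 R : Subgroup G} (h : Pair L1 L2 R) (g : G) :
    Pair (cj g L1) (cj g L2) (cj g R) := by
  refine ⟨h.v1.cj g, h.v2.cj g, sylIn_cj h.s1, sylIn_cj h.s2, fun Q hQ hQR hn => ?_, ?_⟩
  · refine h.nocommon (CIT.cj g⁻¹ Q) (fun e => hQ (cj_eq_bot.mp e)) ?_ ⟨?_, ?_⟩
    · simpa only [cj_inv_cj] using cj_mono g⁻¹ hQR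
    · rw [← cj_normalizer]; simpa only [cj_inv_cj] using cj_mono g⁻¹ hn.1
    · rw [← cj_normalizer]; simpa only [cj_inv_cj] using cj_mono g⁻¹ hn.2
  · rcases h.alt with hS | ⟨t, h1, h2, h3, h4, h5, h6⟩
    · refine Or.inl ?_
      have := sylIn_cj (g := g) hS
      rwa [show CIT.cj g ⊤ = ⊤ from eq_top_iff.mpr fun x _ => mem_cj.mpr (Subgroup.mem_top _)] at this
    · refine Or.inr ⟨g * t * g⁻¹, ?_, ?_, ?_, h4.conj g, ?_, ?_⟩
      · rw [mem_cj]; group; exact h1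
      · rw [mem_cj, show g⁻¹ * (g * t * g⁻¹ * (g * t * g⁻¹)) * g = t * t by group]; exact h2
      · rw [cj_cj, inv_mul_cancel_right, ← cj_cj, h3]
      · rw [cj_cj, inv_mul_cancel_right, ← cj_cj, h5]
      · rw [cj_cj, inv_mul_cancel_right, ← cj_cj, h6]

theorem Pair.symm {L1 L2 R : Subgroup G} (h : Pair L1 L2 R) : Pair L2 L1 R :=
  ⟨h.v2, h.v1, h.s2, h.s1, fun Q h1 h2 h3 => h.nocommon Q h1 h2 h3.symm,
    h.alt.imp id fun ⟨t, h1, h2, h3, h4, h5, h6⟩ => ⟨t, h1, h2, h3, h4, h6, h5⟩⟩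

theorem Vertex.of_local {L Q : Subgroup G} (hQ : Q ≠ ⊥) (h2 : IsPGroup 2 Q)
    (hL : normalizer (Q : Set G) = L) (hnc : ¬ Closed L)
    (hmax : ∀ Q' : Subgroup G, Q' ≠ ⊥ → Q ≤ Q' → IsPGroup 2 Q' → Q' ≤ L →
      L ≤ normalizer (Q' : Set G) → normalizer (Q' : Set G) ≤ L) : Vertex L := by
  have hQp : Q ≤ pc L := le_pc h2 (hL ▸ Subgroup.le_normalizer) hL.ge
  have hne : pc L ≠ ⊥ := fun e => hQ (le_bot_iff.mp (e ▸ hQp))
  exact ⟨hne, le_antisymm (hmax _ hne hQp (pc_isPGroup L) (pc_le L) (le_normalizer_pc L))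
    (le_normalizer_pc L), hnc⟩

/-- All 2-locals closed forces TI Sylow 2-subgroups. -/
theorem ti_of_closed (h : ∀ Q : Subgroup G, Q ≠ ⊥ → IsPGroup 2 Q → Closed (normalizer (Q : Set G)))
    {A B : Subgroup G} (hA : SylIn ⊤ A) (hB : SylIn ⊤ B) (hne : A ≠ B) : A ⊓ B = ⊥ := by
  by_contra hD
  obtain ⟨⟨A, B⟩, ⟨hA, hB, hne, hD⟩, hmax⟩ :=
    Set.Finite.exists_maximalFor (fun p : Subgroup G × Subgroup G => Nat.card (p.1 ⊓ p.2 : Subgroup G))
      {p : Subgroup G × Subgroup G | SylIn ⊤ p.1 ∧ SylIn ⊤ p.2 ∧ p.1 ≠ p.2 ∧ p.1 ⊓ p.2 ≠ ⊥}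
      (Set.toFinite _) ⟨(A, B), hA, hB, hne, hD⟩
  simp only at hA hB hne hD hmax
  have hD2 : IsPGroup 2 (A ⊓ B : Subgroup G) := hA.2.1.to_le inf_le_left
  obtain ⟨U, hU⟩ := exists_sylIn' (normalizer ((A ⊓ B : Subgroup G) : Set G))
  obtain ⟨C, hC, hUC⟩ := exists_sylIn (L := ⊤) hU.2.1 le_top
  have hmem : ∀ x ∈ normalizer ((A ⊓ B : Subgroup G) : Set G), Two x → x ∈ C := fun x hx h2 =>
    hUC ((h _ hD hD2).mem_sylIn hU hx h2)
  have hDC : A ⊓ B ≤ C := fun x hx =>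
    hmem x (Subgroup.le_normalizer hx) (two_of_mem hD2 hx)
  have key : ∀ X : Subgroup G, SylIn ⊤ X → A ⊓ B ≤ X → A ⊓ B ≠ X → X = C := by
    intro X hX hDX hDX'
    by_contra hXC
    obtain ⟨t, htX, htD, -, htn, ht2⟩ := exists_normalizing hX.2.1 hDX hDX'
    have hlt : A ⊓ B < X ⊓ C := by
      refine lt_of_le_of_ne (le_inf hDX hDC) fun e => htD ?_
      rw [e]
      exact ⟨htX, hmem t (mem_normalizer_of_cj_eq htn) ht2⟩
    have hne' : X ⊓ C ≠ ⊥ := fun e => hD (le_bot_iff.mp (e ▸ hlt.le))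
    have hle := hmax (j := (X, C)) ⟨hX, hC, hXC, hne'⟩ (Subgroup.card_le_of_le hlt.le)
    exact hlt.ne (Subgroup.eq_of_le_of_card_ge hlt.le hle)
  have hA' : A ⊓ B ≠ A := fun e => hne (hA.2.2 B (e ▸ inf_le_right) le_top hB.2.1).symm
  have hB' : A ⊓ B ≠ B := fun e => hne (hB.2.2 A (e ▸ inf_le_left) le_top hA.2.1)
  exact hne ((key A hA inf_le_left hA').trans (key B hB inf_le_right hB').symm)

variable [IsSimpleGroup G] (hC : IsCIT G) (hns : ¬ Group.IsSolvable G)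
include hns

omit hns in
theorem rad_eq_bot_of_simple (hns : ¬ Group.IsSolvable G) (N : Subgroup G) (hN : N.Normal)
    (hNs : Group.IsSolvable N) : N = ⊥ := by
  rcases hN.eq_bot_or_eq_top with h | h
  · exact h
  · haveI := hNs
    exact absurd (Group.isSolvable_of_surjective
      (f := ((MulEquiv.subgroupCongr h).trans Subgroup.topEquiv).toMonoidHom)
      (MulEquiv.surjective _)) hns

omit [Finite G] in
theorem normalizer_ne_top {Q : Subgroup G} [Finite G] (hQ : Q ≠ ⊥) (h2 : IsPGroup 2 Q) :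
    normalizer (Q : Set G) ≠ ⊤ := by
  intro e
  haveI : Fact (Nat.Prime 2) := ⟨Nat.prime_two⟩
  haveI := h2.isNilpotent
  exact hQ (rad_eq_bot_of_simple hns Q (Subgroup.normalizer_eq_top_iff.mp e) inferInstance)

include hC

theorem exists_nonclosed (hnd : ¬ ∃ (S : Sylow 2 G) (z : G), FGS75.CCKer.Dat S z) :
    ∃ Q : Subgroup G, Q ≠ ⊥ ∧ IsPGroup 2 Q ∧ ¬ Closed (normalizer (Q : Set G)) := by
  by_contra hc
  push Not at hc
  haveI : Fact (Nat.Prime 2) := ⟨Nat.prime_two⟩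
  obtain ⟨S⟩ := (inferInstance : Nonempty (Sylow 2 G))
  refine hnd ⟨S, exists_dat_of_ti hC hns (rad_eq_bot_of_simple hns) S fun g y hy hy1 hgy => ?_⟩
  have hS : SylIn ⊤ (S : Subgroup G) :=
    ⟨le_top, S.isPGroup', fun R' h1 _ h3 => S.is_maximal' h3 h1⟩
  have hS' : SylIn ⊤ (CIT.cj g (S : Subgroup G)) := by
    have := sylIn_cj (g := g) hS
    rwa [show CIT.cj g ⊤ = ⊤ from eq_top_iff.mpr fun x _ => mem_cj.mpr (Subgroup.mem_top _)] at this
  refine mem_normalizer_of_cj_eq ?_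
  by_contra hne
  have h1 : g * y * g⁻¹ ∈ CIT.cj g (S : Subgroup G) ⊓ S := ⟨conj_mem_cj hy, hgy⟩
  rw [ti_of_closed hc hS' hS hne, Subgroup.mem_bot] at h1
  exact hy1 (conj_eq_one_iff.mp h1)

/-- A nonclosed maximal local containing a Sylow 2-subgroup does not contain all the normalisers of
its 2-subgroups. -/
theorem exists_normalizer_not_le {M S : Subgroup G} (hM : Vertex M) (hMS : SylIn ⊤ S) (hSM : S ≤ M) :
    ∃ Q : Subgroup G, Q ≠ ⊥ ∧ Q ≤ M ∧ IsPGroup 2 Q ∧ ¬ normalizer (Q : Set G) ≤ M := by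
  classical
  by_contra hc
  push Not at hc
  haveI : Fact (Nat.Prime 2) := ⟨Nat.prime_two⟩
  have hMS' : SylIn M S := ⟨hSM, hMS.2.1, fun R' h1 _ h3 => hMS.2.2 R' h1 le_top h3⟩
  -- every Sylow 2-subgroup containing an involution of `M` lies in `M`
  have hUM : ∀ U : Subgroup G, SylIn ⊤ U → ∀ t ∈ U, t ∈ M → t ≠ 1 → U ≤ M := by
    intro U hU t htU htM ht1
    by_contra hUM
    have hne : U ⊓ M ≠ U := fun e => hUM (e ▸ inf_le_right)
    obtain ⟨x, hxU, hxD, -, hxn, -⟩ := exists_normalizing hU.2.1 inf_le_left hne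
    refine hxD ⟨hxU, hc _ (fun e => ht1 ?_) inf_le_right (hU.2.1.to_le inf_le_left)
      (mem_normalizer_of_cj_eq hxn)⟩
    exact Subgroup.mem_bot.mp (e ▸ (⟨htU, htM⟩ : t ∈ U ⊓ M))
  have hMtop : M ≠ ⊤ := hM.eq ▸ normalizer_ne_top hns hM.pc_ne (pc_isPGroup M)
  obtain ⟨z, hzQ, hz⟩ : ∃ z ∈ pc M, orderOf z = 2 := by
    obtain ⟨x, hx, hx1⟩ : ∃ x ∈ pc M, x ≠ 1 := by
      by_contra hh; push Not at hh
      exact hM.pc_ne ((Subgroup.eq_bot_iff_forall _).mpr hh)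
    obtain ⟨n, hn⟩ := exists_involution_pow (two_of_mem (pc_isPGroup M) hx) hx1
    exact ⟨_, pow_mem hx n, hn⟩
  have hSE : Cfsg.IsStronglyEmbedded M := by
    refine ⟨hMtop, even_iff_two_dvd.mpr (hz ▸ Subgroup.orderOf_dvd_natCard M (pc_le M hzQ)),
      fun g hg => ?_⟩
    rw [Nat.odd_iff]
    refine Nat.two_dvd_ne_zero.mp fun h2 => ?_
    obtain ⟨⟨t, htM, htg⟩, ht⟩ := exists_prime_orderOf_dvd_card' 2 h2
    replace ht : orderOf t = 2 := (Subgroup.orderOf_mk _ _).symm.trans ht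
    have ht1 := ne_one_of_orderOf ht
    have hz2 : IsPGroup 2 (Subgroup.zpowers t) :=
      IsPGroup.of_card (n := 1) (by rw [Nat.card_zpowers, ht, pow_one])
    -- a Sylow subgroup of `gMg⁻¹` containing `t`
    obtain ⟨U, hU, htU⟩ := exists_sylIn (L := CIT.cj g M) hz2 (Subgroup.zpowers_le.mpr htg)
    have hUtop : SylIn ⊤ U := by
      refine hMS.of_card le_top hU.2.1 ?_
      rw [hU.card_eq (sylIn_cj (g := g) hMS'), card_cj]
    have hUM' := hUM U hUtop t (htU (Subgroup.mem_zpowers t)) htM ht1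
    have hW : SylIn M (CIT.cj g⁻¹ U) := by
      simpa only [cj_inv_cj] using sylIn_cj (g := g⁻¹) hU
    have hU' : SylIn M U := ⟨hUM', hU.2.1, fun R' h1 _ h3 => hUtop.2.2 R' h1 le_top h3⟩
    obtain ⟨m, hm, hmU⟩ := hU'.conj hW
    have hgm : g * m ∈ normalizer (U : Set G) :=
      mem_normalizer_of_cj_eq (by rw [← cj_cj, hmU, cj_cj_inv])
    have hUne : U ≠ ⊥ := fun e => ht1 (Subgroup.mem_bot.mp (e ▸ htU (Subgroup.mem_zpowers t)))
    exact hg (by simpa using mul_mem (hc U hUne hUM' hU.2.1 hgm) (inv_mem hm))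
  -- an involution outside `M`
  obtain ⟨u, hu, huM⟩ : ∃ u : G, orderOf u = 2 ∧ u ∉ M := by
    by_contra hh
    push Not at hh
    have hcl : (Subgroup.normalClosure {z}).Normal := inferInstance
    rcases hcl.eq_bot_or_eq_top with h | h
    · exact ne_one_of_orderOf hz
        (Subgroup.mem_bot.mp (h ▸ Subgroup.subset_normalClosure (Set.mem_singleton z)))
    · refine hMtop (eq_top_iff.mpr (h ▸ ?_))
      refine (Subgroup.closure_le _).mpr fun x hx => ?_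
      obtain ⟨y, hy', hy⟩ := Group.mem_conjugatesOfSet_iff.mp hx
      rw [Set.mem_singleton_iff.mp hy'] at hy
      obtain ⟨g, rfl⟩ := isConj_iff.mp hy
      exact hh _ ((orderOf_injective (MulAut.conj g).toMonoidHom (MulAut.conj g).injective z).trans hz)
  -- an involution of `M` outside its 2-core
  set Qs := (pc M).subgroupOf M with hQs
  haveI : Qs.Normal := (Subgroup.normal_subgroupOf_iff_le_normalizer (pc_le M)).mpr (le_normalizer_pc M)
  have hQs2 : IsPGroup 2 Qs :=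
    (pc_isPGroup M).of_injective (Subgroup.subgroupOfEquivOfLe (pc_le M)).toMonoidHom
      (MulEquiv.injective _)
  obtain ⟨x, hxM, hx2, hxQ⟩ : ∃ x ∈ M, Two x ∧ x ∉ pc M := by
    by_contra hh
    push Not at hh
    exact hM.nclosed fun a ha b hb ha2 hb2 =>
      two_of_mem (pc_isPGroup M) (mul_mem (hh a ha ha2) (hh b hb hb2))
  obtain ⟨n, hn⟩ := exists_involution_pow (x := ((⟨x, hxM⟩ : M) : M ⧸ Qs)) (by
    obtain ⟨k, hk⟩ := hx2
    obtain ⟨i, -, hi⟩ := (Nat.dvd_prime_pow Nat.prime_two).mp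
      ((orderOf_map_dvd (QuotientGroup.mk' Qs) (⟨x, hxM⟩ : M)).trans (by rw [Subgroup.orderOf_mk, hk]))
    exact ⟨i, hi⟩) (fun e => hxQ (Subgroup.mem_subgroupOf.mp ((QuotientGroup.eq_one_iff _).mp e)))
  set ab := ((⟨x, hxM⟩ : M) : M ⧸ Qs) ^ n
  obtain ⟨w, hw, hwo, hinv⟩ := Invol.exists_inverted_odd ab hn fun N hNn hN2 hm => by
    haveI := hNn
    have hcom : N.comap (QuotientGroup.mk' Qs) ≤ Qs := by
      intro y hy
      have hp : IsPGroup 2 (N.comap (QuotientGroup.mk' Qs)) :=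
        isPGroup_of_two fun y hy => two_of_mk hQs2 (two_of_mem hN2 hy)
      have hle := le_pc (L := M) (Q := (N.comap (QuotientGroup.mk' Qs)).map M.subtype) (hp.map _)
        (Subgroup.map_subtype_le _) ?_
      · exact Subgroup.mem_subgroupOf.mpr (hle (Subgroup.mem_map_of_mem _ hy))
      · intro m hm
        refine mem_normalizer_of_cj_eq ?_
        ext v
        rw [mem_cj]
        constructor
        · rintro ⟨v', hv', e⟩
          refine ⟨⟨m, hm⟩ * v' * (⟨m, hm⟩ : M)⁻¹, (inferInstance :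
            (N.comap (QuotientGroup.mk' Qs)).Normal).conj_mem v' hv' _, ?_⟩
          rw [map_mul, map_mul, map_inv, e]
          show m * (m⁻¹ * v * m) * m⁻¹ = v
          group
        · rintro ⟨v', hv', rfl⟩
          exact ⟨(⟨m, hm⟩ : M)⁻¹ * v' * ⟨m, hm⟩, by
            have := (inferInstance : (N.comap (QuotientGroup.mk' Qs)).Normal).conj_mem v' hv'
              (⟨m, hm⟩ : M)⁻¹
            rwa [inv_inv] at this, rfl⟩
    obtain ⟨y, hy⟩ := QuotientGroup.mk'_surjective Qs ab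
    have h1 : y ∈ Qs := hcom (Subgroup.mem_comap.mpr (hy.symm ▸ hm))
    exact ne_one_of_orderOf hn (hy ▸ (QuotientGroup.eq_one_iff y).mpr h1)
  obtain ⟨a, ha, hao⟩ := (hC.subgroup M).exists_involution_lift hQs2 hn hw hwo hinv
  rw [← Subgroup.orderOf_coe] at hao
  obtain ⟨d, hd, hda⟩ := (Cfsg.Agent.S1225.result M hSE u hu huM z (a : G) hz (pc_le M hzQ) hao a.2).1
  have : (a : G) ∈ pc M := hda ▸ (Subgroup.mem_normalizer_iff.mp (le_normalizer_pc M hd.1) z).mp hzQ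
  exact ne_one_of_orderOf hn (ha ▸ (QuotientGroup.eq_one_iff a).mpr (Subgroup.mem_subgroupOf.mpr this))

theorem exists_pair (hnd : ¬ ∃ (S : Sylow 2 G) (z : G), FGS75.CCKer.Dat S z) :
    ∃ L1 L2 R : Subgroup G, Pair L1 L2 R := by
  classical
  obtain ⟨Q0, hQ0, hQ02, hQ0c⟩ := exists_nonclosed hC hns hnd
  obtain ⟨R0, hR0⟩ := exists_sylIn' (normalizer (Q0 : Set G))
  -- the largest Sylow 2-subgroup of a nonclosed local, and then the largest local
  obtain ⟨⟨N, R⟩, ⟨Q, hQ, hQ2, hQN, hNc, hR⟩, hmax⟩ :=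
    Set.Finite.exists_maximalFor
      (fun p : Subgroup G × Subgroup G => Nat.card p.2 * (Nat.card G + 1) + Nat.card p.1)
      {p : Subgroup G × Subgroup G | ∃ Q : Subgroup G, Q ≠ ⊥ ∧ IsPGroup 2 Q ∧
        normalizer (Q : Set G) = p.1 ∧ ¬ Closed p.1 ∧ SylIn p.1 p.2} (Set.toFinite _)
      ⟨(normalizer (Q0 : Set G), R0), Q0, hQ0, hQ02, rfl, hQ0c, hR0⟩
  simp only at hQN hNc hR
  have hcard : ∀ Q' : Subgroup G, Q' ≠ ⊥ → IsPGroup 2 Q' → N ≤ normalizer (Q' : Set G) →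
      normalizer (Q' : Set G) = N := by
    intro Q' h1 h2 h3
    obtain ⟨R', hR', hRR'⟩ := exists_sylIn hR.2.1 (hR.1.trans h3)
    have hle : Nat.card R ≤ Nat.card R' := Subgroup.card_le_of_le hRR'
    have hleN := Subgroup.card_le_of_le h3
    have := hmax (j := (normalizer (Q' : Set G), R'))
      ⟨Q', h1, h2, rfl, fun hc => hNc (hc.mono h3), hR'⟩
      (Nat.add_le_add (Nat.mul_le_mul_right _ hle) hleN)
    simp only at this
    refine (Subgroup.eq_of_le_of_card_ge h3 ?_).symm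
    have := Nat.mul_le_mul_right (Nat.card G + 1) hle
    omega
  have hV : Vertex N := Vertex.of_local hQ hQ2 hQN hNc
    fun Q' h1 _ h2 _ h3 => (hcard Q' h1 h2 h3).le
  obtain ⟨S, hS, hRS⟩ := exists_sylIn (L := ⊤) hR.2.1 le_top
  by_cases hRS' : R = S
  swap
  · -- no nonclosed local contains a Sylow subgroup
    obtain ⟨t, -, htR, ht2, htn, htt⟩ := exists_normalizing hS.2.1 hRS hRS'
    have hLL : CIT.cj t (CIT.cj t N) = N := by rw [cj_cj, cj_eq_of_mem (hR.1 ht2)]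
    refine ⟨N, CIT.cj t N, R, hV, hV.cj t, hR, by simpa only [htn] using sylIn_cj (g := t) hR,
      fun Q' h1 h2 ⟨h3, h4⟩ => ?_, Or.inr ⟨t, htR, ht2, htn, htt, rfl, hLL⟩⟩
    have e := hcard Q' h1 (hR.2.1.to_le h2) h3
    rw [e] at h4
    have e2 : CIT.cj t N = N := Subgroup.eq_of_le_of_card_ge h4 (card_cj t N).ge
    have htN : t ∈ N := by
      rw [← hV.eq]
      exact mem_normalizer_of_cj_eq (by rw [← pc_cj, e2])
    exact htR (hR.mem_of_normalizes htt htN (mem_normalizer_of_cj_eq htn))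
  subst hRS'
  by_cases hNR : normalizer (R : Set G) ≤ N
  swap
  · obtain ⟨x, hxn, hxN⟩ := SetLike.not_le_iff_exists.mp hNR
    have hxR := cj_eq_of_mem_normalizer hxn
    refine ⟨N, CIT.cj x N, R, hV, hV.cj x, hR, by simpa only [hxR] using sylIn_cj (g := x) hR,
      fun Q' h1 h2 ⟨h3, h4⟩ => ?_, Or.inl hS⟩
    have e := hcard Q' h1 (hR.2.1.to_le h2) h3
    rw [e] at h4
    have e2 : CIT.cj x N = N := Subgroup.eq_of_le_of_card_ge h4 (card_cj x N).ge
    exact hxN (hV.eq ▸ mem_normalizer_of_cj_eq (by rw [← pc_cj, e2]))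
  obtain ⟨Q1, hQ1, hQ1N, hQ12, hQ1n⟩ := exists_normalizer_not_le hC hns hV hS hR.1
  obtain ⟨R1, hR1⟩ := exists_sylIn' (normalizer (Q1 : Set G) ⊓ N)
  -- the largest Sylow 2-subgroup of `N(Q) ∩ N` with `N(Q) ⊄ N`, then the largest `N(Q)`
  obtain ⟨⟨L, T⟩, ⟨Q', hQ', hQ'N, hQ'2, hQ'L, hLN, hT⟩, hmax'⟩ :=
    Set.Finite.exists_maximalFor
      (fun p : Subgroup G × Subgroup G => Nat.card p.2 * (Nat.card G + 1) + Nat.card p.1)
      {p : Subgroup G × Subgroup G | ∃ Q : Subgroup G, Q ≠ ⊥ ∧ Q ≤ N ∧ IsPGroup 2 Q ∧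
        normalizer (Q : Set G) = p.1 ∧ ¬ p.1 ≤ N ∧ SylIn (p.1 ⊓ N) p.2} (Set.toFinite _)
      ⟨(normalizer (Q1 : Set G), R1), Q1, hQ1, hQ1N, hQ12, rfl, hQ1n, hR1⟩
  simp only at hQ'L hLN hT
  have hTN : T ≤ N := hT.1.trans inf_le_right
  have hmax2 : ∀ P : Subgroup G, P ≠ ⊥ → P ≤ T → L ≤ normalizer (P : Set G) →
      normalizer (P : Set G) = L := by
    intro P h1 h2 h3
    obtain ⟨T', hT', hTT⟩ := exists_sylIn (L := normalizer (P : Set G) ⊓ N) hT.2.1
      (le_inf ((hT.1.trans inf_le_left).trans h3) hTN)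
    have hle : Nat.card T ≤ Nat.card T' := Subgroup.card_le_of_le hTT
    have hleL := Subgroup.card_le_of_le h3
    have := hmax' (j := (normalizer (P : Set G), T'))
      ⟨P, h1, h2.trans hTN, hT.2.1.to_le h2, rfl, fun h => hLN (h3.trans h), hT'⟩
      (Nat.add_le_add (Nat.mul_le_mul_right _ hle) hleL)
    simp only at this
    refine (Subgroup.eq_of_le_of_card_ge h3 ?_).symm
    have := Nat.mul_le_mul_right (Nat.card G + 1) hle
    omega
  have hgrow : ∀ P : Subgroup G, P ≠ ⊥ → P ≤ N → IsPGroup 2 P → ∀ T' : Subgroup G,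
      T ≤ T' → IsPGroup 2 T' → T' ≤ normalizer (P : Set G) → T' ≤ N →
      ¬ normalizer (P : Set G) ≤ N → T' = T := by
    intro P h1 h2 h3 T' h4 h5 h6 h7 h8
    obtain ⟨T'', hT'', hTT⟩ := exists_sylIn (L := normalizer (P : Set G) ⊓ N) h5 (le_inf h6 h7)
    refine (Subgroup.eq_of_le_of_card_ge h4 ?_).symm
    by_contra hc
    push Not at hc
    have hlt : Nat.card T + 1 ≤ Nat.card T'' := lt_of_lt_of_le hc (Subgroup.card_le_of_le hTT)
    have h9 := Nat.mul_le_mul_right (Nat.card G + 1) hlt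
    have h10 : Nat.card L ≤ Nat.card G := Subgroup.card_le_card_group L
    rw [add_mul, one_mul] at h9
    have := hmax' (j := (normalizer (P : Set G), T'')) ⟨P, h1, h2, h3, rfl, h8, hT''⟩
      (by simp only; omega)
    simp only at this
    omega
  have hT1 : T ≠ ⊥ := fun e => hQ' (le_bot_iff.mp (e ▸ (by
    obtain ⟨T0, hT0, hQT0⟩ := exists_sylIn (L := L ⊓ N) hQ'2 (le_inf (hQ'L ▸ Subgroup.le_normalizer) hQ'N)
    have := hT.card_eq hT0
    rw [e, Subgroup.card_bot] at this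
    exact hQT0.trans (Subgroup.eq_bot_of_card_eq _ this.symm).le : Q' ≤ (⊥ : Subgroup G))))
  have hclosed : Closed L → SylIn L T → L ≤ normalizer (T : Set G) := by
    intro hc hTL l hl
    refine mem_normalizer_of_cj_eq (Subgroup.eq_of_le_of_card_ge (fun v hv => ?_) (card_cj l T).ge)
    have hvL : v ∈ L := by rw [← cj_eq_of_mem hl]; exact cj_mono l hTL.1 hv
    exact hc.mem_sylIn hTL hvL (two_of_mem (isPGroup_cj hT.2.1) hv)
  have hVL : ¬ Closed L → SylIn L T → Vertex L := fun hLc hTL =>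
    Vertex.of_local hQ' hQ'2 hQ'L hLc fun P h1 _ h2 h3 h4 =>
      (hmax2 P h1 ((le_pc h2 h3 h4).trans (pc_le_sylIn hTL)) h4).le
  by_cases hTS : SylIn ⊤ T
  · -- `T` is a Sylow subgroup of `G`
    have hTL : SylIn L T :=
      ⟨hT.1.trans inf_le_left, hT.2.1, fun R' h1 _ h3 => hTS.2.2 R' h1 le_top h3⟩
    have hTN' : SylIn N T := ⟨hTN, hT.2.1, fun R' h1 _ h3 => hTS.2.2 R' h1 le_top h3⟩
    obtain ⟨m, hm, hmT⟩ := hR.conj hTN'
    have hNT : normalizer (T : Set G) ≤ N := by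
      rw [← hmT, ← cj_normalizer, ← cj_eq_of_mem hm]
      exact cj_mono m hNR
    have hLc : ¬ Closed L := fun hc => hLN ((hclosed hc hTL).trans hNT)
    refine ⟨N, L, T, hV, hVL hLc hTL, hTN', hTL, fun P h1 h2 ⟨h3, h4⟩ => hLN ?_, Or.inl hTS⟩
    rw [hcard P h1 (hT.2.1.to_le h2) h3] at h4
    exact h4
  · obtain ⟨S', hS', hTS'⟩ := exists_sylIn (L := N) hT.2.1 hTN
    have hne : T ≠ S' := fun e => hTS (by
      refine hS.of_card le_top hT.2.1 ?_
      rw [e, hR.card_eq hS'])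
    obtain ⟨x, hxS, hxT, hxx, hxn, hx2⟩ := exists_normalizing hS'.2.1 hTS' hne
    have hNT : normalizer (T : Set G) ≤ N := by
      by_contra hh
      have := hgrow T hT1 hTN hT.2.1 (T ⊔ Subgroup.zpowers x) le_sup_left
        (hS'.2.1.to_le (sup_le hTS' (Subgroup.zpowers_le.mpr hxS)))
        (sup_le Subgroup.le_normalizer (Subgroup.zpowers_le.mpr (mem_normalizer_of_cj_eq hxn)))
        (sup_le hTN (Subgroup.zpowers_le.mpr (hS'.1 hxS))) hh
      exact hxT (this ▸ Subgroup.mem_sup_right (Subgroup.mem_zpowers x))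
    have hTL : SylIn L T := by
      obtain ⟨T', hT', hTT'⟩ := exists_sylIn (L := L) hT.2.1 (hT.1.trans inf_le_left)
      by_cases e : T = T'
      · exact e ▸ hT'
      obtain ⟨y, hyT, hyT', -, hyn, hy2⟩ := exists_normalizing hT'.2.1 hTT' e
      exact absurd (hT.mem_of_normalizes hy2 ⟨hT'.1 hyT, hNT (mem_normalizer_of_cj_eq hyn)⟩
        (mem_normalizer_of_cj_eq hyn)) hyT'
    have hLc : ¬ Closed L := fun hc => hLN ((hclosed hc hTL).trans hNT)
    have hV' := hVL hLc hTL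
    have hxx' : CIT.cj x (CIT.cj x L) = L := by rw [cj_cj, cj_eq_of_mem (hTL.1 hxx)]
    refine ⟨L, CIT.cj x L, T, hV', hV'.cj x, hTL, by simpa only [hxn] using sylIn_cj (g := x) hTL,
      fun P h1 h2 ⟨h3, h4⟩ => hxT ?_, Or.inr ⟨x, hxT, hxx, hxn, hx2, rfl, hxx'⟩⟩
    rw [hmax2 P h1 h2 h3] at h4
    have e2 : CIT.cj x L = L := Subgroup.eq_of_le_of_card_ge h4 (card_cj x L).ge
    have hxL : x ∈ L := by
      rw [← hV'.eq]
      exact mem_normalizer_of_cj_eq (by rw [← pc_cj, e2])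
    exact hT.mem_of_normalizes hx2 ⟨hxL, hS'.1 hxS⟩ (mem_normalizer_of_cj_eq hxn)

end Cfsg.Agent.CIT
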