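import Cfsg.Agent.CIT.Geo

/-!
Counting involutions: any two points are collinear, so the geometry is a projective plane.
-/

set_option autoImplicit false

universe u

namespace Cfsg.Agent.CIT

open Subgroup

variable {G : Type u} [Group G] [Finite G]

/-- The conjugates of the module of `L`, as a finite set. -/
noncomputable def pts (L : Subgroup G) : Finset (Subgroup G) :=
  (Set.toFinite {V : Subgroup G | IsPt L V}).toFinset

theorem mem_pts {L V : Subgroup G} : V ∈ pts L ↔ IsPt L V := by simp [pts]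

/-- The elements of a subgroup. -/
noncomputable def els (V : Subgroup G) : Finset G := (Set.toFinite (V : Set G)).toFinset

theorem mem_els {V : Subgroup G} {x : G} : x ∈ els V ↔ x ∈ V := by simp [els]

theorem card_els (V : Subgroup G) : (els V).card = Nat.card V := by
  rw [els, ← Set.ncard_eq_toFinset_card (V : Set G), ← Nat.card_coe_set_eq]
  rfl

/-- The conjugates of the module of `L` incident with `W`. -/
noncomputable def onSet (L W : Subgroup G) : Finset (Subgroup G) :=
  (Set.toFinite {V : Subgroup G | IsPt L V ∧ Inc V W}).toFinset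

theorem mem_onSet {L W V : Subgroup G} : V ∈ onSet L W ↔ IsPt L V ∧ Inc V W := by simp [onSet]

variable {L0 L1 R : Subgroup G} {q : ℕ} (g : Geo L0 L1 R q)
include g

theorem Geo.inc_vv : Inc (vv L0) (vv L1) := by
  obtain ⟨z, hz, hz1⟩ := exists_ne_one_of_card (H := vv L0 ⊓ vv L1) (by
    rw [g.conf.card_Z]; exact g.conf.nat0.q2)
  exact ⟨z, hz.1, hz.2, hz1⟩

theorem Geo.sup_mem {V : Subgroup G} (hV : IsPt L0 V) (h : Inc V (vv L1)) :
    SylIn L1 (V ⊔ vv L1) := by
  obtain ⟨k, rfl, hk⟩ := g.frame hV (isPt_vv L1) h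
  have hkL : k ∈ L1 := g.conf.symm.normalizer_vv ▸ mem_normalizer_of_cj_eq hk

  conv => arg 2; rw [← hk, ← cj_sup, g.conf.sup]
  exact g.conf.pair.s2.cj_mem hkL

theorem Geo.sup_inj {V V' : Subgroup G} (hV : IsPt L0 V) (h : Inc V (vv L1)) (hV' : IsPt L0 V')
    (h' : Inc V' (vv L1)) (e : V ⊔ vv L1 = V' ⊔ vv L1) : V = V' := by
  obtain ⟨k, rfl, hk⟩ := g.frame hV (isPt_vv L1) h
  obtain ⟨k', rfl, hk'⟩ := g.frame hV' (isPt_vv L1) h'
  have e1 : cj k R = cj k' R := by
    rw [← g.conf.sup, cj_sup, cj_sup]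
    conv_lhs => rw [hk]
    conv_rhs => rw [hk']
    exact e
  have h2 : cj (k'⁻¹ * k) R = R := by rw [← cj_cj, e1, cj_inv_cj]
  have h3 := cj_eq_of_mem_normalizer (le_normalizer_vv L0 (g.normalizer_R (mem_normalizer_of_cj_eq h2)))
  rw [← cj_cj] at h3
  calc cj k (vv L0) = cj k' (cj k'⁻¹ (cj k (vv L0))) := (cj_cj_inv _ _).symm
    _ = cj k' (vv L0) := by rw [h3]

theorem Geo.card_on_vv : (onSet L0 (vv L1)).card = q + 1 := by
  classical
  rw [← g.conf.nat1.card_sylIn g.cit, ← Nat.card_eq_finsetCard]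
  refine Nat.card_eq_of_bijective
    (fun V => (⟨(V : Subgroup G) ⊔ vv L1, g.sup_mem (mem_onSet.mp V.2).1 (mem_onSet.mp V.2).2⟩ :
      {X : Subgroup G // SylIn L1 X})) ⟨fun V V' e => Subtype.ext ?_, fun X => ?_⟩
  · exact g.sup_inj (mem_onSet.mp V.2).1 (mem_onSet.mp V.2).2 (mem_onSet.mp V'.2).1
      (mem_onSet.mp V'.2).2 (congrArg Subtype.val e)
  · obtain ⟨l, hl, e⟩ := g.conf.pair.s2.conj X.2
    have hl1 := cj_eq_of_mem_normalizer (le_normalizer_vv L1 hl)
    refine ⟨⟨cj l (vv L0), mem_onSet.mpr ⟨(isPt_vv L0).cj' l, hl1 ▸ g.inc_vv.cj' l⟩⟩, Subtype.ext ?_⟩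
    show cj l (vv L0) ⊔ vv L1 = X.1
    conv_lhs => rw [← hl1]
    rw [← cj_sup, g.conf.sup, e]

theorem Geo.card_on {W : Subgroup G} (hW : IsPt L1 W) : (onSet L0 W).card = q + 1 := by
  classical
  obtain ⟨k, rfl⟩ := hW
  rw [← g.card_on_vv]
  refine (Finset.card_bij (fun V _ => cj k V) (fun V hV => ?_)
    (fun V _ V' _ e => by rw [← cj_inv_cj k V, e, cj_inv_cj]) fun V hV => ?_).symm
  · rw [mem_onSet] at hV ⊢
    exact ⟨hV.1.cj' k, hV.2.cj' k⟩
  · rw [mem_onSet] at hV
    refine ⟨cj k⁻¹ V, mem_onSet.mpr ⟨hV.1.cj' _, ?_⟩, cj_cj_inv _ _⟩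
    have := hV.2.cj' k⁻¹
    rwa [cj_inv_cj] at this

theorem Geo.card_diff {V W : Subgroup G} [DecidableEq G] (hV : IsPt L0 V) (hW : IsPt L1 W)
    (h : Inc V W) : (els W \ els V).card = q * q - q := by
  rw [Finset.card_sdiff, card_els, g.symm.card_pt hW,
    show els V ∩ els W = els (V ⊓ W) by ext; simp [mem_els], card_els, g.card_inc hV hW h]

/-- A subgroup of odd order fixing the lines at a point is trivial. -/
theorem Geo.exists_moved {a : G} (ha : Odd (orderOf a)) (ha1 : a ≠ 1) (haL : a ∈ L0) :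
    ∃ X, SylIn L0 X ∧ cj a X ≠ X := by
  by_contra hall
  push Not at hall
  refine g.conf.nat0.not_le_pc g.conf.pair.s1 ?_
  refine g.cit.le_of_trivial_quotient g.conf.pair.s1.2.1 (pc_le_sylIn g.conf.pair.s1) ha ha1
    (fun v hv => (Subgroup.mem_normalizer_iff.mp (le_normalizer_pc L0 haL) v).mp hv) fun r hr => ?_
  have hrL := g.conf.pair.s1.1 hr
  refine ⟨L0.mul_mem (L0.mul_mem (L0.mul_mem haL hrL) (L0.inv_mem haL)) (L0.inv_mem hrL),
    Subgroup.mem_sInf.mpr fun X hX => ?_⟩
  refine SylIn.mem_of_normalizes hX ?_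
    (L0.mul_mem (L0.mul_mem (L0.mul_mem haL hrL) (L0.inv_mem haL)) (L0.inv_mem hrL))
    (mem_normalizer_of_cj_eq ?_)
  · refine two_of_mem g.conf.pair.s1.2.1 (R.mul_mem ?_ (R.inv_mem hr))
    exact (Subgroup.mem_normalizer_iff.mp (mem_normalizer_of_cj_eq (hall R g.conf.pair.s1)) r).mp hr
  · rw [show a * r * a⁻¹ * r⁻¹ = a * (r * (a⁻¹ * r⁻¹)) by group, ← cj_cj, ← cj_cj, ← cj_cj]
    have hY : SylIn L0 (cj r⁻¹ X) := hX.cj_mem (inv_mem hrL)
    have ha' : cj a⁻¹ (cj r⁻¹ X) = cj r⁻¹ X := by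
      conv_lhs => rw [← hall _ hY]
      rw [cj_inv_cj]
    rw [ha', cj_cj_inv, hall X hX]

theorem Geo.mem_L0_of_fix {x : G} (hx : cj x (vv L0) = vv L0) : x ∈ L0 :=
  g.conf.normalizer_vv ▸ mem_normalizer_of_cj_eq hx

/-- Involutions fixing two points force collinearity, so the stabiliser is small. -/
theorem Geo.card_stab_lt (hq : q = 4 ∨ q = 8) {V : Subgroup G} (hV : IsPt L0 V)
    (hne : V ≠ vv L0) (hnc : ∀ W, IsPt L1 W → Inc (vv L0) W → ¬ Inc V W) :
    Nat.card (L0 ⊓ normalizer (V : Set G) : Subgroup G) < q * q - 1 := by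
  classical
  set D := L0 ⊓ normalizer (V : Set G) with hD
  have hqq : 0 < q * q - 1 := by rcases hq with rfl | rfl <;> norm_num
  -- odd order
  have hodd : ∀ t ∈ D, orderOf t ≠ 2 := by
    intro t ht h2
    have ht1 := ne_one_of_orderOf h2
    have ht2 := sq_of_orderOf h2
    have f0 := cj_eq_of_mem_normalizer (le_normalizer_vv L0 ht.1)
    have f1 := cj_eq_of_mem_normalizer ht.2
    obtain ⟨W, hW, htW⟩ := g.symm.exists_pt ht2 ht1
    have line : ∀ U, IsPt L0 U → cj t U = U → Inc U W := by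
      intro U hU hfix
      rcases g.fixed_cases hU ht2 ht1 hfix with h | ⟨W', hW', hi, hW't⟩
      · exact ⟨t, h, htW, ht1⟩
      · exact g.symm.pt_unique hW' hW hW't htW ht1 ▸ hi
    exact hnc W hW (line _ (isPt_vv L0) f0) (line _ hV f1)
  have hcop : Nat.Coprime (Nat.card D) (q * q * q) := by
    have h2 : Nat.Coprime (Nat.card D) 2 := by
      refine ((Nat.prime_two.coprime_iff_not_dvd).mpr fun hdvd => ?_).symm
      haveI : Fact (Nat.Prime 2) := ⟨Nat.prime_two⟩
      obtain ⟨x, hx⟩ := exists_prime_orderOf_dvd_card' 2 hdvd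
      exact hodd x x.2 (by rw [Subgroup.orderOf_coe]; exact hx)
    rcases hq with rfl | rfl
    · exact (Nat.Coprime.pow_right 6 h2)
    · exact (Nat.Coprime.pow_right 9 h2)
  have hdvd : Nat.card D ∣ q * q - 1 := by
    refine hcop.dvd_of_dvd_mul_left ?_
    rw [← g.conf.card_L0]
    exact Subgroup.card_dvd_of_le inf_le_left
  refine lt_of_le_of_ne (Nat.le_of_dvd hqq hdvd) fun heq => ?_
  -- a normal subgroup of order `q - 1` fixes every Sylow subgroup
  have hp : Fact (Nat.Prime (q - 1)) := ⟨by rcases hq with rfl | rfl <;> norm_num⟩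
  haveI := hp
  let Ω := {X : Subgroup G // SylIn L0 X}
  letI : MulAction D Ω :=
    { smul := fun d X => ⟨cj (d : G) X.1, X.2.cj_mem d.2.1⟩
      one_smul := fun X => Subtype.ext (cj_one _)
      mul_smul := fun a b X => Subtype.ext (cj_cj (a : G) (b : G) X.1).symm }
  haveI : Nonempty Ω := ⟨⟨R, g.conf.pair.s1⟩⟩
  have hstab : ∀ X : Ω, Nat.card (MulAction.stabilizer D X) ∣ q - 1 := by
    intro X
    obtain ⟨l, hl, e⟩ := g.conf.pair.s1.conj X.2
    have hdv : Nat.card (MulAction.stabilizer D X) ∣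
        Nat.card (cj l (L0 ⊓ normalizer (R : Set G)) : Subgroup G) := by
      refine Subgroup.card_dvd_of_injective
        ((D.subtype.comp (MulAction.stabilizer D X).subtype).codRestrict _ fun d => ?_) ?_
      · have hd : cj ((d : D) : G) X.1 = X.1 := congrArg Subtype.val (MulAction.mem_stabilizer_iff.mp d.2)
        rw [cj_inf, cj_eq_of_mem hl, cj_normalizer, e]
        exact ⟨(d : D).2.1, mem_normalizer_of_cj_eq hd⟩
      · intro a b hab
        have h := congrArg Subtype.val hab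
        exact Subtype.ext (Subtype.ext h)
    rw [card_cj, g.conf.card_B g.cit] at hdv
    refine Nat.Coprime.dvd_of_dvd_mul_left ?_ hdv
    exact hcop.coprime_dvd_left (Subgroup.card_subgroup_dvd_card _)
  have horb : ∀ X Y : Ω, Y ∈ MulAction.orbit D X := by
    intro X Y
    have h1 := MulAction.index_stabilizer D X
    have h2 := Subgroup.card_mul_index (MulAction.stabilizer D X)
    rw [h1, heq] at h2
    have h3 : Nat.card (MulAction.stabilizer D X) ≤ q - 1 :=
      Nat.le_of_dvd (by rcases hq with rfl | rfl <;> norm_num) (hstab X)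
    have h4 : (MulAction.orbit D X) = Set.univ := by
      refine Set.eq_of_subset_of_ncard_le (Set.subset_univ _) ?_
      rw [Set.ncard_univ, g.conf.nat0.card_sylIn g.cit]
      by_contra hlt
      push Not at hlt
      have h5 := Nat.mul_le_mul h3 (Nat.le_of_lt_succ hlt)
      rw [h2] at h5
      rcases hq with rfl | rfl <;> norm_num at h5
    rw [h4]; exact Set.mem_univ Y
  -- the Sylow `(q-1)`-subgroup is normal
  obtain ⟨P⟩ := (inferInstance : Nonempty (Sylow (q - 1) D))
  haveI hn : (P : Subgroup D).Normal := by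
    have h1 : Nat.card (Sylow (q - 1) D) = 1 := by
      have hmod := card_sylow_modEq_one (q - 1) D
      have hdvd' := P.card_dvd_index
      have hpI := Subgroup.card_mul_index (P : Subgroup D)
      have hPc : q - 1 ∣ Nat.card (P : Subgroup D) := P.dvd_card_of_dvd_card (by
        rw [heq]; rcases hq with rfl | rfl <;> norm_num)
      obtain ⟨c, hc⟩ := hPc
      rw [heq, hc] at hpI
      have hI : (P : Subgroup D).index ∣ q + 1 := by
        refine Dvd.intro_left c ?_
        rcases hq with rfl | rfl <;> norm_num at hpI ⊢ <;> nlinarith [hpI]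
      have hle : Nat.card (Sylow (q - 1) D) ≤ q + 1 := Nat.le_of_dvd (by omega) (hdvd'.trans hI)
      have hd := hdvd'.trans hI
      rcases hq with rfl | rfl
      · rw [Nat.ModEq] at hmod
        norm_num at hmod hle hd ⊢
        interval_cases Nat.card (Sylow 3 D) <;> omega
      · rw [Nat.ModEq] at hmod
        norm_num at hmod hle hd ⊢
        interval_cases Nat.card (Sylow 7 D) <;> omega
    haveI : Subsingleton (Sylow (q - 1) D) := (Nat.card_eq_one_iff_unique.mp h1).1
    exact P.normal_of_subsingleton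
  obtain ⟨x, hx⟩ := exists_prime_orderOf_dvd_card' (G := (P : Subgroup D)) (q - 1)
    (P.dvd_card_of_dvd_card (by rw [heq]; rcases hq with rfl | rfl <;> norm_num))
  -- it fixes some Sylow subgroup
  obtain ⟨X0, hX0⟩ : (MulAction.fixedPoints (P : Subgroup D) Ω).Nonempty := by
    refine P.isPGroup'.nonempty_fixed_point_of_prime_not_dvd_card Ω ?_
    rw [g.conf.nat0.card_sylIn g.cit]
    rcases hq with rfl | rfl <;> norm_num
  have hxodd : Odd (orderOf (((x : D)) : G)) := by
    rw [Subgroup.orderOf_coe, Subgroup.orderOf_coe, hx]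
    exact odd_sub_one g.conf.even_q g.conf.nat0.q2
  obtain ⟨X, hX, hmov⟩ := g.exists_moved (a := ((x : D) : G)) hxodd (by
    intro e
    have : x = 1 := Subtype.ext (Subtype.ext e)
    rw [this, orderOf_one] at hx
    exact hp.out.ne_one hx.symm) (x : D).2.1
  obtain ⟨d, hd⟩ := horb X0 ⟨X, hX⟩
  refine hmov ?_
  have hfix := MulAction.mem_fixedPoints.mp hX0 ⟨_, hn.conj_mem' _ x.2 d⟩
  have h6 : (x : D) • (⟨X, hX⟩ : Ω) = ⟨X, hX⟩ := by
    rw [← hd]
    calc (x : D) • d • X0 = d • ((d⁻¹ * (x : D) * d) • X0) := by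
          rw [smul_smul, smul_smul]; group
      _ = d • X0 := congrArg (d • ·) hfix
  exact congrArg Subtype.val h6

/-- Any two points are collinear. -/
theorem Geo.collinear (hq : q = 4 ∨ q = 8) :
    (∀ V, IsPt L0 V → V ≠ vv L0 → ∃ W, IsPt L1 W ∧ Inc (vv L0) W ∧ Inc V W) ∧
      (pts L0).card = q * q + q + 1 := by
  classical
  haveI : Fintype G := Fintype.ofFinite G
  set V0 := vv L0 with hV0
  have hV0p : IsPt L0 V0 := isPt_vv L0
  let LT : Finset (Subgroup G) := onSet L1 V0
  have hLT : LT.card = q + 1 := g.symm.card_on hV0p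
  have memLT : ∀ W ∈ LT, IsPt L1 W ∧ Inc V0 W := fun W hW =>
    ⟨(mem_onSet.mp hW).1, (mem_onSet.mp hW).2.symm'⟩
  let Col : Finset (Subgroup G) := LT.biUnion fun W => (onSet L0 W).erase V0
  have herase : ∀ W ∈ LT, ((onSet L0 W).erase V0).card = q := fun W hW => by
    rw [Finset.card_erase_of_mem (mem_onSet.mpr ⟨hV0p, (memLT W hW).2⟩), g.card_on (memLT W hW).1,
      Nat.add_sub_cancel]
  have hCol : Col.card = (q + 1) * q := by
    rw [Finset.card_biUnion, Finset.sum_congr rfl herase, Finset.sum_const, hLT, smul_eq_mul]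
    intro W hW W' hW' hne
    rw [Function.onFun, Finset.disjoint_left]
    intro V hV hV'
    rw [Finset.mem_erase, mem_onSet] at hV hV'
    exact hne (g.line_unique hV0p hV.2.1 hV.1.symm (memLT W hW).1 (memLT W' hW').1
      (memLT W hW).2 (memLT W' hW').2 hV.2.2 hV'.2.2)
  have hins : (insert V0 Col).card = 1 + (q + 1) * q := by
    rw [Finset.card_insert_of_notMem, hCol, add_comm]
    simp [Col]
  have hsub : insert V0 Col ⊆ pts L0 := by
    intro V hV
    rw [Finset.mem_insert, Finset.mem_biUnion] at hV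
    rcases hV with rfl | ⟨W, -, hV⟩
    · exact mem_pts.mpr hV0p
    · exact mem_pts.mpr (mem_onSet.mp (Finset.mem_of_mem_erase hV)).1
  let Non : Finset (Subgroup G) := pts L0 \ insert V0 Col
  have hn : (pts L0).card = 1 + (q + 1) * q + Non.card := by
    rw [← hins, add_comm, Finset.card_sdiff_add_card_eq_card hsub]
  -- involutions
  let I : Finset G := Finset.univ.filter fun t => t * t = 1 ∧ t ≠ 1
  have hI : (pts L0).card * (q * q - 1) ≤ I.card := by
    have h1 : ((pts L0).biUnion fun V => (els V).erase 1).card = (pts L0).card * (q * q - 1) := by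
      rw [Finset.card_biUnion, Finset.sum_congr rfl (g := fun _ => q * q - 1) fun V hV => by
        rw [Finset.card_erase_of_mem (mem_els.mpr V.one_mem), card_els, g.card_pt (mem_pts.mp hV)],
        Finset.sum_const, smul_eq_mul]
      intro V hV V' hV' hne
      rw [Function.onFun, Finset.disjoint_left]
      intro t ht ht'
      rw [Finset.mem_erase, mem_els] at ht ht'
      exact hne (g.pt_unique (mem_pts.mp hV) (mem_pts.mp hV') ht.2 ht'.2 ht.1)
    rw [← h1]
    refine Finset.card_le_card fun t ht => ?_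
    obtain ⟨V, hV, ht⟩ := Finset.mem_biUnion.mp ht
    rw [Finset.mem_erase, mem_els] at ht
    simp [I, (mem_pts.mp hV).sq ht.2, ht.1]
  let A1 : Finset G := (els V0).erase 1 ∪ LT.biUnion fun W => els W \ els V0
  let A2 : Finset G := LT.biUnion fun W => ((onSet L0 W).erase V0).biUnion fun V => els V \ els W
  let A3 : Finset G := Non.biUnion fun V => I.filter fun t => cj t V0 = V
  have hcov : I ⊆ A1 ∪ A2 ∪ A3 := by
    intro t ht
    have ht' : t * t = 1 ∧ t ≠ 1 := (Finset.mem_filter.mp ht).2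
    rw [Finset.mem_union, Finset.mem_union]
    by_cases h0 : cj t V0 = V0
    · refine Or.inl (Or.inl ?_)
      rw [Finset.mem_union, Finset.mem_biUnion, Finset.mem_erase, mem_els]
      by_cases hm : t ∈ V0
      · exact Or.inl ⟨ht'.2, hm⟩
      rcases g.fixed_cases hV0p ht'.1 ht'.2 h0 with h | ⟨W, hW, hi, htW⟩
      · exact absurd h hm
      · exact Or.inr ⟨W, mem_onSet.mpr ⟨hW, hi.symm'⟩, by simp [mem_els, htW, hm]⟩
    by_cases hcol : cj t V0 ∈ Col
    · refine Or.inl (Or.inr ?_)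
      obtain ⟨W, hW, hV⟩ := Finset.mem_biUnion.mp hcol
      rw [Finset.mem_erase, mem_onSet] at hV
      obtain ⟨hW1, hW2⟩ := memLT W hW
      have hWfix : cj t W = W := by
        have hi1 : Inc V0 (cj t W) := by
          have := hV.2.2.cj' t
          rwa [cj_cj, ht'.1, cj_one] at this
        exact g.line_unique hV0p hV.2.1 hV.1.symm (hW1.cj' t) hW1 hi1 hW2 (hW2.cj' t) hV.2.2
      have hnW : t ∉ W := fun h => h0 (g.fixes hV0p hW1 hW2 h)
      rcases g.symm.fixed_cases hW1 ht'.1 ht'.2 hWfix with h | ⟨U, hU, hi, htU⟩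
      · exact absurd h hnW
      · refine Finset.mem_biUnion.mpr ⟨W, hW, Finset.mem_biUnion.mpr ⟨U,
          Finset.mem_erase.mpr ⟨fun e => h0 ?_, mem_onSet.mpr ⟨hU, hi.symm'⟩⟩,
          by simp [mem_els, htU, hnW]⟩⟩
        exact cj_eq_of_mem (e ▸ htU : t ∈ V0)
    · refine Or.inr (Finset.mem_biUnion.mpr ⟨cj t V0, ?_, Finset.mem_filter.mpr ⟨ht, rfl⟩⟩)
      exact Finset.mem_sdiff.mpr ⟨mem_pts.mpr (hV0p.cj' t), by simp [h0, hcol]⟩
  have hA1 : A1.card ≤ (q * q - 1) + (q + 1) * (q * q - q) := by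
    refine (Finset.card_union_le _ _).trans (Nat.add_le_add ?_ ?_)
    · rw [Finset.card_erase_of_mem (mem_els.mpr V0.one_mem), card_els, g.card_pt hV0p]
    · exact hLT ▸ Finset.card_biUnion_le_card_mul _ _ _
        fun W hW => (g.card_diff hV0p (memLT W hW).1 (memLT W hW).2).le
  have hA2 : A2.card ≤ (q + 1) * (q * (q * q - q)) := by
    refine hLT ▸ Finset.card_biUnion_le_card_mul _ _ _ fun W hW => ?_
    refine le_of_le_of_eq (Finset.card_biUnion_le_card_mul _ _ (q * q - q) fun V hV => ?_)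
      (by rw [herase W hW])
    rw [Finset.mem_erase, mem_onSet] at hV
    exact (g.symm.card_diff (memLT W hW).1 hV.2.1 hV.2.2.symm').le
  have hA3 : A3.card ≤ Non.card * (q * q - 2) := by
    refine Finset.card_biUnion_le_card_mul _ _ _ fun V hV => ?_
    rw [Finset.mem_sdiff, Finset.mem_insert, mem_pts] at hV
    rcases (I.filter fun t => cj t V0 = V).eq_empty_or_nonempty with e | ⟨t0, ht0⟩
    · simp [e]
    have hlt := g.card_stab_lt hq hV.1 (fun e => hV.2 (Or.inl e)) fun W hW h1 h2 =>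
      hV.2 (Or.inr (Finset.mem_biUnion.mpr ⟨W, mem_onSet.mpr ⟨hW, h1.symm'⟩,
        Finset.mem_erase.mpr ⟨fun e => hV.2 (Or.inl e), mem_onSet.mpr ⟨hV.1, h2⟩⟩⟩))
    simp only [I, Finset.mem_filter, Finset.mem_univ, true_and] at ht0
    have hback : ∀ t, t * t = 1 → cj t V0 = V → cj t V = V0 := fun t h1 h2 => by
      rw [← h2, cj_cj, h1, cj_one]
    refine le_trans (Finset.card_le_card_of_injOn (fun t => t0 * t) ?_
      (fun a _ b _ h => mul_left_cancel h)) (show (els (L0 ⊓ normalizer (V : Set G))).card ≤ _ by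
        rw [card_els]; omega)
    intro t ht
    simp only [I, Finset.coe_filter, Finset.mem_filter, Finset.mem_univ, true_and,
      Set.mem_setOf_eq] at ht
    rw [Finset.mem_coe, mem_els]
    refine ⟨g.mem_L0_of_fix ?_, mem_normalizer_of_cj_eq ?_⟩
    · rw [← cj_cj, ht.2]; exact hback t0 ht0.1.1 ht0.2
    · rw [← cj_cj, hback t ht.1.1 ht.2, ht0.2]
  have hIle : I.card ≤ A1.card + A2.card + A3.card := (Finset.card_le_card hcov).trans
    ((Finset.card_union_le _ _).trans (Nat.add_le_add_right (Finset.card_union_le _ _) _))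
  have hm : Non.card = 0 := by
    rcases hq with rfl | rfl <;> omega
  refine ⟨fun V hV hne => ?_, by rw [hn, hm]; ring⟩
  have hVc : V ∈ insert V0 Col := by
    by_contra hc
    exact Finset.notMem_empty V (Finset.card_eq_zero.mp hm ▸ Finset.mem_sdiff.mpr ⟨mem_pts.mpr hV, hc⟩)
  obtain ⟨W, hW, hVW⟩ := Finset.mem_biUnion.mp ((Finset.mem_insert.mp hVc).resolve_left hne)
  exact ⟨W, (memLT W hW).1, (memLT W hW).2, (mem_onSet.mp (Finset.mem_of_mem_erase hVW)).2⟩

end Cfsg.Agent.CIT
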