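import Cfsg.Agent.CIT.ZField
import Cfsg.Agent.CIT.Pair
import Cfsg.Agent.Invol.IndexTwo

/-!
For `q ≥ 4` the common Sylow subgroup of the two vertices is a Sylow subgroup of the group.
-/

set_option autoImplicit false

universe u

namespace Cfsg.Agent.CIT

open Subgroup

variable {G : Type u} [Group G] [Finite G] {L0 L1 R H : Subgroup G} {q : ℕ} {w0 w1 : G}

theorem Conf.card_B (h : Conf L0 L1 R q) (hC : IsCIT G) :
    Nat.card (L0 ⊓ normalizer (R : Set G) : Subgroup G) = q * q * q * (q - 1) := by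
  classical
  have hs := h.pair.s1
  let Ω := {X : Subgroup G // SylIn L0 X}
  letI : MulAction L0 Ω :=
    { smul := fun l X => ⟨cj (l : G) X.1, X.2.cj_mem l.2⟩
      one_smul := fun X => Subtype.ext (cj_one _)
      mul_smul := fun a b X => Subtype.ext (cj_cj (a : G) (b : G) X.1).symm }
  have horb : MulAction.orbit L0 (⟨R, hs⟩ : Ω) = Set.univ := by
    refine Set.eq_univ_of_forall fun X => ?_
    obtain ⟨l, hl, e⟩ := hs.conj X.2
    exact ⟨⟨l, hl⟩, Subtype.ext e⟩
  have hst : MulAction.stabilizer L0 (⟨R, hs⟩ : Ω) =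
      (L0 ⊓ normalizer (R : Set G)).subgroupOf L0 := by
    ext l
    rw [MulAction.mem_stabilizer_iff, Subgroup.mem_subgroupOf]
    exact ⟨fun e => ⟨l.2, mem_normalizer_of_cj_eq (congrArg Subtype.val e)⟩,
      fun e => Subtype.ext (cj_eq_of_mem_normalizer e.2)⟩
  have h1 := MulAction.index_stabilizer L0 (⟨R, hs⟩ : Ω)
  rw [horb, Set.ncard_univ, h.nat0.card_sylIn hC, hst] at h1
  have h2 := Subgroup.card_mul_index ((L0 ⊓ normalizer (R : Set G)).subgroupOf L0)
  rw [h1, Nat.card_congr (Subgroup.subgroupOfEquivOfLe inf_le_left).toEquiv, h.card_L0] at h2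
  have hq := h.nat0.q2
  refine Nat.eq_of_mul_eq_mul_right (show 0 < q + 1 by omega) (h2.trans ?_)
  obtain ⟨k, rfl⟩ : ∃ k, q = k + 1 := ⟨q - 1, by omega⟩
  rw [Nat.add_sub_cancel, show (k + 1) * (k + 1) - 1 = k * (k + 1 + 1) by
    have : (k + 1) * (k + 1) = k * (k + 1 + 1) + 1 := by ring
    omega]
  ring

theorem Torus.mem_R_inf (h : Torus L0 L1 R q H w0 w1) (hc : Conf L0 L1 R q) {a : G} (ha : a ∈ H)
    (haR : a ∈ R) : a = 1 :=
  (two_of_mem hc.pair.s1.2.1 haR).eq_one_of_odd (h.odd hc ha)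

theorem Torus.decomp (h : Torus L0 L1 R q H w0 w1) (hc : Conf L0 L1 R q) (hC : IsCIT G) {x : G}
    (hx : x ∈ L0) (hxR : x ∈ normalizer (R : Set G)) : ∃ r ∈ R, ∃ a ∈ H, r * a = x := by
  let f : R × H → (L0 ⊓ normalizer (R : Set G) : Subgroup G) := fun p =>
    ⟨(p.1 : G) * p.2, mul_mem ⟨hc.pair.s1.1 p.1.2, Subgroup.le_normalizer p.1.2⟩
      ⟨h.t0.le p.2.2, h.t0.nor p.2.2⟩⟩
  have hinj : Function.Injective f := by
    rintro ⟨r, a⟩ ⟨r', a'⟩ e
    have e' : (r : G) * a = r' * a' := congrArg Subtype.val e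
    have hm : (a : G) * (a' : G)⁻¹ ∈ R := by
      rw [show (a : G) * (a' : G)⁻¹ = (r : G)⁻¹ * r' from by
        rw [eq_inv_mul_iff_mul_eq, ← mul_assoc, e', mul_inv_cancel_right]]
      exact mul_mem (inv_mem r.2) r'.2
    have h1 := h.mem_R_inf hc (mul_mem a.2 (inv_mem a'.2)) hm
    rw [mul_inv_eq_one] at h1
    exact Prod.ext (Subtype.ext (by rw [h1] at e'; exact mul_right_cancel e')) (Subtype.ext h1)
  obtain ⟨⟨r, a⟩, e⟩ := (hinj.bijective_of_nat_card_le (by
    rw [hc.card_B hC, Nat.card_prod, hc.card_R, h.t0.card])).2 ⟨x, hx, hxR⟩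
  exact ⟨r, r.2, a, a.2, congrArg Subtype.val e⟩

/-- An elementary abelian group inside `R` lies in one of the modules. -/
theorem Conf.le_or_le (h : Conf L0 L1 R q) {E : Subgroup G} (hE : E ≤ R)
    (hexp : ∀ e ∈ E, e * e = 1) : E ≤ vv L0 ∨ E ≤ vv L1 := by
  by_contra hc
  push Not at hc
  obtain ⟨a, ha, ha0⟩ := SetLike.not_le_iff_exists.mp hc.1
  obtain ⟨b, hb, hb1⟩ := SetLike.not_le_iff_exists.mp hc.2
  have ha1 := (h.involution_mem (hE ha) (hexp a ha)).resolve_left ha0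
  have hb0 := (h.involution_mem (hE hb) (hexp b hb)).resolve_right hb1
  rcases h.involution_mem (hE (mul_mem ha hb)) (hexp _ (mul_mem ha hb)) with h' | h'
  · exact ha0 ((Subgroup.mul_mem_cancel_right _ hb0).mp h')
  · exact hb1 ((Subgroup.mul_mem_cancel_left _ ha1).mp h')

theorem sq_cj {V : Subgroup G} (hV : ∀ v ∈ V, v * v = 1) {g e : G} (he : e ∈ cj g V) : e * e = 1 := by
  rw [mem_cj] at he
  calc e * e = g * ((g⁻¹ * e * g) * (g⁻¹ * e * g)) * g⁻¹ := by group
    _ = 1 := by rw [hV _ he]; group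

/-- The swapping involution. -/
structure Swap (L0 L1 R H : Subgroup G) (t : G) : Prop where
  sq : t * t = 1
  nmem : t ∉ R
  nor : cj t R = R
  s01 : cj t L0 = L1
  s10 : cj t L1 = L0
  inv : ∀ a ∈ H, t * a * t⁻¹ = a⁻¹

theorem Torus.exists_swap (h : Torus L0 L1 R q H w0 w1) (hc : Conf L0 L1 R q) (hC : IsCIT G)
    (hq : 4 ≤ q) {t : G} (htR : t ∉ R) (ht2 : t * t ∈ R) (htn : cj t R = R) (htt : Two t)
    (h01 : cj t L0 = L1) (h10 : cj t L1 = L0) : ∃ t', Swap L0 L1 R H t' := by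
  haveI : Fact (Nat.Prime 2) := ⟨Nat.prime_two⟩
  obtain ⟨a0, ha0, ha01⟩ := exists_ne_one_of_card (H := H) (by rw [h.t0.card]; omega)
  have htB : ∀ a ∈ H, t * a * t⁻¹ ∈ L0 ∧ t * a * t⁻¹ ∈ normalizer (R : Set G) := by
    intro a ha
    refine ⟨h10 ▸ conj_mem_cj (h.t1.le ha), ?_⟩
    have := conj_mem_cj (g := t) (h.t0.nor ha)
    rwa [cj_normalizer, htn] at this
  obtain ⟨r, hr, b, hb, hrb⟩ := h.decomp hc hC (htB a0 ha0).1 (htB a0 ha0).2
  have hb1 : b ≠ 1 := by
    intro e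
    rw [e, mul_one] at hrb
    have h1 : t⁻¹ * r * t ∈ R := mem_cj.mp (by rw [htn]; exact hr)
    rw [hrb, show t⁻¹ * (t * a0 * t⁻¹) * t = a0 by group] at h1
    exact ha01 (h.mem_R_inf hc ha0 h1)
  obtain ⟨y, hy, hy'⟩ := hC.conj_of_coset hc.pair.s1.2.1 (h.odd hc hb) hb1
    (fun x hx => (Subgroup.mem_normalizer_iff.mp (h.t0.nor hb) x).mp hx) hr
  rw [hrb] at hy'
  set t' := y⁻¹ * t with ht'
  have htR' : t' ∉ R := fun hm => htR (by simpa [ht'] using mul_mem hy hm)
  have hn' : cj t' R = R := by rw [ht', ← cj_cj, htn, cj_eq_of_mem (inv_mem hy)]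
  have h01' : cj t' L0 = L1 := by rw [ht', ← cj_cj, h01, cj_eq_of_mem (inv_mem (hc.pair.s2.1 hy))]
  have h10' : cj t' L1 = L0 := by rw [ht', ← cj_cj, h10, cj_eq_of_mem (inv_mem (hc.pair.s1.1 hy))]
  have hfix : t' * a0 * t'⁻¹ = b := by
    rw [ht', show y⁻¹ * t * a0 * (y⁻¹ * t)⁻¹ = y⁻¹ * (t * a0 * t⁻¹) * y by group, ← hy']
    group
  have hH : ∀ a ∈ H, t' * a * t'⁻¹ ∈ H := by
    intro a ha
    have hm : t' * a * t'⁻¹ ∈ L0 ∧ t' * a * t'⁻¹ ∈ normalizer (R : Set G) := by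
      refine ⟨h10' ▸ conj_mem_cj (h.t1.le ha), ?_⟩
      have := conj_mem_cj (g := t') (h.t0.nor ha)
      rwa [cj_normalizer, hn'] at this
    obtain ⟨r', hr', a', ha', e⟩ := h.decomp hc hC hm.1 hm.2
    have hcm : b * (t' * a * t'⁻¹) = t' * a * t'⁻¹ * b := by
      rw [← hfix, show t' * a0 * t'⁻¹ * (t' * a * t'⁻¹) = t' * (a0 * a) * t'⁻¹ by group,
        h.t0.comm a0 ha0 a ha]
      group
    rw [← e] at hcm ⊢
    have h1 : b * r' * b⁻¹ = r' := by
      rw [mul_inv_eq_iff_eq_mul]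
      calc b * r' = b * (r' * a') * a'⁻¹ := by group
        _ = r' * (a' * b) * a'⁻¹ := by rw [hcm]; group
        _ = r' * b := by rw [h.t0.comm a' ha' b hb]; group
    rw [hC.fpf (h.odd hc hb) hb1 (two_of_mem hc.pair.s1.2.1 hr') h1, one_mul]
    exact ha'
  have ht'2 : t' * t' ∈ R := by
    rw [ht', show y⁻¹ * t * (y⁻¹ * t) = y⁻¹ * (t * y⁻¹ * t⁻¹) * (t * t) by group]
    exact mul_mem (mul_mem (inv_mem hy) (htn ▸ conj_mem_cj (inv_mem hy))) ht2
  have hsq : t' * t' = 1 := by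
    refine hC.fpf (h.odd hc ha0) ha01 (two_of_mem hc.pair.s1.2.1 ht'2) ?_
    have h1 : (t' * t') * a0 * (t' * t')⁻¹ * a0⁻¹ ∈ H := by
      rw [show t' * t' * a0 * (t' * t')⁻¹ = t' * (t' * a0 * t'⁻¹) * t'⁻¹ by group]
      exact mul_mem (hH _ (hH _ ha0)) (inv_mem ha0)
    have h2 : (t' * t') * a0 * (t' * t')⁻¹ * a0⁻¹ ∈ R := by
      rw [show t' * t' * a0 * (t' * t')⁻¹ * a0⁻¹ = t' * t' * (a0 * (t' * t')⁻¹ * a0⁻¹) by group]
      exact mul_mem ht'2 ((Subgroup.mem_normalizer_iff.mp (h.t0.nor ha0) _).mp (inv_mem ht'2))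
    have h3 := h.mem_R_inf hc h1 h2
    rw [mul_inv_eq_one, mul_inv_eq_iff_eq_mul] at h3
    rw [mul_inv_eq_iff_eq_mul]
    exact h3.symm
  refine ⟨t', hsq, htR', hn', h01', h10', FGS75.SelfNorm.inverts_of_fpf hsq hH fun a ha hca => ?_⟩
  exact hC.eq_one_of_commute (two_of_sq hsq) (fun e => htR' (e ▸ R.one_mem)) (h.odd hc ha) hca.symm

variable {t : G}

theorem Swap.cj_Z (hs : Swap L0 L1 R H t) : cj t (vv L0 ⊓ vv L1) = vv L0 ⊓ vv L1 := by
  rw [cj_inf, ← vv_cj, ← vv_cj, hs.s01, hs.s10, inf_comm]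

theorem Swap.exists_fixed (hs : Swap L0 L1 R H t) (hc : Conf L0 L1 R q) :
    ∃ z ∈ vv L0 ⊓ vv L1, z ≠ 1 ∧ t * z * t⁻¹ = z := by
  obtain ⟨z, hz, hz1⟩ := exists_ne_one_of_card (H := vv L0 ⊓ vv L1) (by
    rw [hc.card_Z]; exact hc.nat0.q2)
  by_cases hfix : t * z * t⁻¹ = z
  · exact ⟨z, hz, hz1, hfix⟩
  have hz' : t * z * t⁻¹ ∈ vv L0 ⊓ vv L1 := hs.cj_Z ▸ conj_mem_cj hz
  refine ⟨z * (t * z * t⁻¹), mul_mem hz hz', fun e => hfix ?_, ?_⟩
  · rw [eq_inv_of_mul_eq_one_right e, inv_of_sq (vv_sq hz.1)]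
  · calc t * (z * (t * z * t⁻¹)) * t⁻¹ = (t * z * t⁻¹) * ((t * t) * z * (t * t)⁻¹) := by group
      _ = z * (t * z * t⁻¹) := by rw [hs.sq, inv_one, mul_one, one_mul, vv_comm hz.1 (vv_le L0 hz'.1)]

/-- `t` induces inversion on the field, so `q = 4` and it fixes only one involution of `Z`. -/
theorem Swap.q_eq (hs : Swap L0 L1 R H t) (hc : Conf L0 L1 R q) (h : Torus L0 L1 R q H w0 w1)
    (hC : IsCIT G) (hq : 4 ≤ q) {z0 : G} (hz0 : z0 ∈ vv L0 ⊓ vv L1) (hz01 : z0 ≠ 1)
    (hfix : t * z0 * t⁻¹ = z0) :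
    q = 4 ∧ ∀ z ∈ vv L0 ⊓ vv L1, t * z * t⁻¹ = z → z = 1 ∨ z = z0 := by
  classical
  obtain ⟨F, iF, ι, μ, hF, m, hι1⟩ := exists_zmap hc h hC hz0 hz01
  haveI : Finite F := Nat.finite_of_card_ne_zero (by omega)
  haveI : Fintype F := Fintype.ofFinite F
  haveI : CharP F 2 := CharTwo.of_one_ne_zero_of_two_eq_zero one_ne_zero (by
    rw [← one_add_one_eq_two]; exact m.char_two 1)
  have hinv : ∀ c : F, c ≠ 0 → t * ι c * t⁻¹ = ι c⁻¹ := by
    intro c hc0
    have hH := m.muH c hc0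
    have h1 := m.smul c hc0 1
    rw [mul_one, hι1] at h1
    have h2 := m.smul c hc0 c⁻¹
    rw [mul_inv_cancel₀ hc0, hι1] at h2
    rw [← h1, show t * (μ c * z0 * (μ c)⁻¹) * t⁻¹ =
      (t * μ c * t⁻¹) * (t * z0 * t⁻¹) * (t * μ c * t⁻¹)⁻¹ by group, hs.inv _ hH, hfix, ← h2]
    group
  have hadd : ∀ c : F, c ≠ 0 → c + 1 ≠ 0 → c * c + c + 1 = 0 := by
    intro c h0 h1
    have e : (c + 1)⁻¹ = c⁻¹ + 1 := by
      apply m.inj
      rw [← hinv _ h1, m.add, m.add, ← hinv _ h0, hι1]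
      calc t * (ι c * z0) * t⁻¹ = (t * ι c * t⁻¹) * (t * z0 * t⁻¹) := by group
        _ = _ := by rw [hfix]
    field_simp at e
    have h2' : (2 : F) = 0 := CharTwo.two_eq_zero
    grind
  have hcard : Fintype.card F = q := by rw [← Nat.card_eq_fintype_card]; exact hF
  let P : Polynomial F :=
    Polynomial.X * (Polynomial.X + 1) * (Polynomial.X * Polynomial.X + Polynomial.X + 1)
  have hdeg : P.natDegree = 4 := by
    simp only [P]; compute_degree!
  have hle := Polynomial.card_le_degree_of_subset_roots (p := P) (Z := Finset.univ) fun x _ => by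
    rw [Polynomial.mem_roots (fun e => by rw [e] at hdeg; simp at hdeg), Polynomial.IsRoot.def]
    simp only [P, Polynomial.eval_mul, Polynomial.eval_add, Polynomial.eval_X, Polynomial.eval_one]
    by_cases h0 : x = 0
    · rw [h0]; ring
    by_cases h1 : x + 1 = 0
    · rw [h1]; ring
    rw [hadd x h0 h1, mul_zero]
  rw [Finset.card_univ, hcard, hdeg] at hle
  refine ⟨by omega, fun z hz hzfix => ?_⟩
  obtain ⟨c, rfl⟩ := m.surj z hz
  by_cases h0 : c = 0
  · exact Or.inl (h0 ▸ m.zero)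
  refine Or.inr ?_
  have h1 : c = c⁻¹ := m.inj (hzfix.symm.trans (hinv c h0))
  have h2 : c * c = 1 := by nth_rw 2 [h1]; exact mul_inv_cancel₀ h0
  have h3 : (c + 1) * (c + 1) = 0 := by
    have h2' : (2 : F) = 0 := CharTwo.two_eq_zero
    linear_combination h2 + (c + 1) * h2'
  rw [CharTwo.add_eq_zero.mp (mul_self_eq_zero.mp h3), hι1]

theorem SylIn.two_mem {L S : Subgroup G} (h : SylIn L S) : ∀ x ∈ S, Two x := fun _ hx => two_of_mem h.2.1 hx

theorem Torus.sylow (h : Torus L0 L1 R q H w0 w1) (hc : Conf L0 L1 R q) [IsSimpleGroup G]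
    (hC : IsCIT G) (hns : ¬ Group.IsSolvable G) (hq : 4 ≤ q) : SylIn ⊤ R := by
  classical
  haveI : Fact (Nat.Prime 2) := ⟨Nat.prime_two⟩
  rcases hc.pair.alt with hS | ⟨t0, ht1, ht2, ht3, ht4, ht5, ht6⟩
  · exact hS
  exfalso
  obtain ⟨t, hs⟩ := h.exists_swap hc hC hq ht1 ht2 ht3 ht4 ht5 ht6
  obtain ⟨z0, hz0, hz01, hfix⟩ := hs.exists_fixed hc
  obtain ⟨hq4, honly⟩ := hs.q_eq hc h hC hq hz0 hz01 hfix
  subst hq4
  -- the overgroup
  let T : Subgroup G :=
    { carrier := {x | x ∈ R ∨ x * t ∈ R}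
      one_mem' := Or.inl R.one_mem
      mul_mem' := fun {x y} hx hy => by
        have hn : ∀ r ∈ R, t * r * t ∈ R := fun r hr => by
          have h1 := conj_mem_cj (g := t) hr
          rwa [hs.nor, inv_of_sq hs.sq] at h1
        rcases hx with hx | hx <;> rcases hy with hy | hy
        · exact Or.inl (mul_mem hx hy)
        · exact Or.inr (by rw [mul_assoc]; exact mul_mem hx hy)
        · refine Or.inr ?_
          rw [show x * y * t = (x * t) * (t⁻¹ * y * t) by group, inv_of_sq hs.sq]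
          exact mul_mem hx (hn y hy)
        · refine Or.inl ?_
          have e : x * y = (x * t) * (t * (y * t) * t) := by
            calc x * y = x * (t * t) * y * (t * t) := by rw [hs.sq, mul_one, mul_one]
              _ = (x * t) * (t * (y * t) * t) := by group
          rw [e]
          exact mul_mem hx (hn _ hy)
      inv_mem' := fun {x} hx => by
        rcases hx with hx | hx
        · exact Or.inl (inv_mem hx)
        · refine Or.inr ?_
          have h1 := conj_mem_cj (g := t) (inv_mem hx)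
          rw [hs.nor, show t * (x * t)⁻¹ * t⁻¹ = t * (t⁻¹ * x⁻¹) * t⁻¹ by group,
            mul_inv_cancel_left, inv_of_sq hs.sq] at h1
          exact h1 }
  have hRT : R ≤ T := fun x hx => Or.inl hx
  have htT : t ∈ T := Or.inr (by rw [hs.sq]; exact R.one_mem)
  have hT2 : IsPGroup 2 T := by
    refine isPGroup_of_two fun x hx => ?_
    have h2 : x * x ∈ R := by
      rcases hx with hx | hx
      · exact mul_mem hx hx
      · have h1 := conj_mem_cj (g := t) hx
        rw [hs.nor] at h1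
        have e : x * x = (x * t) * (t * (x * t) * t⁻¹) := by
          calc x * x = x * (t * t) * x := by rw [hs.sq, mul_one]
            _ = (x * t) * (t * (x * t) * t⁻¹) := by group
        rw [e]; exact mul_mem hx h1
    obtain ⟨k, hk⟩ := two_of_mem hc.pair.s1.2.1 h2
    obtain ⟨i, -, hi⟩ := (Nat.dvd_prime_pow Nat.prime_two).mp
      (show orderOf x ∣ 2 ^ (k + 1) from orderOf_dvd_of_pow_eq_one (by
        rw [pow_succ', pow_mul, pow_two, ← hk, pow_orderOf_eq_one]))
    exact ⟨i, hi⟩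
  have hswap : ∀ {v : G}, v ∈ vv L0 → t * v * t⁻¹ ∈ vv L1 := fun {v} hv => by
    have := conj_mem_cj (g := t) hv
    rwa [← vv_cj, hs.s01] at this
  have hswap' : ∀ {v : G}, v ∈ vv L1 → t * v * t⁻¹ ∈ vv L0 := fun {v} hv => by
    have := conj_mem_cj (g := t) hv
    rwa [← vv_cj, hs.s10] at this
  -- elementary subgroups of order 16 lie in `R`
  have helem : ∀ E : Subgroup G, E ≤ T → (∀ e ∈ E, e * e = 1) → Nat.card E = 16 → E ≤ R := by
    intro E hET hexp h16
    by_contra hER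
    obtain ⟨e, he, heR⟩ := SetLike.not_le_iff_exists.mp hER
    have het : e * t ∈ R := (hET he).resolve_left heR
    -- elements of `E ∩ R` are fixed by `e`, which swaps the modules
    have hsub : E ⊓ R ≤ vv L0 ⊓ vv L1 := by
      intro x hx
      have hxc : e * x * e⁻¹ = x := by
        rw [mul_inv_eq_iff_eq_mul]
        calc e * x = (e * x)⁻¹ := (inv_of_sq (hexp _ (mul_mem he hx.1))).symm
          _ = x * e := by rw [mul_inv_rev, inv_of_sq (hexp x hx.1), inv_of_sq (hexp e he)]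
      have hew : ∀ {v : G}, v ∈ vv L0 → e * v * e⁻¹ ∈ vv L1 := fun {v} hv => by
        have e1 : e * v * e⁻¹ = (e * t) * (t⁻¹ * v * t⁻¹⁻¹) * (e * t)⁻¹ := by group
        rw [e1, inv_of_sq hs.sq]
        exact (Subgroup.mem_normalizer_iff.mp
          (le_normalizer_vv L1 (hc.pair.s2.1 het)) _).mp (hswap hv)
      have hew' : ∀ {v : G}, v ∈ vv L1 → e * v * e⁻¹ ∈ vv L0 := fun {v} hv => by
        have e1 : e * v * e⁻¹ = (e * t) * (t⁻¹ * v * t⁻¹⁻¹) * (e * t)⁻¹ := by group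
        rw [e1, inv_of_sq hs.sq]
        exact (Subgroup.mem_normalizer_iff.mp
          (le_normalizer_vv L0 (hc.pair.s1.1 het)) _).mp (hswap' hv)
      rcases hc.involution_mem hx.2 (hexp x hx.1) with h' | h'
      · exact ⟨h', hxc ▸ hew h'⟩
      · exact ⟨hxc ▸ hew' h', h'⟩
    have h1 : Nat.card (E ⊓ R : Subgroup G) ≤ 4 :=
      (Subgroup.card_le_of_le hsub).trans hc.card_Z.le
    let f : E → (E ⊓ R : Subgroup G) × Bool := fun x =>
      if hx : (x : G) ∈ R then (⟨x, x.2, hx⟩, true)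
      else (⟨(x : G) * e, mul_mem x.2 he, by
        have hxt : (x : G) * t ∈ R := (hET x.2).resolve_left hx
        have h3 := conj_mem_cj (g := t) (inv_mem het)
        rw [hs.nor] at h3
        have h4 : (x : G) * e = (x : G) * t * (t * (e * t)⁻¹ * t⁻¹)⁻¹ * 1 := by
          calc (x : G) * e = x * (t * t) * e := by rw [hs.sq, mul_one]
            _ = _ := by group
        rw [h4]
        exact R.mul_mem (R.mul_mem hxt (R.inv_mem h3)) R.one_mem⟩, false)
    have hf : Function.Injective f := by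
      intro x y hxy
      simp only [f] at hxy
      split_ifs at hxy with h1 h2 h2 <;>
        simp only [Prod.mk.injEq, Bool.true_eq_false, Bool.false_eq_true, and_false, and_true,
          Subtype.mk.injEq] at hxy
      · exact Subtype.ext (congrArg Subtype.val hxy :)
      · exact Subtype.ext (mul_right_cancel (congrArg Subtype.val hxy :))
    have := Nat.card_le_card_of_injective f hf
    rw [h16, Nat.card_prod, Nat.card_eq_fintype_card (α := Bool), Fintype.card_bool] at this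
    omega
  -- `T` is a Sylow subgroup
  have hTS : SylIn ⊤ T := by
    obtain ⟨S, hS, hTS⟩ := exists_sylIn (L := ⊤) hT2 le_top
    by_cases e : T = S
    · exact e ▸ hS
    exfalso
    obtain ⟨x, hxS, hxT, -, hxn, -⟩ := exists_normalizing hS.2.1 hTS e
    have hRn : cj x R = R := by
      have hle : ∀ V : Subgroup G, V ≤ R → (∀ v ∈ V, v * v = 1) → Nat.card V = 16 → cj x V ≤ R :=
        fun V hV hexp h16 => helem _ (hxn ▸ cj_mono x (hV.trans hRT))
          (fun e he => sq_cj hexp he) (by rw [card_cj, h16])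
      refine Subgroup.eq_of_le_of_card_ge ?_ (card_cj x R).ge
      rw [← hc.sup, cj_sup]
      exact hc.sup.symm ▸ sup_le (hle _ hc.le0 (fun v => vv_sq) hc.nat0.cardV)
        (hle _ hc.le1 (fun v => vv_sq) hc.nat1.cardV)
    have hfinal : ∀ g : G, g ∈ S → g ∈ L0 → g ∈ normalizer (R : Set G) → g ∈ T := by
      intro g hg hg0 hgn
      obtain ⟨r, hr, a, ha, rfl⟩ := h.decomp hc hC hg0 hgn
      have haS : a ∈ S := by simpa using mul_mem (inv_mem (hTS (hRT hr))) hg
      rw [(two_of_mem hS.2.1 haS).eq_one_of_odd (h.odd hc ha), mul_one]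
      exact hRT hr
    have hv0 : cj x (vv L0) ≤ R := hRn ▸ cj_mono x hc.le0
    have hxnR := mem_normalizer_of_cj_eq hRn
    rcases hc.le_or_le hv0 (fun e he => sq_cj (fun v => vv_sq) he) with h' | h'
    · have hx0 : x ∈ L0 := hc.normalizer_vv ▸ mem_normalizer_of_cj_eq
        (Subgroup.eq_of_le_of_card_ge h' (card_cj x _).ge)
      exact hxT (hfinal x hxS hx0 hxnR)
    · have hx0 : t * x ∈ L0 := by
        rw [← hc.normalizer_vv]
        refine mem_normalizer_of_cj_eq ?_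
        rw [← cj_cj, Subgroup.eq_of_le_of_card_ge h' (by
          rw [card_cj, hc.nat0.cardV, hc.nat1.cardV]), ← vv_cj, hs.s10]
      have := hfinal _ (mul_mem (hTS htT) hxS) hx0 (mul_mem (mem_normalizer_of_cj_eq hs.nor) hxnR)
      exact hxT (by simpa using mul_mem (inv_mem htT) this)
  -- the centraliser of `z0` is `T`
  have hcz : centralizer ({z0} : Set G) = T := by
    refine hTS.2.2 _ (fun x hx => Subgroup.mem_centralizer_singleton_iff.mpr ?_) le_top
      (hC z0 (orderOf_of_sq (vv_sq hz0.1) hz01))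
    rcases hx with hx | hx
    · exact hc.mem_center hz0 hx
    · calc x * z0 = (x * t) * (t⁻¹ * z0) := by group
        _ = (x * t) * (z0 * t⁻¹) := by
          congr 1
          calc t⁻¹ * z0 = t⁻¹ * (t * z0 * t⁻¹) := by rw [hfix]
            _ = z0 * t⁻¹ := by group
        _ = z0 * x := by rw [← mul_assoc, hc.mem_center hz0 hx]; group
  obtain ⟨S, hS⟩ := exists_sylow_of_sylIn_top hTS
  have hidx : ∀ K : Subgroup G, K.index ≠ 2 := by
    intro K hK
    rcases (Subgroup.normal_of_index_eq_two hK).eq_bot_or_eq_top with rfl | rfl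
    · rw [Subgroup.index_bot] at hK
      have h2 : IsPGroup 2 G := IsPGroup.of_card (n := 1) (by rw [hK, pow_one])
      haveI := h2.isNilpotent
      exact hns inferInstance
    · rw [Subgroup.index_top] at hK; omega
  have hcardT : 2 * Nat.card R = Nat.card T := by
    have hn : (R.subgroupOf T).index = 2 := by
      refine Subgroup.index_eq_two_iff.mpr ⟨⟨t, htT⟩, fun b => ?_⟩
      simp only [Subgroup.mem_subgroupOf, Subgroup.coe_mul]
      rcases b.2 with hb | hb
      · exact Or.inr ⟨hb, fun hbt => hs.nmem ((Subgroup.mul_mem_cancel_left _ hb).mp hbt)⟩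
      · exact Or.inl ⟨hb, fun hb' => hs.nmem ((Subgroup.mul_mem_cancel_left _ hb').mp hb)⟩
    rw [← Subgroup.card_mul_index (R.subgroupOf T), hn,
      Nat.card_congr (Subgroup.subgroupOfEquivOfLe hRT).toEquiv, mul_comm]
  obtain ⟨g, hg⟩ := Invol.exists_conj_mem_of_no_index_two hidx S R (by rw [hS]; exact hcardT)
    (orderOf_of_sq hs.sq (fun e => hs.nmem (e ▸ R.one_mem)))
  -- `t` is conjugate to `z0`
  obtain ⟨k, hk⟩ : ∃ k, k * t * k⁻¹ = z0 := by
    have htne : g⁻¹ * t * g ≠ 1 := by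
      intro e
      refine hs.nmem ?_
      have : t = 1 := by
        calc t = g * (g⁻¹ * t * g) * g⁻¹ := by group
          _ = 1 := by rw [e]; group
      exact this ▸ R.one_mem
    have hsq : g⁻¹ * t * g * (g⁻¹ * t * g) = 1 := by
      calc g⁻¹ * t * g * (g⁻¹ * t * g) = g⁻¹ * (t * t) * g := by group
        _ = 1 := by rw [hs.sq]; group
    rcases hc.involution_mem hg hsq with h' | h'
    · obtain ⟨l, -, e⟩ := hc.nat0.transitive hC h' htne hz0.1 hz01
      exact ⟨l * g⁻¹, by rw [← e]; group⟩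
    · obtain ⟨l, -, e⟩ := hc.nat1.transitive hC h' htne hz0.2 hz01
      exact ⟨l * g⁻¹, by rw [← e]; group⟩
  -- `s = k z0 k⁻¹` commutes with `z0`; `C(z0) = T`
  set s := k * z0 * k⁻¹ with hsdef
  have htc : t * z0 = z0 * t := mul_inv_eq_iff_eq_mul.mp hfix
  have hsT : s ∈ T := by
    rw [← hcz, Subgroup.mem_centralizer_singleton_iff]
    calc s * z0 = (k * z0 * k⁻¹) * (k * t * k⁻¹) := by rw [hsdef, hk]
      _ = k * (z0 * t) * k⁻¹ := by group
      _ = (k * t * k⁻¹) * (k * z0 * k⁻¹) := by rw [← htc]; group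
      _ = z0 * s := by rw [hsdef, hk]
  have hsne : s ≠ z0 := by
    intro e
    have h1 : z0 = t := by
      have e2 : k * z0 * k⁻¹ = k * t * k⁻¹ := e.trans hk.symm
      exact mul_left_cancel (mul_right_cancel e2)
    exact hs.nmem (h1 ▸ hc.le0 hz0.1)
  have hs1 : s ≠ 1 := fun e => hz01 (conj_eq_one_iff.mp e)
  have hs2 : s * s = 1 := by rw [hsdef, conj_mul, vv_sq hz0.1, mul_one, mul_inv_cancel]
  -- pulling back along `k`
  have hback : ∀ x, x * s = s * x → x ∈ T → k⁻¹ * x * k ∈ T ∧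
      t * (k⁻¹ * x * k) = (k⁻¹ * x * k) * t := by
    intro x hxs hxT
    rw [← hcz] at hxT ⊢
    have hxz := Subgroup.mem_centralizer_singleton_iff.mp hxT
    refine ⟨Subgroup.mem_centralizer_singleton_iff.mpr ?_, ?_⟩
    · calc k⁻¹ * x * k * z0 = k⁻¹ * (x * s) * k := by rw [hsdef]; group
        _ = z0 * (k⁻¹ * x * k) := by rw [hxs, hsdef]; group
    · calc t * (k⁻¹ * x * k) = k⁻¹ * ((k * t * k⁻¹) * x) * k := by group
        _ = k⁻¹ * x * k * t := by rw [hk, ← hxz, ← hk]; group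
  -- squares of elements of `C_T(t)`
  have hcent : ∀ x ∈ R, t * x * t⁻¹ = x → x * x = 1 ∨ x * x = z0 := by
    intro x hx hxt
    refine honly _ ?_ (by rw [← conj_mul, hxt])
    have h0 := hc.nat0.sq R hc.pair.s1 x hx
    have h1 := hc.nat1.sq R hc.pair.s2 x hx
    rw [hc.pc0] at h0
    rw [hc.pc1] at h1
    exact ⟨h0, h1⟩
  have hfixI : ∀ x ∈ R, x * x = 1 → t * x * t⁻¹ = x → x = 1 ∨ x = z0 := by
    intro x hx hx2 hxt
    refine honly x ?_ hxt
    rcases hc.involution_mem hx hx2 with h' | h'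
    · exact ⟨h', hxt ▸ hswap h'⟩
    · exact ⟨hxt ▸ hswap' h', h'⟩
  rcases hsT with hsR | hsR
  · -- `s` lies in a module, whose pullback is elementary of order 16 centralising `t`
    obtain ⟨V, hVR, hVcard, hVexp, hVs⟩ : ∃ V : Subgroup G, V ≤ R ∧ Nat.card V = 16 ∧
        (∀ v ∈ V, v * v = 1) ∧ ∀ v ∈ V, v * s = s * v := by
      rcases hc.involution_mem hsR hs2 with h' | h'
      · exact ⟨vv L0, hc.le0, hc.nat0.cardV, fun v => vv_sq, fun v hv => vv_comm h' (vv_le L0 hv)⟩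
      · exact ⟨vv L1, hc.le1, hc.nat1.cardV, fun v => vv_sq, fun v hv => vv_comm h' (vv_le L1 hv)⟩
    have hE : cj k⁻¹ V ≤ R := by
      refine helem _ (fun y hy => ?_) (fun y hy => sq_cj hVexp hy) (by rw [card_cj, hVcard])
      rw [mem_cj, inv_inv] at hy
      have := (hback _ (hVs _ hy) (hRT (hVR hy))).1
      rwa [show k⁻¹ * (k * y * k⁻¹) * k = y by group] at this
    have hle : Nat.card (cj k⁻¹ V) ≤ Nat.card ({1, z0} : Set G) := by
      refine Nat.card_le_card_of_injective (fun y => ⟨y, ?_⟩)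
        (fun a b e => Subtype.ext (congrArg Subtype.val e :))
      have hy := y.2
      rw [mem_cj, inv_inv] at hy
      have h2 := (hback _ (hVs _ hy) (hRT (hVR hy))).2
      rw [show k⁻¹ * (k * (y : G) * k⁻¹) * k = y by group] at h2
      exact hfixI y (hE y.2) (sq_cj hVexp y.2) (mul_inv_eq_iff_eq_mul.mpr h2)
    rw [card_cj, hVcard, Nat.card_coe_set_eq, Set.ncard_pair hz01.symm] at hle
    omega
  · -- `s` swaps the modules and centralises an element whose square is `z0`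
    have hw := h.weyl_not_mem hc hC hz0 hz01
    set u := w0 * z0 * w0⁻¹ with hu
    have hnor : ∀ r ∈ R, s * r * s⁻¹ ∈ R := by
      intro r hr
      have e : s * r * s⁻¹ = (s * t) * (t⁻¹ * r * t⁻¹⁻¹) * (s * t)⁻¹ := by group
      rw [e, inv_of_sq hs.sq]
      exact mul_mem (mul_mem hsR (hs.nor ▸ conj_mem_cj hr)) (inv_mem hsR)
    have hv : s * u * s⁻¹ ∈ vv L1 := by
      have e : s * u * s⁻¹ = (s * t) * (t⁻¹ * u * t⁻¹⁻¹) * (s * t)⁻¹ := by group
      rw [e, inv_of_sq hs.sq]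
      exact (Subgroup.mem_normalizer_iff.mp (le_normalizer_vv L1 (hc.pair.s2.1 hsR)) _).mp (hswap hw.1)
    set v := s * u * s⁻¹ with hvdef
    have hszc : ∀ z ∈ vv L0 ⊓ vv L1, s * z * s⁻¹ = t * z * t⁻¹ := by
      intro z hz
      have hz' : t * z * t⁻¹ ∈ vv L0 ⊓ vv L1 := hs.cj_Z ▸ conj_mem_cj hz
      rw [inv_of_sq hs.sq] at hz' ⊢
      have e : s * z * s⁻¹ = (s * t) * (t⁻¹ * z * t) * (s * t)⁻¹ := by group
      rw [e, inv_of_sq hs.sq, hc.mem_center hz' hsR]
      group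
    have hv0 : v ∉ vv L0 := by
      intro hv0
      refine hw.2 ?_
      have hv' : v ∈ vv L0 ⊓ vv L1 := ⟨hv0, hv⟩
      have e : s * v * s⁻¹ = u := by
        rw [hvdef, show s * (s * u * s⁻¹) * s⁻¹ = (s * s) * u * (s * s)⁻¹ by group, hs2, inv_one,
          one_mul, mul_one]
      rw [← e, hszc v hv']
      exact (hs.cj_Z ▸ conj_mem_cj hv' : t * v * t⁻¹ ∈ vv L0 ⊓ vv L1).2
    have hd : v * u * v⁻¹ * u⁻¹ ∈ vv L0 ⊓ vv L1 := hc.symm.commutator_mem hv hw.1 |>.elim fun a b => ⟨b, a⟩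
    set d := v * u * v⁻¹ * u⁻¹ with hddef
    have hdu : u * v * u⁻¹ * v⁻¹ = d := by
      rw [← inv_of_sq (vv_sq hd.1), hddef]; group
    have hsd : s * d * s⁻¹ = d := by
      have hsv : s * v * s⁻¹ = u := by
        rw [hvdef, show s * (s * u * s⁻¹) * s⁻¹ = (s * s) * u * (s * s)⁻¹ by group, hs2, inv_one, one_mul,
          mul_one]
      calc s * d * s⁻¹ = (s * v * s⁻¹) * (s * u * s⁻¹) * (s * v * s⁻¹)⁻¹ * (s * u * s⁻¹)⁻¹ := by
            rw [hddef]; group
        _ = d := by rw [hsv, ← hvdef]; exact hdu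
    have hdz0 : d = z0 := by
      refine (honly d hd ((hszc d hd).symm.trans hsd)).resolve_left fun e => hw.2 ?_
      refine hc.mem_of_commute hw.1 hv hv0 ?_
      have h3 := mul_inv_eq_one.mp e
      exact mul_inv_eq_iff_eq_mul.mp h3
    -- a correction in `Z`
    obtain ⟨a, ha, ha'⟩ : ∃ a ∈ vv L0 ⊓ vv L1, a * (t * a * t⁻¹) = z0 := by
      obtain ⟨b, hb, hb1, hbz⟩ : ∃ b ∈ vv L0 ⊓ vv L1, b ≠ 1 ∧ b ≠ z0 := by
        by_contra hcc
        push Not at hcc
        have := Nat.card_le_card_of_injective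
          (fun b : (vv L0 ⊓ vv L1 : Subgroup G) => (⟨(b : G), by
            by_cases hb : (b : G) = 1
            · exact Or.inl hb
            · exact Or.inr (hcc b b.2 hb)⟩ : ({1, z0} : Set G)))
          (fun a b e => Subtype.ext (congrArg Subtype.val e :))
        rw [hc.card_Z, Nat.card_coe_set_eq, Set.ncard_pair hz01.symm] at this
        omega
      refine ⟨b, hb, ?_⟩
      have hb' : t * b * t⁻¹ ∈ vv L0 ⊓ vv L1 := hs.cj_Z ▸ conj_mem_cj hb
      refine (honly _ (mul_mem hb hb') ?_).resolve_left fun e => ?_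
      · calc t * (b * (t * b * t⁻¹)) * t⁻¹ = (t * b * t⁻¹) * ((t * t) * b * (t * t)⁻¹) := by group
          _ = b * (t * b * t⁻¹) := by
            rw [hs.sq, inv_one, mul_one, one_mul, vv_comm hb.1 (vv_le L0 hb'.1)]
      · have : t * b * t⁻¹ = b := by rw [eq_inv_of_mul_eq_one_right e, inv_of_sq (vv_sq hb.1)]
        exact (honly b hb this).elim hb1 hbz
    set x := u * v * a with hx
    have huR : u ∈ R := hc.le0 hw.1
    have hvR : v ∈ R := hc.le1 hv
    have hxR : x ∈ R := mul_mem (mul_mem huR hvR) (hc.le0 ha.1)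
    have hca : ∀ r ∈ R, r * a = a * r := fun r hr => hc.mem_center ha hr
    have hvu : v * u = z0 * (u * v) := by rw [← hdz0, hddef]; group
    have hsv : s * v * s⁻¹ = u := by
      rw [hvdef, show s * (s * u * s⁻¹) * s⁻¹ = (s * s) * u * (s * s)⁻¹ by group, hs2, inv_one, one_mul,
        mul_one]
    have hta : s * a * s⁻¹ = z0 * a := by
      rw [hszc a ha]
      calc t * a * t⁻¹ = (a * a) * (t * a * t⁻¹) := by rw [vv_sq ha.1, one_mul]
        _ = a * (a * (t * a * t⁻¹)) := by group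
        _ = z0 * a := by rw [ha', hca z0 (hc.le0 hz0.1)]
    have hsx : x * s = s * x := by
      have h4 : s * x * s⁻¹ = x := by
        calc s * x * s⁻¹ = (s * u * s⁻¹) * (s * v * s⁻¹) * (s * a * s⁻¹) := by rw [hx]; group
          _ = v * u * (z0 * a) := by rw [← hvdef, hsv, hta]
          _ = (z0 * (u * v)) * z0 * a := by rw [hvu]; group
          _ = ((u * v) * z0) * z0 * a := by rw [hc.mem_center hz0 (mul_mem huR hvR)]
          _ = x := by rw [mul_assoc (u * v), vv_sq hz0.1, mul_one]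
      exact (mul_inv_eq_iff_eq_mul.mp h4).symm
    have hxx : x * x = z0 := by
      have hc' : x * x = (u * v) * (u * v) * (a * a) := by
        rw [hx, show u * v * a * (u * v * a) = u * v * (a * (u * v)) * a by group,
          ← hca _ (mul_mem huR hvR)]
        group
      rw [hc', vv_sq ha.1, mul_one, show u * v * (u * v) = u * (v * u) * v by group, hvu,
        show u * (z0 * (u * v)) * v = (u * z0) * u * (v * v) by group, vv_sq hv, mul_one,
        hc.mem_center hz0 huR, mul_assoc, vv_sq hw.1, mul_one]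
    obtain ⟨hyT, hyt⟩ := hback x hsx (hRT hxR)
    set y := k⁻¹ * x * k with hy
    have hyy : y * y = t := by
      rw [hy, show k⁻¹ * x * k * (k⁻¹ * x * k) = k⁻¹ * (x * x) * k by group, hxx, ← hk]
      group
    have h2R : y * y ∈ R := by
      rcases hyT with hy' | hy'
      · exact mul_mem hy' hy'
      · have h5 : y * y = (y * t) * (y * t) := by
          calc y * y = (y * y) * (t * t) := by rw [hs.sq, mul_one]
            _ = y * (y * t) * t := by group
            _ = y * (t * y) * t := by rw [hyt]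
            _ = (y * t) * (y * t) := by group
        rw [h5]; exact mul_mem hy' hy'
    exact hs.nmem (hyy ▸ h2R)

end Cfsg.Agent.CIT
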