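import Cfsg.Agent.CIT.Conf
import Cfsg.Agent.FGS75.SelfNorm.Reverse
import Mathlib.GroupTheory.SchurZassenhaus

/-!
The common torus of the two vertices.
-/

set_option autoImplicit false

namespace Cfsg.Agent.CIT

open Subgroup
open scoped Pointwise

variable {G : Type*} [Group G]

/-- A torus at a vertex `L` with Sylow subgroup `R`, inverted by `w`. -/
structure TorusAt (L R : Subgroup G) (q : ℕ) (H : Subgroup G) (w : G) : Prop where
  le : H ≤ L
  nor : H ≤ normalizer (R : Set G)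
  card : Nat.card H = q - 1
  comm : ∀ a ∈ H, ∀ b ∈ H, a * b = b * a
  wL : w ∈ L
  wsq : w * w = 1
  wR : cj w R ≠ R
  inv : ∀ a ∈ H, w * a * w⁻¹ = a⁻¹

variable [Finite G]

theorem SylIn.cj_mem {L R : Subgroup G} (h : SylIn L R) {g : G} (hg : g ∈ L) : SylIn L (cj g R) := by
  simpa only [cj_eq_of_mem hg] using sylIn_cj (g := g) h

variable {L0 L1 R : Subgroup G} {q : ℕ}

theorem Conf.even_q (h : Conf L0 L1 R q) : 2 ∣ q := by
  haveI : Fact (Nat.Prime 2) := ⟨Nat.prime_two⟩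
  obtain ⟨k, hk⟩ := IsPGroup.iff_card.mp
    ((h.pair.s1.2.1.to_le (inf_le_left.trans h.le0) :) : IsPGroup 2 (vv L0 ⊓ vv L1 : Subgroup G))
  rw [h.card_Z] at hk
  have := h.nat0.q2
  rcases k with _ | k
  · simp at hk; omega
  · exact hk ▸ dvd_pow_self 2 (by omega)

theorem odd_sub_one {q : ℕ} (h2 : 2 ∣ q) (hq : 1 < q) : Odd (q - 1) := by
  rw [Nat.odd_iff]; omega

theorem Conf.exists_torusAt (h : Conf L0 L1 R q) (hC : IsCIT G) (hq : 4 ≤ q) :
    ∃ H w, TorusAt L0 R q H w := by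
  classical
  haveI : Fact (Nat.Prime 2) := ⟨Nat.prime_two⟩
  have hs := h.pair.s1
  -- a second Sylow subgroup and an involution swapping it with `R`
  obtain ⟨⟨R2, hR2⟩, hne⟩ : ∃ R2 : {X : Subgroup G // SylIn L0 X}, R2.1 ≠ R := by
    by_contra hc
    push Not at hc
    haveI : Subsingleton {X : Subgroup G // SylIn L0 X} :=
      ⟨fun X Y => Subtype.ext ((hc X).trans (hc Y).symm)⟩
    have h1 := Finite.card_le_one_iff_subsingleton.mpr (inferInstance : Subsingleton {X : Subgroup G // SylIn L0 X})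
    rw [h.nat0.card_sylIn hC] at h1
    omega
  obtain ⟨g, hg, hgR⟩ := hs.conj hR2
  obtain ⟨v, hv, hv0⟩ := SetLike.not_le_iff_exists.mp
    (fun hle : vv L1 ≤ vv L0 => h.nat0.not_le_pc hs (by rw [h.pc0, ← h.sup]; exact sup_le le_rfl hle))
  set u := g * v * g⁻¹ with hu
  have huR2 : u ∈ R2 := hgR ▸ conj_mem_cj (h.le1 hv)
  have huQ : u ∉ vv L0 := by
    rw [← cj_eq_of_mem_normalizer (le_normalizer_vv L0 hg), mem_cj, hu]
    group
    exact hv0
  have hu2 : u * u = 1 := by rw [hu, conj_mul, vv_sq hv, mul_one, mul_inv_cancel]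
  have huL : u ∈ L0 := hR2.1 huR2
  have huR : cj u R ≠ R := fun e => huQ (h.pc0 ▸ h.nat0.normalizes_imp hC hR2 hs hne.symm huR2 e)
  set R' := cj u R with hR'
  have hsR' : SylIn L0 R' := hs.cj_mem huL
  -- the stabiliser of `R` and `R'`
  set D := L0 ⊓ (normalizer (R : Set G) ⊓ normalizer (R' : Set G)) with hD
  have hVD : vv L0 ≤ D := le_inf (h.le0.trans hs.1) (le_inf (h.le0.trans Subgroup.le_normalizer)
    ((h.pc0 ▸ pc_le_sylIn hsR').trans Subgroup.le_normalizer))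
  have hDR : ∀ x ∈ D, Two x → x ∈ vv L0 := fun x hx h2 => h.pc0 ▸
    h.nat0.normalizes_imp hC hs hsR' huR (hs.mem_of_normalizes h2 hx.1 hx.2.1)
      (cj_eq_of_mem_normalizer hx.2.2)
  let Ω := {X : Subgroup G // SylIn L0 X}
  letI : MulAction L0 Ω :=
    { smul := fun l X => ⟨cj (l : G) X.1, X.2.cj_mem l.2⟩
      one_smul := fun X => Subtype.ext (cj_one _)
      mul_smul := fun a b X => Subtype.ext (cj_cj (a : G) (b : G) X.1).symm }
  have hstab : ∀ X : Ω, MulAction.stabilizer L0 X = (L0 ⊓ normalizer (X.1 : Set G)).subgroupOf L0 := by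
    intro X; ext l
    rw [MulAction.mem_stabilizer_iff, Subgroup.mem_subgroupOf, Subgroup.mem_inf]
    exact ⟨fun e => ⟨l.2, mem_normalizer_of_cj_eq (congrArg Subtype.val e)⟩,
      fun e => Subtype.ext (cj_eq_of_mem_normalizer e.2)⟩
  have hB : Nat.card (L0 ⊓ normalizer (R : Set G) : Subgroup G) = q * q * q * (q - 1) := by
    have horb : MulAction.orbit L0 (⟨R, hs⟩ : Ω) = Set.univ := by
      refine Set.eq_univ_of_forall fun X => ?_
      obtain ⟨l, hl, e⟩ := hs.conj X.2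
      exact ⟨⟨l, hl⟩, Subtype.ext e⟩
    have h1 := MulAction.index_stabilizer L0 (⟨R, hs⟩ : Ω)
    rw [horb, Set.ncard_univ, h.nat0.card_sylIn hC, hstab] at h1
    have h2 := Subgroup.card_mul_index ((L0 ⊓ normalizer (R : Set G)).subgroupOf L0)
    rw [h1, Nat.card_congr (Subgroup.subgroupOfEquivOfLe inf_le_left).toEquiv, h.card_L0] at h2
    refine Nat.eq_of_mul_eq_mul_right (show 0 < q + 1 by omega) (h2.trans ?_)
    obtain ⟨k, rfl⟩ : ∃ k, q = k + 1 := ⟨q - 1, by omega⟩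
    rw [Nat.add_sub_cancel, show (k + 1) * (k + 1) - 1 = k * (k + 1 + 1) by
      have : (k + 1) * (k + 1) = k * (k + 1 + 1) + 1 := by ring
      omega]
    ring
  have hcardD : Nat.card D = q * q * (q - 1) := by
    set B := L0 ⊓ normalizer (R : Set G) with hBdef
    let Ω' := {X : Ω // X.1 ≠ R}
    letI : MulAction B Ω' :=
      { smul := fun b X => ⟨⟨cj (b : G) X.1.1, X.1.2.cj_mem b.2.1⟩, fun e => X.2 (by
          have e' : cj (b : G) X.1.1 = R := e
          rw [← cj_inv_cj (b : G) X.1.1, e']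
          exact cj_eq_of_mem_normalizer (inv_mem b.2.2))⟩
        one_smul := fun X => Subtype.ext (Subtype.ext (cj_one _))
        mul_smul := fun a b X => Subtype.ext (Subtype.ext (cj_cj (a : G) (b : G) X.1.1).symm) }
    have hΩ' : Nat.card Ω' = q := by
      haveI : Fintype Ω := Fintype.ofFinite _
      rw [Nat.card_congr (Equiv.subtypeEquivRight (q := fun X : Ω => ¬ X = ⟨R, hs⟩)
          fun X => not_congr Subtype.ext_iff.symm), Nat.card_eq_fintype_card,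
        Fintype.card_subtype_compl, Fintype.card_subtype_eq, ← Nat.card_eq_fintype_card,
        h.nat0.card_sylIn hC]
      rfl
    let x : Ω' := ⟨⟨R', hsR'⟩, huR⟩
    have horb : MulAction.orbit B x = Set.univ := by
      refine Set.eq_univ_of_forall fun X => ?_
      obtain ⟨r, hr, e⟩ := h.nat0.syl_transitive hC hs hsR' X.1.2 huR X.2
      exact ⟨⟨r, hs.1 hr, Subgroup.le_normalizer hr⟩, Subtype.ext (Subtype.ext e)⟩
    have hst : MulAction.stabilizer B x = D.subgroupOf B := by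
      ext b
      rw [MulAction.mem_stabilizer_iff, Subgroup.mem_subgroupOf]
      exact ⟨fun e => ⟨b.2.1, b.2.2, mem_normalizer_of_cj_eq (congrArg (fun X : Ω' => X.1.1) e)⟩,
        fun e => Subtype.ext (Subtype.ext (cj_eq_of_mem_normalizer e.2.2))⟩
    have h1 := MulAction.index_stabilizer B x
    rw [horb, Set.ncard_univ, hΩ', hst] at h1
    have h2 := Subgroup.card_mul_index (D.subgroupOf B)
    rw [h1, Nat.card_congr (Subgroup.subgroupOfEquivOfLe (le_inf inf_le_left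
      (inf_le_right.trans inf_le_left))).toEquiv, hB] at h2
    refine Nat.eq_of_mul_eq_mul_right (show 0 < q by omega) (h2.trans ?_)
    ring
  have hoddq := odd_sub_one h.even_q h.nat0.q2
  -- a complement
  haveI : ((vv L0).subgroupOf D).Normal :=
    (Subgroup.normal_subgroupOf_iff_le_normalizer hVD).mpr (inf_le_left.trans (le_normalizer_vv L0))
  have hcV : Nat.card ((vv L0).subgroupOf D) = q * q := by
    rw [Nat.card_congr (Subgroup.subgroupOfEquivOfLe hVD).toEquiv, h.nat0.cardV]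
  have hidxV : ((vv L0).subgroupOf D).index = q - 1 := by
    have h2 := Subgroup.card_mul_index ((vv L0).subgroupOf D)
    rw [hcV, hcardD] at h2
    exact Nat.eq_of_mul_eq_mul_left (show 0 < q * q by positivity) h2
  obtain ⟨K, hK⟩ := Subgroup.exists_right_complement'_of_coprime (N := (vv L0).subgroupOf D) (by
    rw [hcV, hidxV]
    obtain ⟨k, hk⟩ := IsPGroup.iff_card.mp (h.pair.s1.2.1.to_le h.le0)
    rw [h.nat0.cardV] at hk
    rw [hk]
    exact Nat.Coprime.pow_left k (Nat.coprime_two_left.mpr hoddq))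
  set H := K.map D.subtype with hH
  have hHD : H ≤ D := Subgroup.map_subtype_le K
  have hHcard : Nat.card H = q - 1 := by
    rw [hH, Subgroup.card_map_of_injective D.subtype_injective, ← hK.symm.index_eq_card, hidxV]
  have hHodd : ∀ a ∈ H, Odd (orderOf a) := fun a ha =>
    Odd.of_dvd_nat (hHcard ▸ hoddq) (Subgroup.orderOf_dvd_natCard H ha)
  have hHV : ∀ a ∈ H, a ∈ vv L0 → a = 1 := fun a ha hav =>
    (two_of_mem (h.pair.s1.2.1.to_le h.le0) hav).eq_one_of_odd (hHodd a ha)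
  have hdec : ∀ x ∈ D, ∃ y ∈ vv L0, ∃ a ∈ H, y * a = x := by
    intro x hx
    obtain ⟨⟨y, k⟩, hyk⟩ := hK.2 ⟨x, hx⟩
    exact ⟨_, Subgroup.mem_subgroupOf.mp y.2, _, Subgroup.mem_map_of_mem _ k.2, congrArg Subtype.val hyk⟩
  have huD : ∀ x ∈ D, u * x * u⁻¹ ∈ D := by
    intro x hx
    have hun : cj u D = D := by
      rw [hD, cj_inf, cj_inf, cj_eq_of_mem huL, cj_normalizer, cj_normalizer, ← hR',
        show cj u R' = R by rw [hR', cj_cj, hu2, cj_one], inf_comm (normalizer (R' : Set G))]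
    exact hun ▸ conj_mem_cj hx
  -- in the quotient by the module the involution inverts
  set Qs := (pc L0).subgroupOf L0 with hQs
  haveI : Qs.Normal := (Subgroup.normal_subgroupOf_iff_le_normalizer (pc_le L0)).mpr (le_normalizer_pc L0)
  have hQs2 : IsPGroup 2 Qs :=
    (pc_isPGroup L0).of_injective (Subgroup.subgroupOfEquivOfLe (pc_le L0)).toMonoidHom
      (MulEquiv.injective _)
  have hX := (hC.subgroup L0).quotient hQs2
  let ub : L0 ⧸ Qs := ((⟨u, huL⟩ : L0) : L0 ⧸ Qs)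
  have hub : ub * ub = 1 := by
    show (((⟨u, huL⟩ : L0) * ⟨u, huL⟩ : L0) : L0 ⧸ Qs) = 1
    rw [show (⟨u, huL⟩ : L0) * ⟨u, huL⟩ = 1 from Subtype.ext hu2]
    rfl
  have hub1 : ub ≠ 1 := fun e => huQ (h.pc0 ▸ Subgroup.mem_subgroupOf.mp ((QuotientGroup.eq_one_iff _).mp e))
  have hHL : H ≤ L0 := hHD.trans inf_le_left
  have hinv0 : ∀ a ∈ H, u * a * u⁻¹ * a ∈ vv L0 := by
    intro a ha
    have h1 := FGS75.SelfNorm.inverts_of_fpf hub (K := (D.subgroupOf L0).map (QuotientGroup.mk' Qs))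
      (by
        rintro _ ⟨x, hx, rfl⟩
        exact ⟨⟨u, huL⟩ * x * (⟨u, huL⟩ : L0)⁻¹, Subgroup.mem_subgroupOf.mpr (huD _ hx), rfl⟩)
      (by
        rintro _ ⟨x, hx, rfl⟩ hc
        obtain ⟨y, hy, b, hb, e⟩ := hdec _ (Subgroup.mem_subgroupOf.mp hx)
        have hxe : QuotientGroup.mk' Qs x = ((⟨b, hHL hb⟩ : L0) : L0 ⧸ Qs) := by
          rw [QuotientGroup.mk'_apply, show x = ⟨y, h.le0.trans hs.1 hy⟩ * ⟨b, hHL hb⟩ from
            Subtype.ext e.symm, QuotientGroup.mk_mul,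
            (QuotientGroup.eq_one_iff _).mpr (Subgroup.mem_subgroupOf.mpr (vv_le L0 hy)), one_mul]
        rw [hxe] at hc ⊢
        refine hX.eq_one_of_commute (two_of_sq hub) hub1 ?_ hc.symm
        refine (hHodd b hb).of_dvd_nat ?_
        rw [← Subgroup.orderOf_mk b (hHL hb)]
        exact orderOf_map_dvd (QuotientGroup.mk' Qs) _)
      _ (Subgroup.mem_map_of_mem _ (Subgroup.mem_subgroupOf.mpr (hHD ha : ((⟨a, hHL ha⟩ : L0) : G) ∈ D)))
    have h2 : ((⟨u, huL⟩ * ⟨a, hHL ha⟩ * (⟨u, huL⟩ : L0)⁻¹ * ⟨a, hHL ha⟩ : L0) : L0 ⧸ Qs) = 1 := by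
      rw [QuotientGroup.mk_mul, QuotientGroup.mk_mul, QuotientGroup.mk_mul, QuotientGroup.mk_inv]
      exact mul_eq_one_iff_eq_inv.mpr h1
    exact h.pc0 ▸ Subgroup.mem_subgroupOf.mp ((QuotientGroup.eq_one_iff _).mp h2)
  have hcomm : ∀ a ∈ H, ∀ b ∈ H, a * b = b * a := by
    intro a ha b hb
    have hm : ∀ x, x ∈ vv L0 → ∀ c ∈ H, c * x * c⁻¹ ∈ vv L0 := fun x hx c hc =>
      (Subgroup.mem_normalizer_iff.mp (le_normalizer_vv L0 (hHL hc)) x).mp hx
    have hu' : ∀ x, x ∈ vv L0 → u * x * u⁻¹ ∈ vv L0 := fun x hx =>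
      (Subgroup.mem_normalizer_iff.mp (le_normalizer_vv L0 huL) x).mp hx
    -- modulo the module, conjugation by `u` is inversion and an automorphism
    have h1 := hinv0 (a * b) (mul_mem ha hb)
    have h2 := hinv0 a ha
    have h3 := hinv0 b hb
    have h4 : a * b * a⁻¹ * b⁻¹ ∈ vv L0 := by
      have e : u * (a * b) * u⁻¹ * (a * b) =
          (u * a * u⁻¹ * a) * (a⁻¹ * (u * b * u⁻¹ * b) * a⁻¹⁻¹) * (a⁻¹ * b⁻¹ * a * b) := by group
      rw [e] at h1
      have h5 : a⁻¹ * b⁻¹ * a * b ∈ vv L0 :=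
        (Subgroup.mul_mem_cancel_left _ (mul_mem h2 (hm _ h3 _ (inv_mem ha)))).mp h1
      have h6 := hm _ (hm _ h5 b hb) a ha
      rw [show a * (b * (a⁻¹ * b⁻¹ * a * b) * b⁻¹) * a⁻¹ = a * b * a⁻¹ * b⁻¹ by group] at h6
      exact h6
    have := hHV _ (mul_mem (mul_mem (mul_mem ha hb) (inv_mem ha)) (inv_mem hb)) h4
    rwa [mul_inv_eq_one, mul_inv_eq_iff_eq_mul] at this
  -- correct the involution
  obtain ⟨a0, ha0, ha01⟩ := exists_ne_one_of_card (H := H) (by rw [hHcard]; omega)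
  have hn : ∀ y ∈ vv L0, a0⁻¹ * y * a0⁻¹⁻¹ ∈ vv L0 := fun y hy =>
    (Subgroup.mem_normalizer_iff.mp (le_normalizer_vv L0 (inv_mem (hHL ha0))) y).mp hy
  obtain ⟨y, hy, hy'⟩ := hC.conj_of_coset (h.pair.s1.2.1.to_le h.le0) (w := a0⁻¹)
    (by rw [orderOf_inv]; exact hHodd a0 ha0) (inv_ne_one.mpr ha01) hn (hinv0 a0 ha0)
  rw [mul_inv_cancel_right] at hy'
  set w := y⁻¹ * u with hw
  have hwL : w ∈ L0 := mul_mem (inv_mem (hs.1 (h.le0 hy))) huL
  have hw0 : w * a0 * w⁻¹ = a0⁻¹ := by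
    rw [hw, show y⁻¹ * u * a0 * (y⁻¹ * u)⁻¹ = y⁻¹ * (u * a0 * u⁻¹) * y by group, ← hy']
    group
  have hinv : ∀ a ∈ H, w * a * w⁻¹ = a⁻¹ := by
    intro a ha
    have hv' : w * a * w⁻¹ * a ∈ vv L0 := by
      rw [hw, show y⁻¹ * u * a * (y⁻¹ * u)⁻¹ * a =
        y⁻¹ * (u * a * u⁻¹ * a) * (a⁻¹ * y * a⁻¹⁻¹) by group]
      exact mul_mem (mul_mem (inv_mem hy) (hinv0 a ha))
        ((Subgroup.mem_normalizer_iff.mp (le_normalizer_vv L0 (inv_mem (hHL ha))) y).mp hy)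
    have hca : a⁻¹ * a0⁻¹ = a0⁻¹ * a⁻¹ := hcomm _ (inv_mem ha) _ (inv_mem ha0)
    have hcw : a0⁻¹ * (w * a * w⁻¹) = (w * a * w⁻¹) * a0⁻¹ := by
      rw [← hw0, show w * a0 * w⁻¹ * (w * a * w⁻¹) = w * (a0 * a) * w⁻¹ by group, hcomm a0 ha0 a ha]
      group
    have h1 : a0⁻¹ * (w * a * w⁻¹ * a) * a0⁻¹⁻¹ = w * a * w⁻¹ * a := by
      rw [mul_inv_eq_iff_eq_mul]
      calc a0⁻¹ * (w * a * w⁻¹ * a) = (a0⁻¹ * (w * a * w⁻¹)) * a := by group
        _ = (w * a * w⁻¹) * (a0⁻¹ * a) := by rw [hcw]; group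
        _ = w * a * w⁻¹ * a * a0⁻¹ := by rw [hcomm _ (inv_mem ha0) _ ha]; group
    have h2 := hC.fpf (by rw [orderOf_inv]; exact hHodd a0 ha0) (inv_ne_one.mpr ha01)
      (two_of_sq (vv_sq hv')) h1
    exact eq_inv_of_mul_eq_one_left h2
  have hw2 : w * w = 1 := by
    have hsq : w * w ∈ vv L0 := by
      rw [hw, show y⁻¹ * u * (y⁻¹ * u) = y⁻¹ * (u * y⁻¹ * u⁻¹) * (u * u) by group, hu2, mul_one]
      exact mul_mem (inv_mem hy)
        ((Subgroup.mem_normalizer_iff.mp (le_normalizer_vv L0 huL) _).mp (inv_mem hy))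
    refine hC.fpf (hHodd a0 ha0) ha01 (two_of_sq (vv_sq hsq)) ?_
    have e : w * w * a0 * (w * w)⁻¹ = a0 := by
      calc w * w * a0 * (w * w)⁻¹ = w * (w * a0 * w⁻¹) * w⁻¹ := by group
        _ = w * a0⁻¹ * w⁻¹ := by rw [hw0]
        _ = a0 := by rw [hinv _ (inv_mem ha0), inv_inv]
    calc a0 * (w * w) * a0⁻¹ = (w * w * a0 * (w * w)⁻¹) * (w * w) * a0⁻¹ := by rw [e]
      _ = w * w := by group
  refine ⟨H, w, hHL, hHD.trans (inf_le_right.trans inf_le_left), hHcard, hcomm, hwL, hw2, ?_, hinv⟩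
  rw [hw, ← cj_cj]
  intro e
  refine huR ?_
  calc cj u R = cj y (cj y⁻¹ (cj u R)) := (cj_cj_inv _ _).symm
    _ = R := by rw [e, cj_eq_of_mem (h.le0 hy)]

/-- The torus shared by the two vertices. -/
structure Torus (L0 L1 R : Subgroup G) (q : ℕ) (H : Subgroup G) (w0 w1 : G) : Prop where
  t0 : TorusAt L0 R q H w0
  t1 : TorusAt L1 R q H w1

theorem Conf.inf_normalizer_le (h : Conf L0 L1 R q) : L0 ⊓ normalizer (R : Set G) ≤ L1 := by
  intro x hx
  rw [← h.symm.normalizer_vv]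
  refine mem_normalizer_of_cj_eq ?_
  have hle : cj x (vv L1) ≤ R := cj_eq_of_mem_normalizer hx.2 ▸ cj_mono x h.le1
  have h0 : cj x (vv L0) = vv L0 := cj_eq_of_mem_normalizer (le_normalizer_vv L0 hx.1)
  by_contra hne
  obtain ⟨a, ha, ha1⟩ := SetLike.not_le_iff_exists.mp
    (fun hh : cj x (vv L1) ≤ vv L1 => hne (Subgroup.eq_of_le_of_card_ge hh (card_cj x _).ge))
  have hnle : ¬ cj x (vv L1) ≤ vv L0 := fun hh => by
    rw [← h0, cj_le_cj_iff] at hh
    exact h.nat0.not_le_pc h.pair.s1 (by rw [h.pc0, ← h.sup]; exact sup_le le_rfl hh)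
  obtain ⟨b, hb, hb0⟩ := SetLike.not_le_iff_exists.mp hnle
  have hsq : ∀ c ∈ cj x (vv L1), c * c = 1 := fun c hc => by
    rw [mem_cj] at hc
    calc c * c = x * ((x⁻¹ * c * x) * (x⁻¹ * c * x)) * x⁻¹ := by group
      _ = 1 := by rw [vv_sq hc]; group
  have ha0 := (h.involution_mem (hle ha) (hsq a ha)).resolve_right ha1
  have hb1 := (h.involution_mem (hle hb) (hsq b hb)).resolve_left hb0
  rcases h.involution_mem (hle (mul_mem ha hb)) (hsq _ (mul_mem ha hb)) with h' | h'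
  · exact hb0 ((Subgroup.mul_mem_cancel_left _ ha0).mp h')
  · exact ha1 ((Subgroup.mul_mem_cancel_right _ hb1).mp h')

theorem Conf.exists_torus (h : Conf L0 L1 R q) (hC : IsCIT G) (hq : 4 ≤ q) :
    ∃ H w0 w1, Torus L0 L1 R q H w0 w1 := by
  classical
  haveI : Fact (Nat.Prime 2) := ⟨Nat.prime_two⟩
  obtain ⟨H, w0, t0⟩ := h.exists_torusAt hC hq
  obtain ⟨H', w1, t1⟩ := h.symm.exists_torusAt hC hq
  have hoddq := odd_sub_one h.even_q h.nat0.q2
  have hodd : ∀ a ∈ H, Odd (orderOf a) := fun a ha =>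
    Odd.of_dvd_nat (t0.card ▸ hoddq) (Subgroup.orderOf_dvd_natCard H ha)
  have hodd' : ∀ a ∈ H', Odd (orderOf a) := fun a ha =>
    Odd.of_dvd_nat (t1.card ▸ hoddq) (Subgroup.orderOf_dvd_natCard H' ha)
  set B := L0 ⊓ normalizer (R : Set G) with hB
  have hHB : H ≤ B := le_inf t0.le t0.nor
  have hH'B : H' ≤ B := le_inf ((le_inf t1.le t1.nor).trans h.symm.inf_normalizer_le) t1.nor
  haveI : (R.subgroupOf B).Normal :=
    (Subgroup.normal_subgroupOf_iff_le_normalizer (le_inf h.pair.s1.1 Subgroup.le_normalizer)).mpr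
      inf_le_right
  -- `B = R H`
  have hdec : ∀ x ∈ B, ∃ r ∈ R, ∃ a ∈ H, r * a = x := by
    have hinj : Function.Injective (fun p : R × H => (⟨(p.1 : G) * p.2,
        mul_mem ⟨h.pair.s1.1 p.1.2, Subgroup.le_normalizer p.1.2⟩ (hHB p.2.2)⟩ : B)) := by
      rintro ⟨r, a⟩ ⟨r', a'⟩ e
      have e' : (r : G) * a = r' * a' := congrArg Subtype.val e
      have hm : (a : G) * (a' : G)⁻¹ ∈ R := by
        rw [show (a : G) * (a' : G)⁻¹ = (r : G)⁻¹ * r' from by
          rw [eq_inv_mul_iff_mul_eq, ← mul_assoc, e', mul_inv_cancel_right]]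
        exact mul_mem (inv_mem r.2) r'.2
      have h1 := (two_of_mem h.pair.s1.2.1 hm).eq_one_of_odd (hodd _ (mul_mem a.2 (inv_mem a'.2)))
      rw [mul_inv_eq_one] at h1
      exact Prod.ext (Subtype.ext (by rw [h1] at e'; exact mul_right_cancel e')) (Subtype.ext h1)
    have hcard : Nat.card B ≤ Nat.card (R × H) := by
      rw [Nat.card_prod, h.card_R, t0.card]
      let Ω := {X : Subgroup G // SylIn L0 X}
      letI : MulAction L0 Ω :=
        { smul := fun l X => ⟨cj (l : G) X.1, X.2.cj_mem l.2⟩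
          one_smul := fun X => Subtype.ext (cj_one _)
          mul_smul := fun a b X => Subtype.ext (cj_cj (a : G) (b : G) X.1).symm }
      have horb : MulAction.orbit L0 (⟨R, h.pair.s1⟩ : Ω) = Set.univ := by
        refine Set.eq_univ_of_forall fun X => ?_
        obtain ⟨l, hl, e⟩ := h.pair.s1.conj X.2
        exact ⟨⟨l, hl⟩, Subtype.ext e⟩
      have hst : MulAction.stabilizer L0 (⟨R, h.pair.s1⟩ : Ω) = B.subgroupOf L0 := by
        ext l
        rw [MulAction.mem_stabilizer_iff, Subgroup.mem_subgroupOf]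
        exact ⟨fun e => ⟨l.2, mem_normalizer_of_cj_eq (congrArg Subtype.val e)⟩,
          fun e => Subtype.ext (cj_eq_of_mem_normalizer e.2)⟩
      have h1 := MulAction.index_stabilizer L0 (⟨R, h.pair.s1⟩ : Ω)
      rw [horb, Set.ncard_univ, h.nat0.card_sylIn hC, hst] at h1
      have h2 := Subgroup.card_mul_index (B.subgroupOf L0)
      rw [h1, Nat.card_congr (Subgroup.subgroupOfEquivOfLe inf_le_left).toEquiv, h.card_L0] at h2
      refine Nat.le_of_mul_le_mul_right (le_of_eq (h2.trans ?_)) (show 0 < q + 1 by omega)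
      obtain ⟨k, rfl⟩ : ∃ k, q = k + 1 := ⟨q - 1, by omega⟩
      rw [Nat.add_sub_cancel, show (k + 1) * (k + 1) - 1 = k * (k + 1 + 1) by
        have : (k + 1) * (k + 1) = k * (k + 1 + 1) + 1 := by ring
        omega]
      ring
    intro x hx
    obtain ⟨⟨r, a⟩, e⟩ := (hinj.bijective_of_nat_card_le hcard).2 ⟨x, hx⟩
    exact ⟨r, r.2, a, a.2, congrArg Subtype.val e⟩
  -- conjugate the second torus onto the first
  obtain ⟨b0, hb0, hb01⟩ := exists_ne_one_of_card (H := H') (by rw [t1.card]; omega)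
  obtain ⟨r, hr, a, ha, hra⟩ := hdec b0 (hH'B hb0)
  have ha1 : a ≠ 1 := fun e => hb01 ((two_of_mem h.pair.s1.2.1
    (by rw [← hra, e, mul_one]; exact hr)).eq_one_of_odd (hodd' b0 hb0))
  obtain ⟨y, hy, hy'⟩ := hC.conj_of_coset h.pair.s1.2.1 (hodd a ha) ha1
    (fun x hx => (Subgroup.mem_normalizer_iff.mp (t0.nor ha) x).mp hx) hr
  rw [hra] at hy'
  have hle : H' ≤ cj y H := by
    intro k hk
    obtain ⟨r', hr', a', ha', e⟩ := hdec (y⁻¹ * k * y)
      (mul_mem (mul_mem (inv_mem ⟨h.pair.s1.1 hy, Subgroup.le_normalizer hy⟩) (hH'B hk))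
        ⟨h.pair.s1.1 hy, Subgroup.le_normalizer hy⟩)
    rw [mem_cj]
    have hc : (y⁻¹ * k * y) * a = a * (y⁻¹ * k * y) := by
      calc y⁻¹ * k * y * a = y⁻¹ * (k * (y * a * y⁻¹)) * y := by group
        _ = a * (y⁻¹ * k * y) := by rw [hy', t1.comm k hk b0 hb0, ← hy']; group
    rw [← e] at hc ⊢
    have h1 : a * r' * a⁻¹ = r' := by
      rw [mul_inv_eq_iff_eq_mul]
      calc a * r' = a * (r' * a') * a'⁻¹ := by group
        _ = r' * (a' * a) * a'⁻¹ := by rw [← hc]; group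
        _ = r' * a := by rw [t0.comm a' ha' a ha]; group
    rw [hC.fpf (hodd a ha) ha1 (two_of_mem h.pair.s1.2.1 hr') h1, one_mul]
    exact ha'
  have heq : H' = cj y H := Subgroup.eq_of_le_of_card_ge hle (by rw [card_cj, t0.card, t1.card])
  refine ⟨H, w0, y⁻¹ * w1 * y, t0, (hHB.trans h.inf_normalizer_le), t0.nor, t0.card, t0.comm, ?_, ?_, ?_, ?_⟩
  · exact mul_mem (mul_mem (inv_mem (h.pair.s2.1 hy)) t1.wL) (h.pair.s2.1 hy)
  · calc y⁻¹ * w1 * y * (y⁻¹ * w1 * y) = y⁻¹ * (w1 * w1) * y := by group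
      _ = 1 := by rw [t1.wsq]; group
  · intro e
    refine t1.wR ?_
    rw [mul_assoc, ← cj_cj, ← cj_cj, cj_eq_of_mem hy] at e
    calc cj w1 R = cj y (cj y⁻¹ (cj w1 R)) := (cj_cj_inv _ _).symm
      _ = R := by rw [e, cj_eq_of_mem hy]
  · intro c hc
    have h2 := t1.inv (y * c * y⁻¹) (heq ▸ conj_mem_cj hc)
    calc y⁻¹ * w1 * y * c * (y⁻¹ * w1 * y)⁻¹ = y⁻¹ * (w1 * (y * c * y⁻¹) * w1⁻¹) * y := by group
      _ = c⁻¹ := by rw [h2]; group

end Cfsg.Agent.CIT
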