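import Cfsg.Agent.CIT.Torus
import Mathlib.Algebra.Field.IsField
import Mathlib.Algebra.Ring.Subring.Basic
import Mathlib.Algebra.Polynomial.Roots
import Mathlib.Algebra.CharP.Two

/-!
The centre of the common Sylow subgroup as a field; `q ≤ 8`.
-/

set_option autoImplicit false

universe u

namespace Cfsg.Agent.CIT

open Subgroup

variable {G : Type u} [Group G] [Finite G] {L0 L1 R H : Subgroup G} {q : ℕ} {w0 w1 : G}

/-- `Z = V₀ ∩ V₁` as a field, the torus acting by multiplication. -/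
structure ZMap (L0 L1 H : Subgroup G) (F : Type u) [Field F] (ι μ : F → G) : Prop where
  inj : Function.Injective ι
  mem : ∀ x, ι x ∈ vv L0 ⊓ vv L1
  surj : ∀ z ∈ vv L0 ⊓ vv L1, ∃ x, ι x = z
  add : ∀ x y, ι (x + y) = ι x * ι y
  muH : ∀ c, c ≠ 0 → μ c ∈ H
  smul : ∀ c, c ≠ 0 → ∀ x, μ c * ι x * (μ c)⁻¹ = ι (c * x)

theorem ZMap.zero {F : Type u} [Field F] {ι μ : F → G} (m : ZMap L0 L1 H F ι μ) : ι 0 = 1 := by
  have h := m.add 0 0
  rw [add_zero] at h
  exact left_eq_mul.mp h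

theorem ZMap.char_two {F : Type u} [Field F] {ι μ : F → G} (m : ZMap L0 L1 H F ι μ) (x : F) :
    x + x = 0 :=
  m.inj (by rw [m.add, m.zero]; exact vv_sq (m.mem x).1)

theorem Torus.odd (h : Torus L0 L1 R q H w0 w1) (hc : Conf L0 L1 R q) {a : G} (ha : a ∈ H) :
    Odd (orderOf a) :=
  Odd.of_dvd_nat (h.t0.card ▸ odd_sub_one hc.even_q hc.nat0.q2) (Subgroup.orderOf_dvd_natCard H ha)

theorem Torus.normalizes_Z (h : Torus L0 L1 R q H w0 w1) {a : G} (ha : a ∈ H) :
    cj a (vv L0 ⊓ vv L1) = vv L0 ⊓ vv L1 := by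
  rw [cj_inf, cj_eq_of_mem_normalizer (le_normalizer_vv L0 (h.t0.le ha)),
    cj_eq_of_mem_normalizer (le_normalizer_vv L1 (h.t1.le ha))]

theorem Torus.conj_Z (h : Torus L0 L1 R q H w0 w1) {a : G} (ha : a ∈ H) {z : G}
    (hz : z ∈ vv L0 ⊓ vv L1) : a * z * a⁻¹ ∈ vv L0 ⊓ vv L1 :=
  h.normalizes_Z ha ▸ conj_mem_cj hz

theorem Torus.regular (h : Torus L0 L1 R q H w0 w1) (hc : Conf L0 L1 R q) (hC : IsCIT G) {z z' : G}
    (hz : z ∈ vv L0 ⊓ vv L1) (hz1 : z ≠ 1) (hz' : z' ∈ vv L0 ⊓ vv L1) (hz'1 : z' ≠ 1) :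
    ∃ a ∈ H, a * z * a⁻¹ = z' := by
  classical
  let f : H → {x : (vv L0 ⊓ vv L1 : Subgroup G) // x ≠ 1} := fun a =>
    ⟨⟨_, h.conj_Z a.2 hz⟩, fun e => hz1 (conj_eq_one_iff.mp (congrArg Subtype.val e))⟩
  have hinj : Function.Injective f := by
    intro a b e
    have e1 : (a : G) * z * (a : G)⁻¹ = b * z * (b : G)⁻¹ :=
      congrArg (fun x : {x : (vv L0 ⊓ vv L1 : Subgroup G) // x ≠ 1} =>
        ((x.1 : (vv L0 ⊓ vv L1 : Subgroup G)) : G)) e
    by_contra hne
    refine hz1 (hC.fpf (h.odd hc (mul_mem (inv_mem b.2) a.2))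
      (fun e' => hne (Subtype.ext (inv_mul_eq_one.mp e').symm)) (two_of_sq (vv_sq hz.1)) ?_)
    calc (b : G)⁻¹ * a * z * ((b : G)⁻¹ * a)⁻¹ = (b : G)⁻¹ * ((a : G) * z * (a : G)⁻¹) * b := by group
      _ = z := by rw [e1]; group
  have hcard : Nat.card {x : (vv L0 ⊓ vv L1 : Subgroup G) // x ≠ 1} ≤ Nat.card H := by
    haveI : Fintype (vv L0 ⊓ vv L1 : Subgroup G) := Fintype.ofFinite _
    rw [Nat.card_eq_fintype_card, Fintype.card_subtype_compl, Fintype.card_subtype_eq,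
      ← Nat.card_eq_fintype_card, hc.card_Z, h.t0.card]
  obtain ⟨a, ha⟩ := (hinj.bijective_of_nat_card_le hcard).2
    ⟨⟨z', hz'⟩, fun e => hz'1 (congrArg Subtype.val e)⟩
  exact ⟨a, a.2, congrArg (fun x : {x : (vv L0 ⊓ vv L1 : Subgroup G) // x ≠ 1} =>
    ((x.1 : (vv L0 ⊓ vv L1 : Subgroup G)) : G)) ha⟩

theorem exists_zmap (hc : Conf L0 L1 R q) (h : Torus L0 L1 R q H w0 w1) (hC : IsCIT G) {z0 : G}
    (hz0 : z0 ∈ vv L0 ⊓ vv L1) (hz01 : z0 ≠ 1) :
    ∃ (F : Type u) (_ : Field F) (ι μ : F → G),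
      Nat.card F = q ∧ ZMap L0 L1 H F ι μ ∧ ι 1 = z0 := by
  classical
  set Z := vv L0 ⊓ vv L1 with hZ
  letI : CommGroup Z :=
    { (inferInstance : Group Z) with
      mul_comm := fun a b => Subtype.ext (vv_comm b.2.1 (vv_le L0 a.2.1)) }
  let φ : H → AddMonoid.End (Additive Z) := fun a =>
    MonoidHom.toAdditive (MonoidHom.mk' (fun z : Z => (⟨_, h.conj_Z a.2 z.2⟩ : Z))
      fun x y => Subtype.ext (by
        show (a : G) * ((x : G) * y) * (a : G)⁻¹ = (a : G) * x * (a : G)⁻¹ * ((a : G) * y * (a : G)⁻¹)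
        group))
  have hφ : ∀ (a : H) (z : Additive Z), (((φ a) z).toMul : G) = a * (z.toMul : G) * (a : G)⁻¹ :=
    fun _ _ => rfl
  have hext : ∀ f g : AddMonoid.End (Additive Z),
      (∀ z, ((f z).toMul : G) = (g z).toMul) → f = g := fun f g e =>
    AddMonoidHom.ext fun z => congrArg Additive.ofMul (Subtype.ext (e z))
  let S : Subring (AddMonoid.End (Additive Z)) := Subring.closure (Set.range φ)
  have hcomm : ∀ f ∈ S, ∀ g ∈ S, f * g = g * f := by
    have hgen : ∀ f ∈ Set.range φ, ∀ g ∈ Set.range φ, f * g = g * f := by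
      rintro _ ⟨a, rfl⟩ _ ⟨b, rfl⟩
      refine hext _ _ fun z => ?_
      show ((φ a (φ b z)).toMul : G) = (φ b (φ a z)).toMul
      rw [hφ, hφ, hφ, hφ,
        show (a : G) * ((b : G) * (z.toMul : G) * (b : G)⁻¹) * (a : G)⁻¹ =
          ((a : G) * b) * z.toMul * ((a : G) * b)⁻¹ by group, h.t0.comm a a.2 b b.2]
      group
    letI := Subring.closureCommRingOfComm (R := AddMonoid.End (Additive Z)) (s := Set.range φ) hgen
    intro f hf g hg
    exact congrArg Subtype.val (mul_comm (⟨f, hf⟩ : S) ⟨g, hg⟩)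
  letI : CommRing S :=
    { (inferInstance : Ring S) with mul_comm := fun f g => Subtype.ext (hcomm f f.2 g g.2) }
  let z0' : Additive Z := Additive.ofMul ⟨z0, hz0⟩
  have hφS : ∀ a : H, φ a ∈ S := fun a => Subring.subset_closure ⟨a, rfl⟩
  have hexh : ∀ z : Additive Z, z ≠ 0 → ∃ a : H, φ a z0' = z := by
    intro z hz
    obtain ⟨a, ha, e⟩ := h.regular hc hC hz0 hz01 z.toMul.2 (fun e => hz
      (congrArg Additive.ofMul (Subtype.ext e : z.toMul = 1)))
    exact ⟨⟨a, ha⟩, congrArg Additive.ofMul (Subtype.ext e)⟩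
  have hinj : ∀ f : S, (f : AddMonoid.End (Additive Z)) z0' = 0 → f = 0 := by
    intro f hf
    refine Subtype.ext (AddMonoidHom.ext fun z => ?_)
    by_cases hz : z = 0
    · subst hz; exact map_zero f.1
    · obtain ⟨a, rfl⟩ := hexh z hz
      show ((f : AddMonoid.End (Additive Z)) * φ a) z0' = 0
      rw [hcomm f f.2 _ (hφS a)]
      show φ a (f.1 z0') = 0
      rw [hf, map_zero]
  have hinj' : ∀ f g : S, (f : AddMonoid.End (Additive Z)) z0' = g.1 z0' → f = g := by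
    intro f g e
    refine sub_eq_zero.mp (hinj _ ?_)
    show f.1 z0' - g.1 z0' = 0
    rw [e, sub_self]
  have hfield : IsField S := by
    refine ⟨⟨0, 1, fun e => hz01 ?_⟩, mul_comm, fun {f} hf => ?_⟩
    · have e1 := congrArg (fun f : S => ((f.1 z0').toMul : G)) e
      exact e1.symm
    · obtain ⟨a, ha⟩ := hexh _ (fun e => hf (hinj f e))
      have hfa : f = ⟨φ a, hφS a⟩ := hinj' _ _ ha.symm
      refine ⟨⟨φ a⁻¹, hφS a⁻¹⟩, ?_⟩
      rw [hfa]
      refine Subtype.ext (hext _ _ fun z => ?_)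
      show ((φ a (φ a⁻¹ z)).toMul : G) = z.toMul
      rw [hφ, hφ, Subgroup.coe_inv]
      group
  letI := hfield.toField
  let ι : S → G := fun f => ((f.1 z0').toMul : Z)
  let μ : S → G := fun f => if hf : f = 0 then 1 else
    ((hexh _ (fun e => hf (hinj f e))).choose : H)
  refine ⟨S, inferInstance, ι, μ, ?_, ⟨?_, fun f => (f.1 z0').toMul.2, ?_, ?_, ?_, ?_⟩, rfl⟩
  · rw [← hc.card_Z]
    refine Nat.card_eq_of_bijective (fun f : S => ((f.1 z0').toMul : Z)) ⟨fun f g e => ?_, fun z => ?_⟩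
    · exact hinj' f g (congrArg Additive.ofMul e)
    · by_cases hz : z = 1
      · exact ⟨0, hz ▸ rfl⟩
      · obtain ⟨a, ha⟩ := hexh (Additive.ofMul z) (fun e => hz (congrArg Additive.toMul e))
        exact ⟨⟨φ a, hφS a⟩, congrArg Additive.toMul ha⟩
  · intro f g e
    exact hinj' f g (congrArg Additive.ofMul (Subtype.ext e))
  · intro z hz
    by_cases hz1 : z = 1
    · exact ⟨0, hz1 ▸ rfl⟩
    · obtain ⟨a, ha⟩ := hexh (Additive.ofMul ⟨z, hz⟩) (fun e => hz1
        (congrArg (fun y : Additive Z => (y.toMul : G)) e))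
      exact ⟨⟨φ a, hφS a⟩, congrArg (fun y : Additive Z => (y.toMul : G)) ha⟩
  · intro f g; rfl
  · intro c hc0
    simp only [μ, dif_neg hc0]
    exact Subtype.prop _
  · intro c hc0 f
    simp only [μ, dif_neg hc0]
    have hspec := (hexh _ (fun e => hc0 (hinj c e))).choose_spec
    set a := (hexh _ (fun e => hc0 (hinj c e))).choose
    have e : c = ⟨φ a, hφS a⟩ := hinj' _ _ hspec.symm
    show (a : G) * ((f.1 z0').toMul : G) * (a : G)⁻¹ = (((c * f : S).1 z0').toMul : G)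
    rw [e]
    exact (hφ a (f.1 z0')).symm

theorem Conf.commutator_mem (hc : Conf L0 L1 R q) {a b : G} (ha : a ∈ vv L0) (hb : b ∈ vv L1) :
    a * b * a⁻¹ * b⁻¹ ∈ vv L0 ⊓ vv L1 := by
  constructor
  · rw [show a * b * a⁻¹ * b⁻¹ = a * (b * a⁻¹ * b⁻¹) by group]
    exact mul_mem ha ((Subgroup.mem_normalizer_iff.mp
      (le_normalizer_vv L0 (hc.pair.s1.1 (hc.le1 hb))) _).mp ((vv L0).inv_mem ha))
  · exact mul_mem ((Subgroup.mem_normalizer_iff.mp
      (le_normalizer_vv L1 (hc.pair.s2.1 (hc.le0 ha))) _).mp hb) ((vv L1).inv_mem hb)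

theorem Torus.weyl_not_mem (hc : Conf L0 L1 R q) (h : Torus L0 L1 R q H w0 w1) (hC : IsCIT G) {z : G}
    (hz : z ∈ vv L0 ⊓ vv L1) (hz1 : z ≠ 1) :
    w0 * z * w0⁻¹ ∈ vv L0 ∧ w0 * z * w0⁻¹ ∉ vv L1 := by
  have hv : w0 * z * w0⁻¹ ∈ vv L0 :=
    (Subgroup.mem_normalizer_iff.mp (le_normalizer_vv L0 h.t0.wL) z).mp hz.1
  refine ⟨hv, fun h1 => h.t0.wR ?_⟩
  have hzR : z ∈ zz L0 R := by rw [hc.zz0]; exact hz
  have h2 : w0 * z * w0⁻¹ ∈ zz L0 R := by rw [hc.zz0]; exact ⟨hv, h1⟩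
  exact sylIn_eq_of_fix hC (hc.pair.s1.cj_mem h.t0.wL) hc.pair.s1 hv
    (fun e => hz1 (conj_eq_one_iff.mp e))
    (by rw [← cj_centralizer]; exact conj_mem_cj hzR.2) h2.2

theorem Torus.symm (h : Torus L0 L1 R q H w0 w1) : Torus L1 L0 R q H w1 w0 := ⟨h.t1, h.t0⟩

theorem Torus.q_le_eight (hc : Conf L0 L1 R q) (h : Torus L0 L1 R q H w0 w1) (hC : IsCIT G) :
    q ≤ 8 := by
  classical
  by_contra hq
  push Not at hq
  obtain ⟨z0, hz0, hz01⟩ := exists_ne_one_of_card (H := vv L0 ⊓ vv L1) (by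
    rw [hc.card_Z]; exact hc.nat0.q2)
  obtain ⟨F, iF, ι, μ, hF, m, hι1⟩ := exists_zmap hc h hC hz0 hz01
  haveI : Finite F := Nat.finite_of_card_ne_zero (by omega)
  haveI : Fintype F := Fintype.ofFinite F
  haveI : CharP F 2 := CharTwo.of_one_ne_zero_of_two_eq_zero one_ne_zero (by
    rw [← one_add_one_eq_two]; exact m.char_two 1)
  let a : F → G := fun x => w0 * ι x * w0⁻¹
  let b : F → G := fun x => w1 * ι x * w1⁻¹
  have ha : ∀ x, a x ∈ vv L0 := fun x =>
    (Subgroup.mem_normalizer_iff.mp (le_normalizer_vv L0 h.t0.wL) _).mp (m.mem x).1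
  have hb : ∀ x, b x ∈ vv L1 := fun x =>
    (Subgroup.mem_normalizer_iff.mp (le_normalizer_vv L1 h.t1.wL) _).mp (m.mem x).2
  have hg : ∀ x y, ∃ r, ι r = a x * b y * (a x)⁻¹ * (b y)⁻¹ := fun x y =>
    m.surj _ (hc.commutator_mem (ha x) (hb y))
  choose g hg using hg
  have haddl : ∀ x x' y, g (x + x') y = g x y + g x' y := by
    intro x x' y
    apply m.inj
    rw [m.add, hg, hg, hg,
      show a (x + x') = a x * a x' by simp only [a]; rw [m.add]; group]
    have h2 := hc.commutator_mem (ha x') (hb y)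
    have h3 : a x * (a x' * b y * (a x')⁻¹ * (b y)⁻¹) * (a x)⁻¹ = a x' * b y * (a x')⁻¹ * (b y)⁻¹ := by
      rw [vv_comm h2.1 (vv_le L0 (ha x)), mul_inv_cancel_right]
    have h1 := vv_comm (hc.commutator_mem (ha x) (hb y)).1 (vv_le L0 h2.1)
    calc a x * a x' * b y * (a x * a x')⁻¹ * (b y)⁻¹
        = (a x * (a x' * b y * (a x')⁻¹ * (b y)⁻¹) * (a x)⁻¹) * (a x * b y * (a x)⁻¹ * (b y)⁻¹) := by
          group
      _ = (a x * b y * (a x)⁻¹ * (b y)⁻¹) * (a x' * b y * (a x')⁻¹ * (b y)⁻¹) := by rw [h3, h1]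
  have haddr : ∀ x y y', g x (y + y') = g x y + g x y' := by
    intro x y y'
    apply m.inj
    rw [m.add, hg, hg, hg,
      show b (y + y') = b y * b y' by simp only [b]; rw [m.add]; group]
    have h3 : b y * (a x * b y' * (a x)⁻¹ * (b y')⁻¹) * (b y)⁻¹ = a x * b y' * (a x)⁻¹ * (b y')⁻¹ := by
      rw [vv_comm (hc.commutator_mem (ha x) (hb y')).2 (vv_le L1 (hb y)), mul_inv_cancel_right]
    calc a x * (b y * b y') * (a x)⁻¹ * (b y * b y')⁻¹
        = (a x * b y * (a x)⁻¹ * (b y)⁻¹) * (b y * (a x * b y' * (a x)⁻¹ * (b y')⁻¹) * (b y)⁻¹) := by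
          group
      _ = _ := by rw [h3]
  have hscale : ∀ c, c ≠ 0 → ∀ x y, g (c * x) (c * y) = c⁻¹ * g x y := by
    intro c hc0 x y
    apply m.inj
    have hH := m.muH c hc0
    have hc1 : ∀ r, ι (c⁻¹ * r) = (μ c)⁻¹ * ι r * μ c := by
      intro r
      have := m.smul c hc0 (c⁻¹ * r)
      rw [← mul_assoc, mul_inv_cancel₀ hc0, one_mul] at this
      rw [← this]; group
    have e0 : ∀ r, a (c * r) = (μ c)⁻¹ * a r * μ c := by
      intro r
      simp only [a]
      rw [← m.smul c hc0]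
      calc w0 * (μ c * ι r * (μ c)⁻¹) * w0⁻¹
          = (w0 * μ c * w0⁻¹) * (w0 * ι r * w0⁻¹) * (w0 * μ c * w0⁻¹)⁻¹ := by group
        _ = _ := by rw [h.t0.inv _ hH, inv_inv]
    have e1 : ∀ r, b (c * r) = (μ c)⁻¹ * b r * μ c := by
      intro r
      simp only [b]
      rw [← m.smul c hc0]
      calc w1 * (μ c * ι r * (μ c)⁻¹) * w1⁻¹
          = (w1 * μ c * w1⁻¹) * (w1 * ι r * w1⁻¹) * (w1 * μ c * w1⁻¹)⁻¹ := by group
        _ = _ := by rw [h.t1.inv _ hH, inv_inv]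
    rw [hg, hc1, hg, e0, e1]
    group
  have hk : g 1 1 ≠ 0 := by
    intro e
    have h1 := hg 1 1
    rw [e, m.zero] at h1
    have hz1 : ι (1 : F) ≠ 1 := by rw [hι1]; exact hz01
    have hA := h.weyl_not_mem hc hC (m.mem 1) hz1
    have hB := h.symm.weyl_not_mem hc.symm hC (z := ι 1) (by rw [inf_comm]; exact m.mem 1) hz1
    refine hA.2 (hc.mem_of_commute (ha 1) (hb 1) hB.2 ?_)
    have h2 := mul_inv_eq_one.mp h1.symm
    exact (mul_inv_eq_iff_eq_mul.mp h2).symm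
  set k := g 1 1
  have hQ : ∀ x : F, g x x = x⁻¹ * k := by
    intro x
    by_cases hx : x = 0
    · subst hx
      rw [inv_zero, zero_mul]
      have := haddl 0 0 0
      rw [add_zero, CharTwo.add_self_eq_zero] at this
      exact this
    · simpa using hscale x hx 1 1
  have hcube : ∀ x y z : F,
      (x + y + z)⁻¹ + (x + y)⁻¹ + (x + z)⁻¹ + (y + z)⁻¹ + x⁻¹ + y⁻¹ + z⁻¹ = 0 := by
    intro x y z
    have hsum : g (x + y + z) (x + y + z) + g (x + y) (x + y) + g (x + z) (x + z) +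
        g (y + z) (y + z) + g x x + g y y + g z z = 0 := by
      simp only [haddl, haddr]
      linear_combination (2 * g x x + 2 * g y y + 2 * g z z + g x y + g y x + g x z + g z x +
        g y z + g z y) * (CharTwo.two_eq_zero : (2 : F) = 0)
    simp only [hQ] at hsum
    exact (mul_eq_zero.mp (show ((x + y + z)⁻¹ + (x + y)⁻¹ + (x + z)⁻¹ + (y + z)⁻¹ + x⁻¹ + y⁻¹ + z⁻¹)
      * k = 0 by linear_combination hsum)).resolve_right hk
  -- a quadratic function cannot be the inversion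
  have hcard : Fintype.card F = q := by rw [← Nat.card_eq_fintype_card]; exact hF
  obtain ⟨c, hc0, hc1, hc2⟩ : ∃ c : F, c ≠ 0 ∧ c + 1 ≠ 0 ∧ c * c + c + 1 ≠ 0 := by
    by_contra hh
    push Not at hh
    let P : Polynomial F :=
      Polynomial.X * (Polynomial.X + 1) * (Polynomial.X * Polynomial.X + Polynomial.X + 1)
    have hdeg : P.natDegree = 4 := by
      simp only [P]; compute_degree!
    have := Polynomial.card_le_degree_of_subset_roots (p := P) (Z := Finset.univ) fun x _ => by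
      rw [Polynomial.mem_roots (fun e => by rw [e] at hdeg; simp at hdeg), Polynomial.IsRoot.def]
      simp only [P, Polynomial.eval_mul, Polynomial.eval_add, Polynomial.eval_X, Polynomial.eval_one]
      by_cases h0 : x = 0
      · rw [h0]; ring
      by_cases h1 : x + 1 = 0
      · rw [h1]; ring
      rw [hh x h0 h1, mul_zero]
    rw [Finset.card_univ, hcard, hdeg] at this
    omega
  set β := c * c + c with hβ
  set α := β + 1 with hα
  let P : Polynomial F :=
    Polynomial.C α * (Polynomial.X * (Polynomial.X + 1) * (Polynomial.X + Polynomial.C c) *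
      (Polynomial.X + Polynomial.C (c + 1))) + Polynomial.C (β * β)
  have hdeg : P.natDegree = 4 := by
    simp only [P]; compute_degree!
  have := Polynomial.card_le_degree_of_subset_roots (p := P)
    (Z := Finset.univ \ {0, 1, c, c + 1}) fun x hx => by
    have hx' : x ∈ (Finset.univ : Finset F) \ {0, 1, c, c + 1} := hx
    simp only [Finset.mem_sdiff, Finset.mem_univ, true_and, Finset.mem_insert, Finset.mem_singleton,
      not_or] at hx'
    obtain ⟨h0, h1, h2, h3⟩ := hx'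
    have e1 : x + 1 ≠ 0 := fun e => h1 (CharTwo.add_eq_zero.mp e)
    have e2 : x + c ≠ 0 := fun e => h2 (CharTwo.add_eq_zero.mp e)
    have e3 : x + (c + 1) ≠ 0 := fun e => h3 (CharTwo.add_eq_zero.mp e)
    have h := hcube 1 c x
    rw [Polynomial.mem_roots (fun e => by rw [e] at hdeg; simp at hdeg), Polynomial.IsRoot.def]
    simp only [P, Polynomial.eval_mul, Polynomial.eval_add, Polynomial.eval_X, Polynomial.eval_one,
      Polynomial.eval_C]
    rw [show 1 + c + x = x + (c + 1) by ring, show 1 + c = c + 1 by ring,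
      show 1 + x = x + 1 by ring, show c + x = x + c by ring, inv_one] at h
    field_simp at h
    have h2' : (2 : F) = 0 := CharTwo.two_eq_zero
    rw [hα, hβ]
    grind
  rw [hdeg] at this
  have hle : (({0, 1, c, c + 1} : Finset F)).card ≤ 4 := Finset.card_le_four
  have := Finset.le_card_sdiff ({0, 1, c, c + 1} : Finset F) Finset.univ
  rw [Finset.card_univ, hcard] at this
  omega

end Cfsg.Agent.CIT
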